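import Cfsg.Agent.H962.TC.Num_m3
import Cfsg.Agent.H140.TC.Fam_m3
import Cfsg.Agent.H538.TC.SLThreeC_m3
import Mathlib
import Cfsg.Agent.H141.SpinLev
import Cfsg.Agent.LieClassical.OrthFinite
import Cfsg.Agent.H950.Quad
import Cfsg.Agent.H144.AH.Base
import Cfsg.Agent.H955.Sp
import Cfsg.Agent.LieClassical.SympCenter
import Cfsg.Agent.S2445
import Cfsg.Agent.H68.CoInst_m3
import Cfsg.Agent.H494.TC.Base
import Cfsg.Agent.Lib.ListFast
import Cfsg.Agent.H97.TC.Zcent
import Cfsg.Agent.Mrg.Omega.TwoF.E7Odd_mg_m3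
import Cfsg.Agent.SporadicA.M11CharSimple
import Cfsg.Agent.Blocks.Basic
import Cfsg.Agent.SplitTwo.HexDefs
import Cfsg.Agent.Hexagon.G2Par
import Cfsg.Agent.H228.RegUnip
import Cfsg.Agent.S1026
import Cfsg.Agent.S1027
import Cfsg.Agent.J3Type.CharTools
import Cfsg.Agent.Blocks.Elementary
import Cfsg.Agent.S1037
import Cfsg.Agent.S1059
import Cfsg.Agent.H511.Ore.RowLy_m3
import Cfsg.Agent.S1055
import Cfsg.Agent.FastGrp
import Cfsg.Agent.Prune
set_option linter.all false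

section
prune_inst 0x7f00000000000000000000000000000000000000000000000000000000000000000000000000000000000000000000000000000000000000000000000000000000000000000000000000000000000000003fffffffffffffffffffffffffffbeffbdfbfeffff

section
prune_inst 0xbda9f9bab869dfdfff7e7fa698cdfdfb923fffa4dff9cb7fe061ff0b9f5b1049c5f38d0bea10fe0e56c01410e87b03f97eeeffe06bd87ffffd1ff41ffbffcfedf7b508519c8cb40fbc0ffe03f0778e7f000000000000000000000000000000000204010000

-- part: H781/TC6/Odd
section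
prune_inst 0x404406414096202000018050272200046d80000200003080089c00a440240aa6220822e411420030a92228c412009006811000130420000000a00040040010000808052063300a10406001f800000000000000000000000000000000000000000000000000
set_option linter.all false
open scoped Cfsg.Agent.FastGrp

-- part: H781/TC6/Eng
section
/-!
# S2464, `Ω_(2n+1)(q)`, `q` odd: the engine (helper781)

`x₀ = y₀ = lev (X₀, 1)`, `X₀` of irreducible characteristic polynomial.
-/

set_option autoImplicit false
set_option linter.unusedSectionVars false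

namespace Cfsg.Agent.H781.TC6

open Module QuadraticMap Matrix Polynomial Cfsg.Agent.LieClassical.OrthCore Cfsg.Agent.LieClassical.OrthTrans
  Cfsg.Agent.LieClassical.OrthFinite Cfsg.Agent.H140.OreO Cfsg.Agent.H126.PwO Cfsg.Agent.H962.PP
  Cfsg.Agent.H141.SpinFacts Cfsg.Agent.H160.QSpin
open Cfsg.Agent.H434.Corn (MaxTS)
open Cfsg.Agent.H140.TC

variable {F V : Type*} [Field F] [AddCommGroup V] [Module F V] {Q : QuadraticForm F V}

theorem neg_mem_O : (LinearEquiv.neg F : V ≃ₗ[F] V) ∈ O Q := by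
  rw [mem_O]
  intro v
  simp only [_root_.LinearEquiv.coe_neg, _root_.Pi.neg_apply, _root_.id_eq, _root_.QuadraticMap.map_neg]

theorem det_neg_odd [FiniteDimensional F V] (h : Odd (finrank F V)) :
    LinearEquiv.det (LinearEquiv.neg F : V ≃ₗ[F] V) = -1 := by
  apply Units.ext
  rw [LinearEquiv.coe_det]
  have h1 : ((LinearEquiv.neg F : V ≃ₗ[F] V) : V →ₗ[F] V) = (-1 : F) • LinearMap.id := by
    ext v
    simp
  rw [h1, LinearMap.det_smul, LinearMap.det_id, h.neg_one_pow]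
  simp

theorem neg_comm (g : V ≃ₗ[F] V) : (LinearEquiv.neg F : V ≃ₗ[F] V) * g = g * LinearEquiv.neg F := by
  ext v
  simp only [LinearEquiv.mul_apply, _root_.LinearEquiv.coe_neg, _root_.Pi.neg_apply, _root_.id_eq, _root_.map_neg]

section Model

variable {U : Type*} [AddCommGroup U] [Module F U] {q : QuadraticForm F U} {m : ℕ}

/-- the class of `lev X₀ 1` is invariant under the orthogonal group -/
theorem conj_model [Finite F] [FiniteDimensional F U] (h2 : (2 : F) ≠ 0) (hq : Nondeg q) (hG : Good (MQ m q))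
    (hdim : Odd (finrank F (M F U m))) {X₀ Z : GL (Fin m) F} (hZ : Z * X₀ = X₀ * Z)
    (hns : ¬ IsSquare (Z : Matrix (Fin m) (Fin m) F).det) {S : M F U m ≃ₗ[F] M F U m} (hS : S ∈ O (MQ m q)) :
    ∃ u ∈ Om (MQ m q), S * lev X₀ (1 : U ≃ₗ[F] U) * S⁻¹ = u * lev X₀ (1 : U ≃ₗ[F] U) * u⁻¹ := by
  have hfU : Finite U := Module.finite_of_finite F
  have hfM : Finite (M F U m) := inferInstance
  have hx₀ : lev X₀ (1 : U ≃ₗ[F] U) ∈ O (MQ m q) := lev_mem (O _).one_mem
  have hz : lev Z (1 : U ≃ₗ[F] U) ∈ O (MQ m q) := lev_mem (O _).one_mem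
  let C : Subgroup (O (MQ m q)) := Subgroup.centralizer {⟨lev X₀ 1, hx₀⟩}
  have hC : ∀ h : O (MQ m q), h ∈ C ↔ lev X₀ (1 : U ≃ₗ[F] U) * (h : M F U m ≃ₗ[F] M F U m) =
      (h : M F U m ≃ₗ[F] M F U m) * lev X₀ (1 : U ≃ₗ[F] U) := by
    intro h
    rw [Subgroup.mem_centralizer_singleton_iff]
    constructor
    · intro h1
      exact (congrArg Subtype.val h1).symm
    · intro h1
      exact Subtype.ext h1.symm
  have hzC : (⟨lev Z 1, hz⟩ : O (MQ m q)) ∈ C := by
    rw [hC]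
    show lev X₀ (1 : U ≃ₗ[F] U) * lev Z (1 : U ≃ₗ[F] U) = lev Z (1 : U ≃ₗ[F] U) * lev X₀ (1 : U ≃ₗ[F] U)
    rw [← lev_mul, ← lev_mul, hZ]
  have hnC : (⟨LinearEquiv.neg F, neg_mem_O⟩ : O (MQ m q)) ∈ C := by
    rw [hC]
    exact (neg_comm _).symm
  have hspz : spin (MQ m q) ⟨lev Z 1, hz⟩ = -1 := by
    have h1 := spin_lev h2 hq Z (O q).one_mem
    have h3 : (⟨(1 : U ≃ₗ[F] U), (O q).one_mem⟩ : O q) = 1 := rfl
    rw [h3, map_one, mul_one] at h1
    rw [h1]
    rcases Int.units_eq_one_or (chi (Z : Matrix (Fin m) (Fin m) F).det) with h | h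
    · exact absurd ((chi_eq_one_iff _).1 h) hns
    · exact h
  have key := pj_mem hG (C.map (pj (MQ m q))) (fun v hv => by
    -- `c ∈ C` with the determinant and spinor norm of the reflection
    have hex : ∃ c ∈ C, LinearEquiv.det (c : M F U m ≃ₗ[F] M F U m) = -1 ∧
        spin (MQ m q) c = spin (MQ m q) (rO (MQ m q) v hv) := by
      rcases Int.units_eq_one_or (spin (MQ m q) ⟨LinearEquiv.neg F, neg_mem_O⟩ *
        spin (MQ m q) (rO (MQ m q) v hv)) with h | h
      · refine ⟨_, hnC, det_neg_odd hdim, ?_⟩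
        have h5 : spin (MQ m q) (rO (MQ m q) v hv) * spin (MQ m q) (rO (MQ m q) v hv) = 1 := Int.units_mul_self _
        calc spin (MQ m q) ⟨LinearEquiv.neg F, neg_mem_O⟩ = (spin (MQ m q) ⟨LinearEquiv.neg F, neg_mem_O⟩ *
            spin (MQ m q) (rO (MQ m q) v hv)) * spin (MQ m q) (rO (MQ m q) v hv) := by
              rw [mul_assoc, h5, mul_one]
          _ = _ := by rw [h, one_mul]
      · refine ⟨_, C.mul_mem hnC hzC, ?_, ?_⟩
        · show LinearEquiv.det ((LinearEquiv.neg F : M F U m ≃ₗ[F] M F U m) * lev Z 1) = -1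
          rw [map_mul, det_neg_odd hdim, det_lev, map_one, mul_one]
        · have h5 : spin (MQ m q) (rO (MQ m q) v hv) * spin (MQ m q) (rO (MQ m q) v hv) = 1 := Int.units_mul_self _
          rw [map_mul, hspz]
          calc spin (MQ m q) ⟨LinearEquiv.neg F, neg_mem_O⟩ * -1 = (spin (MQ m q) ⟨LinearEquiv.neg F, neg_mem_O⟩ *
              spin (MQ m q) (rO (MQ m q) v hv)) * spin (MQ m q) (rO (MQ m q) v hv) * -1 := by
                rw [mul_assoc (spin (MQ m q) ⟨LinearEquiv.neg F, neg_mem_O⟩), h5, mul_one]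
            _ = _ := by rw [h]; simp
    obtain ⟨c, hcC, hcd, hcs⟩ := hex
    refine ⟨c, hcC, ?_⟩
    have h3 : pj (MQ m q) (c * (rO (MQ m q) v hv)) = 1 := by
      rw [pj_eq_one_iff]
      have hmem : ((c * rO (MQ m q) v hv : O (MQ m q)) : M F U m ≃ₗ[F] M F U m) ∈ O (MQ m q) :=
        (c * rO (MQ m q) v hv).2
      apply mem_Om_of_odd h2 hG hmem
      · show LinearEquiv.det ((c : M F U m ≃ₗ[F] M F U m) * _root_.Cfsg.Agent.LieClassical.OrthCore.refl (MQ m q) v hv) = 1
        rw [map_mul, hcd, det_refl]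
        simp
      · have h6 : (⟨((c * rO (MQ m q) v hv : O (MQ m q)) : M F U m ≃ₗ[F] M F U m), hmem⟩ : O (MQ m q)) =
            c * rO (MQ m q) v hv := rfl
        rw [h6, map_mul, hcs]
        exact Int.units_mul_self _
    rw [map_mul] at h3
    have h4 := pj_rO_sq (Q := MQ m q) hv
    calc pj (MQ m q) c = pj (MQ m q) c * (pj (MQ m q) (rO (MQ m q) v hv) * pj (MQ m q) (rO (MQ m q) v hv)) := by
          rw [h4, mul_one]
      _ = (pj (MQ m q) c * pj (MQ m q) (rO (MQ m q) v hv)) * pj (MQ m q) (rO (MQ m q) v hv) := by rw [mul_assoc]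
      _ = _ := by rw [h3, one_mul]) ⟨S, hS⟩
  obtain ⟨h, hhC, hh⟩ := key
  have h1 : lev X₀ (1 : U ≃ₗ[F] U) * (h : M F U m ≃ₗ[F] M F U m) =
      (h : M F U m ≃ₗ[F] M F U m) * lev X₀ (1 : U ≃ₗ[F] U) := (hC h).1 hhC
  have h3 : pj (MQ m q) (⟨S, hS⟩ * h⁻¹) = 1 := by
    rw [map_mul, map_inv, hh, mul_inv_cancel]
  rw [pj_eq_one_iff] at h3
  refine ⟨S * (h : M F U m ≃ₗ[F] M F U m)⁻¹, h3, ?_⟩
  have h4 : (h : M F U m ≃ₗ[F] M F U m)⁻¹ * lev X₀ (1 : U ≃ₗ[F] U) * (h : M F U m ≃ₗ[F] M F U m) =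
      lev X₀ (1 : U ≃ₗ[F] U) := by
    rw [mul_assoc, h1, ← mul_assoc, inv_mul_cancel, one_mul]
  conv_lhs => rw [← h4]
  group

end Model

section Frame

variable [Finite F] [FiniteDimensional F V] {m : ℕ}

theorem conj_V (h2 : (2 : F) ≠ 0) (hQ : Nondeg Q) (hdim : finrank F V = 2 * m + 1) (hm : 2 ≤ m)
    {e e' : Fin m → V} (hf : Frame Q e e') {X₀ Z : GL (Fin m) F} (hZ : Z * X₀ = X₀ * Z)
    (hns : ¬ IsSquare (Z : Matrix (Fin m) (Fin m) F).det) {S : V ≃ₗ[F] V} (hS : S ∈ O Q) :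
    ∃ u ∈ Om Q, S * (autE hf.toModel).symm (lev X₀ (1 : perp Q e e' ≃ₗ[F] perp Q e e')) * S⁻¹ =
      u * (autE hf.toModel).symm (lev X₀ (1 : perp Q e e' ≃ₗ[F] perp Q e e')) * u⁻¹ := by
  have he : ∀ v, MQ m (res Q e e') (hf.toModel v) = Q v := hf.MQ_toModel
  have hq := hf.nondeg_res hQ
  have hfr : finrank F (M F (perp Q e e') m) = 2 * m + 1 := by rw [← hf.toModel.finrank_eq, hdim]
  have hG : Good (MQ m (res Q e e')) := good_of_finite (nondeg_MQ hq) (by omega)
  obtain ⟨u, hu, hue⟩ := conj_model h2 hq hG (by rw [hfr]; exact ⟨m, rfl⟩) hZ hns ((autE_mem_O he).2 hS)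
  refine ⟨(autE hf.toModel).symm u, ?_, ?_⟩
  · rw [← autE_mem_Om he, MulEquiv.apply_symm_apply]
    exact hu
  · apply (autE hf.toModel).injective
    simp only [map_mul, map_inv, MulEquiv.apply_symm_apply]
    exact hue

theorem copP_irr {U : Type*} [AddCommGroup U] [Module F U] {N : ℕ} {f : F[X]} (hm : 3 ≤ m) (hgf : GF m N f) :
    CopP m f (1 : U ≃ₗ[F] U) := by
  have hr : RP m f := ⟨hgf.monic, hgf.irr, hgf.deg, hgf.cop⟩
  have h0 := hr.coeff_ne (by omega)
  refine copP_of_cop (un_one (hr.eval_ne (by omega) 1)) (un_one ?_) hgf.cop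
  exact eval_ne_zero (irreducible_rev hgf.irr h0) (by rw [natDegree_rev h0, hgf.deg]; omega) 1

/-- **The engine.** -/
theorem twoOf_irr (h2 : (2 : F) ≠ 0) (hQ : Nondeg Q) (hm : 3 ≤ m) (hdim : finrank F V = 2 * m + 1)
    (hW : ∀ W, MaxTS Q W → finrank F W = m) {e e' : Fin m → V} (hf : Frame Q e e') {N : ℕ} {f : F[X]}
    (hgf : GF m N f) (hTL : TLf m f) {X₀ : GL (Fin m) F} (hX₀ : (X₀ : Matrix (Fin m) (Fin m) F).charpoly = f) :
    TwoOf Q ((autE hf.toModel).symm (lev X₀ 1)) ((autE hf.toModel).symm (lev X₀ 1)) := by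
  intro g hg hns
  have hG : Good Q := good_of_finite hQ (by omega)
  have he : ∀ v, MQ m (res Q e e') (hf.toModel v) = Q v := hf.MQ_toModel
  obtain ⟨w, w', hfw, hS, hAdet, hA⟩ := nsCorner hQ hg hns (by omega) hW
  obtain ⟨T, hT, hTl, hTr⟩ := frame_trans hQ hf hfw
  obtain ⟨g', hg'⟩ : ∃ g', g' = T⁻¹ * g * T := ⟨_, rfl⟩
  have hTi : ∀ v v', T⁻¹ v = v' ↔ v = T v' := fun v v' => LinearEquiv.symm_apply_eq T
  have hg'a : ∀ v, T (g' v) = g (T v) := by
    intro v
    rw [hg']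
    exact T.apply_symm_apply _
  have hgO : g ∈ O Q := Om_le hg
  have hg'O : g' ∈ O Q := by
    rw [hg']
    exact (O Q).mul_mem ((O Q).mul_mem ((O Q).inv_mem hT) hgO) hT
  have hcor : corner Q g' e e' = corner Q g w w' := by
    ext i j
    rw [corner_apply, corner_apply, ← polar_map hT, hg'a, hTl, hTr]
  have hS' : SchurOne Q g' e e' := by
    intro v hv
    have hTv : T v ∈ perp Q w w' := by
      intro i
      rw [← hTl, ← hTr, polar_map hT, polar_map hT]
      exact hv i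
    obtain ⟨c, d, hcd⟩ := hS (T v) hTv
    refine ⟨c, d, ?_⟩
    apply T.injective
    have e1 : T (v + ∑ i, c i • e i) = T v + ∑ i, c i • w i := by
      rw [map_add, map_sum]
      simp only [map_smul, hTl]
    have e2 : T (v + ∑ i, d i • e' i) = T v + ∑ i, d i • w' i := by
      rw [map_add, map_sum]
      simp only [map_smul, hTr]
    rw [hg'a, e1, e2, hcd]
  have hAne : (corner Q g w w').det ≠ 0 := by rw [hAdet]; exact one_ne_zero
  obtain ⟨A, hAe⟩ : ∃ A : GL (Fin m) F, (A : Matrix _ _ F) = corner Q g w w' :=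
    ⟨Matrix.GeneralLinearGroup.mkOfDetNeZero _ hAne, rfl⟩
  obtain ⟨u₁, hu₁, g₁, hg₁, u₂, hu₂, edec⟩ := decomp ((autE_mem_O he).2 hg'O) A (fun a => by
    rw [corner_model, hcor, hAe])
  have h1 : g₁ = 1 := by
    apply LinearEquiv.ext
    intro v
    obtain ⟨c, d, hcd⟩ := schur_model hf hS' v
    exact schur_one_of hu₁ hu₂ edec hcd
  -- the factorisation of the corner
  obtain ⟨X, Y, hXY, hX, hY⟩ := hTL (corner Q g w w') hAdet hA
  have hcyc : ∀ {Z : Matrix (Fin m) (Fin m) F}, Z.charpoly = f → Cyc Z := fun {Z} hZ =>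
    cyc_of_irr (by omega) (by rw [hZ]; exact hgf.irr)
  obtain ⟨P, hP, hPX⟩ := conj_of_cyc (hcyc hX₀) (hcyc hX) (by rw [hX₀, hX])
  obtain ⟨R, hR, hRY⟩ := conj_of_cyc (hcyc hX₀) (hcyc hY) (by rw [hX₀, hY])
  obtain ⟨P', hP'⟩ : ∃ P' : GL (Fin m) F, (P' : Matrix _ _ F) = P :=
    ⟨Matrix.GeneralLinearGroup.mkOfDetNeZero P hP.ne_zero, rfl⟩
  obtain ⟨R', hR'⟩ : ∃ R' : GL (Fin m) F, (R' : Matrix _ _ F) = R :=
    ⟨Matrix.GeneralLinearGroup.mkOfDetNeZero R hR.ne_zero, rfl⟩
  have hPi : ((P'⁻¹ : GL (Fin m) F) : Matrix _ _ F) = P⁻¹ := by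
    rw [Matrix.coe_units_inv, hP']
  have hRi : ((R'⁻¹ : GL (Fin m) F) : Matrix _ _ F) = R⁻¹ := by
    rw [Matrix.coe_units_inv, hR']
  have hcP : ((P' * X₀ * P'⁻¹ : GL (Fin m) F) : Matrix (Fin m) (Fin m) F) = X := by
    simp only [Units.val_mul]
    rw [hPi, hP', ← hPX]
  have hcR : ((R' * X₀ * R'⁻¹ : GL (Fin m) F) : Matrix (Fin m) (Fin m) F) = Y := by
    simp only [Units.val_mul]
    rw [hRi, hR', ← hRY]
  have hAXY : A = (P' * X₀ * P'⁻¹) * (R' * X₀ * R'⁻¹) := by
    apply Units.ext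
    rw [Units.val_mul, hcP, hcR, hXY, hAe]
  have hXx : Cop (P' * X₀ * P'⁻¹) (1 : perp Q e e' ≃ₗ[F] perp Q e e') :=
    copP_irr hm hgf _ (by rw [hcP, hX])
  have hYy : Cop (R' * X₀ * R'⁻¹) (1 : perp Q e e' ≃ₗ[F] perp Q e e') :=
    copP_irr hm hgf _ (by rw [hcR, hY])
  obtain ⟨v₁, hv₁, v₂, hv₂, e2⟩ := stepPr hu₁ hu₂ hAXY (g₁ := g₁) (x := 1) (y := 1) (by rw [h1, mul_one])
    (O _).one_mem (O _).one_mem hXx hYy
  rw [← edec] at e2
  have e3 : ∀ (Z W : GL (Fin m) F),
      lev (Z * W * Z⁻¹) (1 : perp Q e e' ≃ₗ[F] perp Q e e') =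
        lev Z (1 : perp Q e e' ≃ₗ[F] perp Q e e') * lev W (1 : perp Q e e' ≃ₗ[F] perp Q e e') *
          (lev Z (1 : perp Q e e' ≃ₗ[F] perp Q e e'))⁻¹ := by
    intro Z W
    rw [← lev_inv, ← lev_mul, ← lev_mul, one_mul, inv_one, mul_one]
  rw [e3, e3] at e2
  have back : ∀ s ∈ Om (MQ m (res Q e e')), (autE hf.toModel).symm s ∈ O Q := by
    intro s hs
    rw [← autE_mem_O he, MulEquiv.apply_symm_apply]
    exact Om_le hs
  have backL : ∀ Z : GL (Fin m) F, (autE hf.toModel).symm (lev Z (1 : perp Q e e' ≃ₗ[F] perp Q e e')) ∈ O Q := by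
    intro Z
    rw [← autE_mem_O he, MulEquiv.apply_symm_apply]
    exact lev_mem (O _).one_mem
  obtain ⟨s₁, hs₁⟩ : ∃ s, s = T * (autE hf.toModel).symm v₁ * (autE hf.toModel).symm (lev P' 1) := ⟨_, rfl⟩
  obtain ⟨s₂, hs₂⟩ : ∃ s, s = T * (autE hf.toModel).symm v₂ * (autE hf.toModel).symm (lev R' 1) := ⟨_, rfl⟩
  have hs₁O : s₁ ∈ O Q := by
    rw [hs₁]
    exact (O Q).mul_mem ((O Q).mul_mem hT (back _ hv₁)) (backL _)
  have hs₂O : s₂ ∈ O Q := by
    rw [hs₂]
    exact (O Q).mul_mem ((O Q).mul_mem hT (back _ hv₂)) (backL _)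
  have e4 : g = (s₁ * (autE hf.toModel).symm (lev X₀ 1) * s₁⁻¹) *
      (s₂ * (autE hf.toModel).symm (lev X₀ 1) * s₂⁻¹) := by
    have e5 : g' = (autE hf.toModel).symm (v₁ * (lev P' 1 * lev X₀ 1 * (lev P' 1)⁻¹) * v₁⁻¹ *
        (v₂ * (lev R' 1 * lev X₀ 1 * (lev R' 1)⁻¹) * v₂⁻¹)) := by
      rw [← e2, MulEquiv.symm_apply_apply]
    have e6 : g = T * g' * T⁻¹ := by rw [hg']; group
    rw [e6, e5, hs₁, hs₂]
    simp only [map_mul, map_inv]
    group
  obtain ⟨Z, hZ, hZs⟩ := hgf.nsq _ hX₀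
  have hZ' : Z * X₀ = X₀ * Z := Units.ext hZ
  obtain ⟨u, hu, eu⟩ := conj_V h2 hQ hdim (by omega) hf hZ' hZs hs₁O
  obtain ⟨v, hv, ev⟩ := conj_V h2 hQ hdim (by omega) hf hZ' hZs hs₂O
  exact ⟨u, hu, v, hv, by rw [e4, eu, ev]⟩

end Frame

end Cfsg.Agent.H781.TC6
end

-- part: H781/TC6/Odd
section
/-!
# S2464, `Ω_(2n+1)(q)`, `q` odd (helper781)

* `six_odd_of` : `GF n N f → TLf n f → N.Coprime 6 →` two classes of order prime to `6` in `POmega F (quadFormOdd n F)`.
-/

set_option autoImplicit false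
set_option linter.unusedSectionVars false

namespace Cfsg.Agent.H781.TC6

open Module QuadraticMap Matrix Polynomial Cfsg.Agent.LieClassical.OrthCore Cfsg.Agent.LieClassical.OrthTrans
  Cfsg.Agent.LieClassical.OrthFinite Cfsg.Agent.LieClassical.OrthForms Cfsg.Agent.H140.OreO Cfsg.Agent.H126.PwO
  Cfsg.Agent.H962.PP Cfsg.Agent.H141.SpinFacts
open Cfsg.Agent.H434.Corn (MaxTS)
open Cfsg.Agent.H140.TC

/-- two classes of elements of order prime to `6` -/
def T6 (G : Type*) [Group G] : Prop :=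
  ∃ x y : G, Nat.Coprime (orderOf x) 6 ∧ Nat.Coprime (orderOf y) 6 ∧
    ∀ g : G, g ≠ 1 → ∃ u v : G, g = (u * x * u⁻¹) * (v * y * v⁻¹)

theorem T6.of_equiv {G H : Type*} [Group G] [Group H] (e : G ≃* H) (h : T6 H) : T6 G := by
  obtain ⟨a, b, ha, hb, h⟩ := h
  refine ⟨e.symm a, e.symm b, ?_, ?_, fun g hg => ?_⟩
  · rw [MulEquiv.orderOf_eq]; exact ha
  · rw [MulEquiv.orderOf_eq]; exact hb
  obtain ⟨u, v, e'⟩ := h (e g) (by
    intro h1
    exact hg (e.injective (by rw [h1, map_one])))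
  refine ⟨e.symm u, e.symm v, ?_⟩
  apply e.injective
  rw [e']
  simp only [_root_.map_mul, _root_.MulEquiv.apply_symm_apply, _root_.map_inv]

/-- two fixed classes of order dividing `N` for isometries -/
def TwoN {F V : Type*} [Field F] [AddCommGroup V] [Module F V] (N : ℕ) (Q : QuadraticForm F V) : Prop :=
  ∃ x₀ ∈ Om Q, ∃ y₀ ∈ Om Q, x₀ ^ N = 1 ∧ y₀ ^ N = 1 ∧ TwoOf Q x₀ y₀

theorem t6_of_two {ι : Type} [Fintype ι] [DecidableEq ι] {F : Type*} [Field F] {N : ℕ} (hN : N.Coprime 6)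
    (Q : QuadraticForm F (ι → F)) (h : TwoN N Q) : T6 (Cfsg.POmega F ⇑Q) := by
  obtain ⟨x₀, hx₀, y₀, hy₀, hxN, hyN, h⟩ := h
  have ho : ∀ (x : (ι → F) ≃ₗ[F] (ι → F)) (hx : x ∈ Om Q), x ^ N = 1 →
      Nat.Coprime (orderOf (QuotientGroup.mk ((omegaEquiv Q).symm ⟨x, hx⟩) : Cfsg.POmega F ⇑Q)) 6 := by
    intro x hx hxN
    apply Nat.Coprime.coprime_dvd_left _ hN
    apply orderOf_dvd_of_pow_eq_one
    have h1 : ((omegaEquiv Q).symm ⟨x, hx⟩) ^ N = 1 := by
      rw [← map_pow]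
      have h2 : (⟨x, hx⟩ : Om Q) ^ N = 1 := Subtype.ext hxN
      rw [h2, map_one]
    rw [← QuotientGroup.mk_pow, h1]
    rfl
  refine ⟨QuotientGroup.mk ((omegaEquiv Q).symm ⟨x₀, hx₀⟩), QuotientGroup.mk ((omegaEquiv Q).symm ⟨y₀, hy₀⟩),
    ho _ hx₀ hxN, ho _ hy₀ hyN, fun g hg => ?_⟩
  obtain ⟨g, rfl⟩ := QuotientGroup.mk_surjective g
  have hs : ∀ c : F, ∃ v, (omegaEquiv Q g : (ι → F) ≃ₗ[F] (ι → F)) v ≠ c • v := by
    by_contra hs
    push Not at hs
    obtain ⟨c, hc⟩ := hs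
    apply hg
    have hcen : g ∈ Subgroup.center (Cfsg.Omega F ⇑Q) := by
      rw [Subgroup.mem_center_iff]
      intro k
      apply (omegaEquiv Q).injective
      rw [map_mul, map_mul]
      apply Subtype.ext
      apply LinearEquiv.ext
      intro v
      show (omegaEquiv Q k : (ι → F) ≃ₗ[F] (ι → F)) ((omegaEquiv Q g : (ι → F) ≃ₗ[F] (ι → F)) v) =
        (omegaEquiv Q g : (ι → F) ≃ₗ[F] (ι → F)) ((omegaEquiv Q k : (ι → F) ≃ₗ[F] (ι → F)) v)
      rw [hc, hc, map_smul]
    exact (QuotientGroup.eq_one_iff g).2 hcen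
  obtain ⟨u, hu, v, hv, e⟩ := h _ (omegaEquiv Q g).2 hs
  refine ⟨QuotientGroup.mk ((omegaEquiv Q).symm ⟨u, hu⟩), QuotientGroup.mk ((omegaEquiv Q).symm ⟨v, hv⟩), ?_⟩
  have e2 : g = ((omegaEquiv Q).symm ⟨u, hu⟩ * (omegaEquiv Q).symm ⟨x₀, hx₀⟩ * ((omegaEquiv Q).symm ⟨u, hu⟩)⁻¹) *
      ((omegaEquiv Q).symm ⟨v, hv⟩ * (omegaEquiv Q).symm ⟨y₀, hy₀⟩ * ((omegaEquiv Q).symm ⟨v, hv⟩)⁻¹) := by
    apply (omegaEquiv Q).injective
    simp only [map_mul, map_inv, MulEquiv.apply_symm_apply]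
    exact Subtype.ext e
  conv_lhs => rw [e2]
  rfl

section Fin

variable {F V : Type*} [Field F] [AddCommGroup V] [Module F V] {Q : QuadraticForm F V} [Finite F]
  [FiniteDimensional F V]

theorem twoN_odd (h2 : (2 : F) ≠ 0) (hQ : Nondeg Q) {m : ℕ} (hm : 3 ≤ m) (hdim : finrank F V = 2 * m + 1)
    (hW : ∀ W, MaxTS Q W → finrank F W = m) {N : ℕ} {f : F[X]} (hgf : GF m N f) (hTL : TLf m f) : TwoN N Q := by
  by_cases h : ∃ g ∈ Om Q, ∀ c : F, ∃ v, g v ≠ c • v
  · obtain ⟨g, hg, hns⟩ := h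
    obtain ⟨e, e', hf, -⟩ := nsCorner hQ hg hns hm hW
    have hf0 : f.coeff 0 ≠ 0 := by
      intro h0
      have := hgf.c0
      rw [h0, mul_zero] at this
      exact zero_ne_one this
    obtain ⟨B, hB⟩ := exists_matrix f hgf.monic hf0 hgf.deg
    have hc0 := hgf.c0
    have hBd : (B : Matrix (Fin m) (Fin m) F).det = 1 := det_of_charpoly hB hc0
    have hBN : B ^ N = 1 := pow_of_charpoly hB hgf.dvd
    have he : ∀ v, MQ m (res Q e e') (hf.toModel v) = Q v := hf.MQ_toModel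
    have hG : Good (MQ m (res Q e e')) := good_model hQ hm hf
    have hOm : lev B (1 : perp Q e e' ≃ₗ[F] perp Q e e') ∈ Om (MQ m (res Q e e')) :=
      lev_det_one_mem hG hBd
    have hOm' : (autE hf.toModel).symm (lev B (1 : perp Q e e' ≃ₗ[F] perp Q e e')) ∈ Om Q := by
      rw [← autE_mem_Om he, MulEquiv.apply_symm_apply]
      exact hOm
    have hpow : ((autE hf.toModel).symm (lev B (1 : perp Q e e' ≃ₗ[F] perp Q e e'))) ^ N = 1 := by
      rw [← map_pow, lev_pow, hBN, one_pow, lev_one, map_one]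
    exact ⟨_, hOm', _, hOm', hpow, hpow, twoOf_irr h2 hQ hm hdim hW hf hgf hTL hB⟩
  · exact ⟨1, one_mem _, 1, one_mem _, one_pow _, one_pow _, fun g hg hns => absurd ⟨g, hg, hns⟩ h⟩

end Fin

/-- **The row `Ω_(2n+1)(q)`, `q` odd, from a good polynomial and Theorem L.** -/
theorem t6_odd_of {F : Type*} [Field F] [Fintype F] (hodd : Odd (Fintype.card F)) {n N : ℕ} (hn : 3 ≤ n) {f : F[X]}
    (hN : N.Coprime 6) (hgf : GF n N f) (hTL : TLf n f) : T6 (Cfsg.POmega F (Cfsg.quadFormOdd n F)) := by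
  have h2 : (2 : F) ≠ 0 := by
    intro h0
    have : CharP F 2 := CharTwo.of_one_ne_zero_of_two_eq_zero one_ne_zero h0
    have h3 := (FiniteField.even_card_iff_char_two (F := F)).1 (ringChar.eq F 2)
    rw [Nat.odd_iff] at hodd
    omega
  have h4 : TwoN N (oddForm n F) := twoN_odd h2 (nondeg_oddForm n F h2) hn (by
    rw [Module.finrank_fintype_fun_eq_card]; simp only [_root_.Fintype.card_sum, _root_.Fintype.card_unique, _root_.Fintype.card_fin]; ring) (H295.War.witt_odd n) hgf hTL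
  have h5 := t6_of_two hN (oddForm n F) h4
  rw [coe_oddForm] at h5
  exact h5

end Cfsg.Agent.H781.TC6
end

private theorem dce_00e0b33f538d : _root_.True := by
  try have : _root_.True := by simp only [_root_.Cfsg.Agent.H160.QSpin.spin.congr_simp]
  exact _root_.True.intro
end

-- part: H311/TC6/GF_mg
section
prune_inst 0x200024142822000000180000602000029000002000000800000000000000a820008028010200000a122000410001002811100020420000000a000000000100000000000001000100020010000000000000000000000000000000000000000000000000000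
set_option linter.all false
open scoped Cfsg.Agent.FastGrp

-- part: H311/TC6/GF
section
/-!
# S2464 for `Ω_(2n+1)(q)`, `q` odd: box GF (helper311)
-/

set_option autoImplicit false

namespace Cfsg.Agent.H311.TC6

open Polynomial Cfsg.Agent.H781.TC6

/-- **Box GF.** -/
theorem exists_gf {F : Type*} [Field F] [Fintype F] (hodd : Odd (Fintype.card F)) {n : ℕ} (hn : 3 ≤ n)
    (h4 : n = 4 → ∃ k, 2 ≤ k ∧ Fintype.card F = 3 ^ k) : ∃ (N : ℕ) (f : F[X]), N.Coprime 6 ∧ GF n N f := by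
  obtain ⟨N, r₁, f, h1, -, h2, h3, h5, h6, h7, m1, m2, m3, m4, m5, m6⟩ :=
    exists_pf F (by rw [Nat.card_eq_fintype_card]; exact hodd) hn (by rw [Nat.card_eq_fintype_card]; exact h4)
  have h0 : f.coeff 0 ≠ 0 := by
    intro h
    rw [h, mul_zero] at m6
    exact zero_ne_one m6
  exact ⟨N, f, h1, m1, m2, m3, m4, (m5 N).2 dvd_rfl, m6,
    fun A c hA => ex_of m1 m2 m3 hn m5 h0 h2 h3 h5 h6 h7 A c hA,
    fun A hA => nsq_of (by rw [Nat.card_eq_fintype_card]; exact hodd) m1 m2 m3 (by omega) hA⟩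

end Cfsg.Agent.H311.TC6
end

-- part: H308/TC/GLCorner
section
/-!
# S2464: a nonscalar matrix has a nonscalar `3 × 3` corner of determinant one with nonscalar Schur complement (helper308)

* `Cj A B` : `B = P A P⁻¹`, `det P = 1`
* `step` : a pivot
* `gl_corner` : index type `Fin 3 ⊕ Fin k`, `k ≥ 1`
* `gl_corner_fin` : index type `Fin (3 + k)`
-/

set_option autoImplicit false
set_option linter.unusedSectionVars false
set_option linter.unusedSimpArgs false

namespace Cfsg.Agent.H308.TC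

open Matrix

variable {F : Type*} [Field F]

/-- not a scalar matrix -/
def NS {n : Type*} [DecidableEq n] (A : Matrix n n F) : Prop := ∀ c : F, A ≠ c • (1 : Matrix n n F)

/-- conjugate under the special linear group -/
def Cj {n : Type*} [Fintype n] [DecidableEq n] (A B : Matrix n n F) : Prop :=
  ∃ P P' : Matrix n n F, P * P' = 1 ∧ P.det = 1 ∧ P * A * P' = B

section gen

variable {n : Type*} [Fintype n] [DecidableEq n]

theorem Cj.refl (A : Matrix n n F) : Cj A A := ⟨1, 1, by simp, by simp, by simp⟩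

theorem Cj.trans {A B C : Matrix n n F} (h : Cj A B) (h' : Cj B C) : Cj A C := by
  obtain ⟨P, P', h1, h2, h3⟩ := h
  obtain ⟨R, R', g1, g2, g3⟩ := h'
  refine ⟨R * P, P' * R', ?_, ?_, ?_⟩
  · calc R * P * (P' * R') = R * (P * P') * R' := by simp only [Matrix.mul_assoc]
      _ = 1 := by rw [h1, Matrix.mul_one, g1]
  · rw [det_mul, h2, g2, one_mul]
  · rw [← g3, ← h3]
    simp only [Matrix.mul_assoc]

theorem Cj.det_eq {A B : Matrix n n F} (h : Cj A B) : B.det = A.det := by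
  obtain ⟨P, P', h1, h2, h3⟩ := h
  have h4 : P.det * P'.det = 1 := by rw [← det_mul, h1, det_one]
  rw [h2, one_mul] at h4
  rw [← h3, det_mul, det_mul, h2, h4, one_mul, mul_one]

/-- conjugation by a lower block unipotent matrix -/
theorem cj_lo {m : Type*} [Fintype m] [DecidableEq m] (z : Matrix n m F) (A : Matrix m m F) (B : Matrix m n F)
    (C : Matrix n m F) (D : Matrix n n F) :
    Cj (fromBlocks A B C D) ((fromBlocks (A - B * z) B (z * A + C - (z * B + D) * z) (z * B + D) :)) := by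
  refine ⟨fromBlocks 1 0 z 1, fromBlocks 1 0 (-z) 1, ?_, ?_, ?_⟩
  · rw [fromBlocks_multiply]
    simp only [_root_.mul_one, _root_.Matrix.mul_neg, _root_.Matrix.zero_mul, _root_.neg_zero, _root_.add_zero, _root_.Matrix.mul_zero, _root_.Matrix.mul_one, _root_.Matrix.one_mul, _root_.add_neg_cancel, _root_.zero_add, _root_.Matrix.fromBlocks_one]
  · rw [det_fromBlocks_zero₁₂]
    simp
  · rw [fromBlocks_multiply, fromBlocks_multiply]
    simp only [Matrix.one_mul, Matrix.zero_mul, Matrix.mul_one, Matrix.mul_zero, add_zero, zero_add, Matrix.mul_neg,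
      ← sub_eq_add_neg]

/-- conjugation by an upper block unipotent matrix -/
theorem cj_up {m : Type*} [Fintype m] [DecidableEq m] (z : Matrix m n F) (A : Matrix m m F) (B : Matrix m n F)
    (C : Matrix n m F) (D : Matrix n n F) :
    Cj (fromBlocks A B C D) ((fromBlocks (A + z * C) (B + z * D - (A + z * C) * z) C (D - C * z) :)) := by
  refine ⟨fromBlocks 1 z 0 1, fromBlocks 1 (-z) 0 1, ?_, ?_, ?_⟩
  · rw [fromBlocks_multiply]
    simp only [_root_.mul_one, _root_.Matrix.mul_zero, _root_.add_zero, _root_.Matrix.mul_neg, _root_.Matrix.one_mul, _root_.Matrix.mul_one, _root_.neg_add_cancel, _root_.Matrix.zero_mul, _root_.neg_zero, _root_.zero_add, _root_.Matrix.fromBlocks_one]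
  · rw [det_fromBlocks_zero₂₁]
    simp
  · rw [fromBlocks_multiply, fromBlocks_multiply]
    congr 1
    · simp
    · simp only [Matrix.one_mul, Matrix.mul_one, Matrix.mul_neg]
      abel
    · simp
    · simp only [Matrix.one_mul, Matrix.zero_mul, Matrix.mul_one, Matrix.mul_neg, zero_add]
      abel

end gen

/-! ### one pivot -/

section step

variable {n : Type*} [Fintype n] [DecidableEq n]

theorem mul_unit {m l : Type*} (A : Matrix m Unit F) (B : Matrix Unit l F) (i : m) (j : l) :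
    (A * B) i j = A i () * B () j := by
  simp [Matrix.mul_apply]

/-- the first column is not a multiple of the first basis vector -/
theorem step_one (hF : ∃ c : F, c ≠ 0 ∧ c ≠ 1) {A : Matrix (Unit ⊕ n) (Unit ⊕ n) F} (hA : NS A) :
    ∃ (a : Matrix Unit Unit F) (y : Matrix Unit n F) (x : Matrix n Unit F) (D : Matrix n n F), x ≠ 0 ∧ Cj A (fromBlocks a y x D) := by
  obtain ⟨a, y, x, D, rfl⟩ : ∃ a y x D, A = fromBlocks a y x D :=
    ⟨A.toBlocks₁₁, A.toBlocks₁₂, A.toBlocks₂₁, A.toBlocks₂₂, (fromBlocks_toBlocks A).symm⟩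
  by_cases hx : x = 0
  · subst hx
    by_contra hcon
    push Not at hcon
    have key : ∀ z : Matrix n Unit F, z * a - (z * y + D) * z = 0 := by
      intro z
      by_contra hz
      have := hcon _ _ _ _ (by simpa using hz) (cj_lo z a y 0 D)
      exact this
    have key2 : ∀ (j : n) (c : F) (i : n), (if i = j then c * a () () - c * c * y () j else 0) - c * D i j = 0 := by
      intro j c i
      have h1 := congrFun (congrFun (key (Matrix.of fun i _ => if i = j then c else 0)) i) ()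
      rw [Matrix.sub_apply, Matrix.add_mul, Matrix.add_apply, mul_unit, Matrix.mul_assoc, mul_unit, Matrix.mul_apply,
        Matrix.mul_apply] at h1
      simp only [Matrix.of_apply, Matrix.zero_apply, mul_ite, mul_zero, Finset.sum_ite_eq', Finset.mem_univ, if_true] at h1
      split_ifs at h1 ⊢ <;> linear_combination h1
    obtain ⟨c, hc0, hc1⟩ := hF
    have e1 : ∀ j, y () j = 0 := by
      intro j
      have h1 := key2 j 1 j
      have h2 := key2 j c j
      rw [if_pos rfl] at h1 h2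
      have h3 : c * (c - 1) * y () j = 0 := by linear_combination c * h1 - h2
      exact (mul_eq_zero.1 h3).resolve_left (mul_ne_zero hc0 (sub_ne_zero.2 hc1))
    apply hA (a () ())
    ext i j
    rcases i with i | i <;> rcases j with j | j
    · simp
    · simp [e1 j]
    · simp
    · have h1 := key2 j 1 i
      rw [e1 j] at h1
      rw [fromBlocks_apply₂₂, Matrix.smul_apply, Matrix.one_apply, smul_eq_mul]
      by_cases hij : i = j
      · rw [if_pos hij] at h1
        rw [if_pos (congrArg Sum.inr hij)]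
        linear_combination -h1
      · rw [if_neg hij] at h1
        rw [if_neg (fun h => hij (Sum.inr_injective h))]
        linear_combination -h1
  · exact ⟨a, y, x, D, hx, Cj.refl _⟩

theorem exists_row {x : Matrix n Unit F} (hx : x ≠ 0) (b : F) : ∃ z : Matrix Unit n F, (z * x) () () = b := by
  obtain ⟨i, hi⟩ : ∃ i, x i () ≠ 0 := by
    by_contra hcon
    push Not at hcon
    apply hx
    ext i j
    exact hcon i
  refine ⟨Matrix.of fun _ j => if j = i then b * (x i ())⁻¹ else 0, ?_⟩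
  rw [Matrix.mul_apply]
  simp only [Matrix.of_apply, ite_mul, zero_mul, Finset.sum_ite_eq', Finset.mem_univ, if_true]
  rw [mul_assoc, inv_mul_cancel₀ hi, mul_one]

/-- the pivot -/
theorem step_two {a : Matrix Unit Unit F} {y : Matrix Unit n F} {x : Matrix n Unit F} {D : Matrix n n F} (hx : x ≠ 0) (d : F) :
    ∃ (y' : Matrix Unit n F) (D' : Matrix n n F), Cj (fromBlocks a y x D) (fromBlocks (d • 1) y' x D') := by
  obtain ⟨z, hz⟩ := exists_row hx (d - a () ())
  have h := cj_up z a y x D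
  have h1 : a + z * x = d • 1 := by
    ext i j
    rw [Matrix.add_apply, hz]
    simp
  rw [h1] at h
  exact ⟨_, _, h⟩

theorem exists_ker [Nontrivial n] (x : Matrix n Unit F) : ∃ z : Matrix Unit n F, z ≠ 0 ∧ z * x = 0 := by
  obtain ⟨i, j, hij⟩ := exists_pair_ne n
  by_cases hi : x i () = 0
  · refine ⟨Matrix.of fun _ l => if l = i then 1 else 0, fun h => ?_, ?_⟩
    · have := congrFun (congrFun h ()) i
      simp at this
    · ext u v
      rw [Matrix.mul_apply]
      simp [hi]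
  · refine ⟨Matrix.of fun _ l => (if l = i then x j () else 0) - (if l = j then x i () else 0), fun h => ?_, ?_⟩
    · have := congrFun (congrFun h ()) j
      simp [hij.symm] at this
      exact hi this
    · ext u v
      rw [Matrix.mul_apply]
      simp only [Matrix.of_apply, sub_mul, ite_mul, zero_mul, Finset.sum_sub_distrib, Finset.sum_ite_eq', Finset.mem_univ,
        if_true, Matrix.zero_apply]
      ring

/-- the factorization -/
theorem fac_blocks {m : Type*} [Fintype m] [DecidableEq m] {d : F} (hd : d ≠ 0) (y : Matrix m n F) (x : Matrix n m F) (D : Matrix n n F) :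
    fromBlocks (d • 1) y x D = fromBlocks 1 0 (d⁻¹ • x) 1 * fromBlocks (d • 1) 0 0 (D - d⁻¹ • (x * y)) * fromBlocks 1 (d⁻¹ • y) 0 1 := by
  rw [fromBlocks_multiply, fromBlocks_multiply]
  have e1 : d⁻¹ * d = 1 := inv_mul_cancel₀ hd
  have e2 : d * d⁻¹ = 1 := mul_inv_cancel₀ hd
  congr 1
  · simp only [_root_.Algebra.mul_smul_comm, _root_.mul_one, _root_.Matrix.mul_zero, _root_.add_zero, _root_.Matrix.zero_mul]
  · simp only [smul_smul, e1, e2, _root_.Algebra.mul_smul_comm, _root_.mul_one, _root_.Matrix.mul_zero, _root_.add_zero, _root_.Matrix.mul_smul, _root_.Matrix.smul_mul, _root_.Matrix.one_mul, _root_.smul_smul, _root_.one_smul, _root_.Matrix.zero_mul, _root_.Matrix.mul_one]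
  · simp only [smul_smul, e1, e2, _root_.Matrix.mul_smul, _root_.Matrix.mul_one, _root_.smul_smul, _root_.one_smul, _root_.Matrix.mul_zero, _root_.add_zero, _root_.one_mul, _root_.zero_add]
  · simp [smul_smul, e1, e2]

theorem det_fac {m : Type*} [Fintype m] [DecidableEq m] (x : Matrix n m F) (y : Matrix m n F) (S : Matrix n n F) (D : Matrix m m F) :
    (fromBlocks 1 0 x 1 * fromBlocks D 0 0 S * fromBlocks 1 y 0 1).det = D.det * S.det := by
  rw [det_mul, det_mul, det_fromBlocks_zero₁₂, det_fromBlocks_zero₁₂, det_fromBlocks_zero₂₁]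
  simp only [_root_.Matrix.det_one, _root_.mul_one, _root_.one_mul]

/-- **one pivot** -/
theorem step (hF : ∃ c : F, c ≠ 0 ∧ c ≠ 1) {A : Matrix (Unit ⊕ n) (Unit ⊕ n) F} (hA : NS A) (hdet : A.det ≠ 0) {d : F}
    (hd : d ≠ 0) : ∃ (x : Matrix n Unit F) (y : Matrix Unit n F) (S : Matrix n n F),
      Cj A (fromBlocks 1 0 x 1 * fromBlocks (d • 1) 0 0 S * fromBlocks 1 y 0 1) ∧ (Nontrivial n → NS S) ∧ d * S.det = A.det := by
  obtain ⟨a, y, x, D, hx, h1⟩ := step_one hF hA
  obtain ⟨y', D', h2⟩ := step_two (a := a) (y := y) (D := D) hx d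
  have h3 := h1.trans h2
  have key : ∀ (y' : Matrix Unit n F) (D' : Matrix n n F), Cj A (fromBlocks (d • 1) y' x D') →
      d * (D' - d⁻¹ • (x * y')).det = A.det := by
    intro y' D' h
    have h4 := h.det_eq
    rw [fac_blocks hd, det_fac] at h4
    rw [← h4]
    simp only [_root_.Matrix.det_unique, _root_.PUnit.default_eq_unit, _root_.Matrix.smul_apply, _root_.Matrix.one_apply_eq, _root_.smul_eq_mul, _root_.mul_one]
  by_cases hT : Nontrivial n → NS (D' - d⁻¹ • (x * y'))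
  · exact ⟨_, _, _, by rw [← fac_blocks hd]; exact h3, hT, key _ _ h3⟩
  · push Not at hT
    obtain ⟨hn, hT⟩ := hT
    unfold NS at hT
    push Not at hT
    obtain ⟨c, hc⟩ := hT
    have hc0 : c ≠ 0 := by
      rintro rfl
      have h4 := key _ _ h3
      rw [hc, zero_smul, Matrix.det_zero, mul_zero] at h4
      exact hdet h4.symm
    obtain ⟨z, hz0, hz⟩ := exists_ker x
    have h4 := h3.trans (cj_up z (d • (1 : Matrix Unit Unit F)) y' x D')
    rw [hz, add_zero] at h4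
    refine ⟨_, _, _, by rw [← fac_blocks hd]; exact h4, fun _ => ?_, key _ _ h4⟩
    have hD' : D' = c • 1 + d⁻¹ • (x * y') := by rw [← hc]; abel
    have e1 : D' - x * z - d⁻¹ • (x * (y' + z * D' - (d • (1 : Matrix Unit Unit F)) * z)) =
        c • (1 - d⁻¹ • (x * z)) := by
      have e2 : z * D' = c • z := by
        rw [hD', Matrix.mul_add, Matrix.mul_smul, Matrix.mul_one, Matrix.mul_smul, ← Matrix.mul_assoc, hz, Matrix.zero_mul,
          smul_zero, add_zero]
      rw [e2, Matrix.mul_sub, Matrix.mul_add, Matrix.mul_smul, Matrix.smul_mul, Matrix.one_mul, Matrix.mul_smul]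
      rw [hD']
      rw [smul_sub, smul_add, smul_smul d⁻¹ d, inv_mul_cancel₀ hd, one_smul, smul_sub, smul_comm c d⁻¹]
      abel
    rw [e1]
    intro e he
    have h5 : (c - e) • x = 0 := by
      have h6 := congrArg (fun M => M * x) he
      simp only [Matrix.smul_mul, Matrix.sub_mul, Matrix.one_mul, Matrix.mul_assoc, hz, Matrix.mul_zero, smul_zero, sub_zero] at h6
      rw [sub_smul, h6, sub_self]
    have h6 : c = e := sub_eq_zero.1 ((smul_eq_zero.1 h5).resolve_right hx)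
    rw [← h6, smul_sub, sub_eq_self, smul_smul] at he
    have h7 : x * z = 0 := (smul_eq_zero.1 he).resolve_left (mul_ne_zero hc0 (inv_ne_zero hd))
    obtain ⟨i, hi⟩ : ∃ i, x i () ≠ 0 := by
      by_contra hcon
      push Not at hcon
      apply hx
      ext i j
      exact hcon i
    apply hz0
    ext u j
    have h8 := congrFun (congrFun h7 i) j
    rw [mul_unit, Matrix.zero_apply] at h8
    exact (mul_eq_zero.1 h8).resolve_left hi

/-- conjugation of the Schur complement -/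
theorem Cj.lift {m : Type*} [Fintype m] [DecidableEq m] {S S' : Matrix n n F} (h : Cj S S') (D : Matrix m m F) (x : Matrix n m F)
    (y : Matrix m n F) : ∃ (x' : Matrix n m F) (y' : Matrix m n F),
      Cj (fromBlocks 1 0 x 1 * fromBlocks D 0 0 S * fromBlocks 1 y 0 1)
        (fromBlocks 1 0 x' 1 * fromBlocks D 0 0 S' * fromBlocks 1 y' 0 1) := by
  obtain ⟨P, P', h1, h2, h3⟩ := h
  refine ⟨P * x, y * P', fromBlocks 1 0 0 P, fromBlocks 1 0 0 P', ?_, ?_, ?_⟩
  · rw [fromBlocks_multiply]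
    simp [h1]
  · rw [det_fromBlocks_zero₁₂]
    simp [h2]
  · rw [← h3]
    simp only [fromBlocks_multiply]
    (with_reducible congr 1) <;> simp [Matrix.mul_assoc, Matrix.add_mul, Matrix.mul_add]

end step

/-! ### three pivots -/

section three

variable {n : Type*} [Fintype n] [DecidableEq n]

theorem Cj.sub {m : Type*} [Fintype m] [DecidableEq m] {A B : Matrix n n F} (h : Cj A B) (f : m ≃ n) :
    Cj (A.submatrix f f) (B.submatrix f f) := by
  obtain ⟨P, P', h1, h2, h3⟩ := h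
  refine ⟨P.submatrix f f, P'.submatrix f f, ?_, ?_, ?_⟩
  · rw [Matrix.submatrix_mul_equiv, h1, Matrix.submatrix_one_equiv]
  · rw [Matrix.det_submatrix_equiv_self, h2]
  · rw [Matrix.submatrix_mul_equiv, Matrix.submatrix_mul_equiv, h3]

theorem NS.sub {m : Type*} [DecidableEq m] {A : Matrix n n F} (h : NS A) (f : m ≃ n) : NS (A.submatrix f f) := by
  intro c hc
  apply h c
  have h1 := congrArg (fun M : Matrix m m F => M.submatrix f.symm f.symm) hc
  simp only [Matrix.submatrix_submatrix, Matrix.submatrix_smul, Pi.smul_apply, Matrix.submatrix_one_equiv,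
    Equiv.self_comp_symm, Matrix.submatrix_id_id] at h1
  exact h1

/-- `1 + (1 + (1 + n)) = 3 + n` -/
def e3 (n : Type*) : Unit ⊕ (Unit ⊕ (Unit ⊕ n)) ≃ Fin 3 ⊕ n where
  toFun
    | Sum.inl _ => Sum.inl 0
    | Sum.inr (Sum.inl _) => Sum.inl 1
    | Sum.inr (Sum.inr (Sum.inl _)) => Sum.inl 2
    | Sum.inr (Sum.inr (Sum.inr j)) => Sum.inr j
  invFun
    | Sum.inl i => ![Sum.inl (), Sum.inr (Sum.inl ()), Sum.inr (Sum.inr (Sum.inl ()))] i
    | Sum.inr j => Sum.inr (Sum.inr (Sum.inr j))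
  left_inv := by rintro (_ | _ | _ | _) <;> rfl
  right_inv := by
    rintro (i | j)
    · fin_cases i <;> rfl
    · rfl

/-- the nested factorization -/
def nest (d₁ d₂ d₃ : F) (x₁ : Matrix (Unit ⊕ (Unit ⊕ n)) Unit F) (y₁ : Matrix Unit (Unit ⊕ (Unit ⊕ n)) F)
    (x₂ : Matrix (Unit ⊕ n) Unit F) (y₂ : Matrix Unit (Unit ⊕ n) F) (x₃ : Matrix n Unit F) (y₃ : Matrix Unit n F)
    (S : Matrix n n F) : Matrix (Unit ⊕ (Unit ⊕ (Unit ⊕ n))) (Unit ⊕ (Unit ⊕ (Unit ⊕ n))) F :=
  fromBlocks 1 0 x₁ 1 * fromBlocks (d₁ • 1) 0 0 (fromBlocks 1 0 x₂ 1 * fromBlocks (d₂ • 1) 0 0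
    (fromBlocks 1 0 x₃ 1 * fromBlocks (d₃ • 1) 0 0 S * fromBlocks 1 y₃ 0 1) * fromBlocks 1 y₂ 0 1) * fromBlocks 1 y₁ 0 1

theorem fac_mul {m : Type*} [Fintype m] [DecidableEq m] (d : F) (x : Matrix n m F) (y : Matrix m n F) (S : Matrix n n F) :
    fromBlocks 1 0 x 1 * fromBlocks (d • 1) 0 0 S * fromBlocks 1 y 0 1 = fromBlocks (d • 1) (d • y) (d • x) (d • (x * y) + S) := by
  rw [fromBlocks_multiply, fromBlocks_multiply]
  congr 1 <;> simp only [_root_.Algebra.mul_smul_comm, _root_.mul_one, _root_.Matrix.mul_zero, _root_.add_zero, _root_.Matrix.zero_mul, _root_.Matrix.smul_mul, _root_.Matrix.one_mul, _root_.Matrix.mul_one, _root_.Matrix.mul_smul, _root_.one_mul, _root_.zero_add]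

theorem nest_sub (d₁ d₂ d₃ : F) (x₁ : Matrix (Unit ⊕ (Unit ⊕ n)) Unit F) (y₁ : Matrix Unit (Unit ⊕ (Unit ⊕ n)) F)
    (x₂ : Matrix (Unit ⊕ n) Unit F) (y₂ : Matrix Unit (Unit ⊕ n) F) (x₃ : Matrix n Unit F) (y₃ : Matrix Unit n F)
    (S : Matrix n n F) : ∃ (a b c a' b' c' : F) (X : Matrix n (Fin 3) F) (Y : Matrix (Fin 3) n F),
      (nest d₁ d₂ d₃ x₁ y₁ x₂ y₂ x₃ y₃ S).submatrix (e3 n).symm (e3 n).symm =
        fromBlocks !![1, 0, 0; a, 1, 0; b, c, 1] 0 X 1 * fromBlocks !![d₁, 0, 0; 0, d₂, 0; 0, 0, d₃] 0 0 S *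
          fromBlocks !![1, a', b'; 0, 1, c'; 0, 0, 1] Y 0 1 := by
  refine ⟨x₁ (Sum.inl ()) (), x₁ (Sum.inr (Sum.inl ())) (), x₂ (Sum.inl ()) (), y₁ () (Sum.inl ()), y₁ () (Sum.inr (Sum.inl ())),
    y₂ () (Sum.inl ()), Matrix.of fun i j => ![x₁ (Sum.inr (Sum.inr i)) (), x₂ (Sum.inr i) (), x₃ i ()] j,
    Matrix.of fun i j => ![y₁ () (Sum.inr (Sum.inr j)), y₂ () (Sum.inr j), y₃ () j] i, ?_⟩
  rw [fromBlocks_multiply, fromBlocks_multiply, nest, fac_mul, fac_mul, fac_mul]
  ext i j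
  rcases i with i | i <;> rcases j with j | j
  · (revert i j; simp only [e3, Matrix.mul_apply, Fin.sum_univ_three, _root_.Fin.forall_fin_succ, Fin.isValue, _root_.Nat.succ_eq_add_one, Nat.reduceAdd, _root_.Equiv.symm_mk, _root_.Equiv.coe_fn_mk, _root_.Matrix.submatrix_apply, _root_.Matrix.cons_mul, _root_.Matrix.vecMul_cons, _root_.Matrix.head_cons, _root_.one_smul, _root_.Matrix.tail_cons, _root_.zero_smul, _root_.Matrix.empty_vecMul, _root_.add_zero, _root_.Matrix.smul_cons, _root_.smul_eq_mul, _root_.MulZeroClass.mul_zero, _root_.Matrix.smul_empty, _root_.Matrix.add_cons, _root_.zero_add, _root_.Matrix.empty_add_empty, _root_.Matrix.empty_mul, _root_.Equiv.symm_apply_apply, _root_.Matrix.mul_zero, _root_.mul_one, _root_.Matrix.zero_mul, _root_.Matrix.cons_vecMul, _root_.Matrix.mul_one, _root_.one_mul, _root_.Matrix.fromBlocks_apply₁₁, _root_.Matrix.of_apply, _root_.Matrix.cons_val', _root_.Matrix.cons_val_fin_one, _root_.Matrix.cons_val_zero,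 _root_.Matrix.cons_val_succ, _root_.forall_const, _root_.Matrix.smul_apply, _root_.Matrix.one_apply_eq, _root_.Matrix.fromBlocks_apply₁₂, _root_.and_self, _root_.Matrix.fromBlocks_apply₂₁, _root_.Matrix.fromBlocks_apply₂₂, _root_.Matrix.add_apply, _root_.Finset.univ_unique, _root_.PUnit.default_eq_unit, _root_.Finset.sum_singleton, _root_.add_left_inj, _root_.true_and]) <;> (repeat' with_reducible apply And.intro) <;> ring
  · (revert i; simp only [e3, Matrix.mul_apply, Fin.sum_univ_three, vecHead, vecTail, _root_.Fin.forall_fin_succ, Fin.isValue, _root_.Nat.succ_eq_add_one, Nat.reduceAdd, _root_.Equiv.symm_mk, _root_.Equiv.coe_fn_mk, _root_.Matrix.submatrix_apply, _root_.Matrix.cons_mul, _root_.Matrix.vecMul_cons, _root_.Matrix.cons_val_zero, _root_.one_smul, _root_.Function.comp_apply, _root_.Fin.succ_zero_eq_one, _root_.Matrix.cons_val_one, _root_.zero_smul, _root_.Fin.succ_one_eq_two, _root_.Matrix.cons_val, _root_.Matrix.empty_vecMul,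 _root_.add_zero, _root_.Matrix.smul_cons, _root_.smul_eq_mul, _root_.MulZeroClass.mul_zero, _root_.Matrix.smul_empty, _root_.Matrix.add_cons, _root_.zero_add, _root_.Matrix.empty_add_empty, _root_.Matrix.empty_mul, _root_.Equiv.symm_apply_apply, _root_.Matrix.mul_zero, _root_.mul_one, _root_.Matrix.zero_mul, _root_.Matrix.cons_vecMul, _root_.Matrix.mul_one, _root_.one_mul, _root_.Matrix.fromBlocks_apply₁₂, _root_.Matrix.of_apply, _root_.Matrix.cons_val', _root_.Pi.smul_apply, _root_.Pi.add_apply, _root_.Matrix.cons_val_fin_one, _root_.Matrix.smul_apply, _root_.Matrix.cons_val_succ, _root_.Matrix.fromBlocks_apply₂₂, _root_.Matrix.add_apply, _root_.Finset.univ_unique, _root_.PUnit.default_eq_unit, _root_.Finset.sum_singleton, _root_.add_left_inj, _root_.forall_const, _root_.true_and]) <;> (repeat' with_reducible apply And.intro) <;> ring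
  · (revert j; simp only [e3, Matrix.mul_apply, Fin.sum_univ_three, _root_.Fin.forall_fin_succ, Fin.isValue, _root_.Nat.succ_eq_add_one, Nat.reduceAdd, _root_.Equiv.symm_mk, _root_.Equiv.coe_fn_mk, _root_.Matrix.submatrix_apply, _root_.Matrix.cons_mul, _root_.Matrix.vecMul_cons, _root_.Matrix.head_cons, _root_.one_smul, _root_.Matrix.tail_cons, _root_.zero_smul, _root_.Matrix.empty_vecMul, _root_.add_zero, _root_.Matrix.smul_cons, _root_.smul_eq_mul, _root_.MulZeroClass.mul_zero, _root_.Matrix.smul_empty, _root_.Matrix.add_cons, _root_.zero_add, _root_.Matrix.empty_add_empty, _root_.Matrix.empty_mul, _root_.Equiv.symm_apply_apply, _root_.Matrix.mul_zero, _root_.mul_one, _root_.Matrix.zero_mul, _root_.Matrix.cons_vecMul, _root_.Matrix.mul_one, _root_.one_mul, _root_.Matrix.fromBlocks_apply₂₁, _root_.Matrix.of_apply, _root_.Matrix.cons_val', _root_.Matrix.cons_val_fin_one, _root_.Matrix.cons_val_zero, _root_.Matrix.cons_val_one, _root_.Matrix.cons_val,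 _root_.Matrix.smul_apply, _root_.Matrix.cons_val_succ, _root_.Matrix.fromBlocks_apply₂₂, _root_.Matrix.add_apply, _root_.Finset.univ_unique, _root_.PUnit.default_eq_unit, _root_.Finset.sum_singleton, _root_.forall_const]) <;> (repeat' with_reducible apply And.intro) <;> ring
  · simp only [e3, Matrix.mul_apply, Fin.sum_univ_three, _root_.Cfsg.Agent.H308.TC.e3, _root_.Fin.isValue, _root_.Nat.succ_eq_add_one, _root_.Nat.reduceAdd, _root_.Equiv.symm_mk, _root_.Equiv.coe_fn_mk, _root_.Matrix.submatrix_apply, _root_.Matrix.fromBlocks_apply₂₂, _root_.Matrix.add_apply, _root_.Matrix.smul_apply, _root_.Matrix.mul_apply, _root_.Finset.univ_unique, _root_.PUnit.default_eq_unit, _root_.Finset.sum_singleton, _root_.smul_eq_mul, _root_.Matrix.cons_mul, _root_.Matrix.vecMul_cons, _root_.Matrix.head_cons, _root_.one_smul, _root_.Matrix.tail_cons, _root_.zero_smul, _root_.Matrix.empty_vecMul, _root_.add_zero, _root_.Matrix.smul_cons, _root_.MulZeroClass.mul_zero,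 _root_.Matrix.smul_empty, _root_.Matrix.add_cons, _root_.zero_add, _root_.Matrix.empty_add_empty, _root_.Matrix.empty_mul, _root_.Equiv.symm_apply_apply, _root_.Matrix.mul_zero, _root_.mul_one, _root_.Matrix.zero_mul, _root_.Matrix.cons_vecMul, _root_.Matrix.mul_one, _root_.one_mul, _root_.Matrix.of_apply, _root_.Matrix.cons_val', _root_.Matrix.cons_val_fin_one, _root_.Fin.sum_univ_three, _root_.Matrix.cons_val_zero, _root_.Matrix.cons_val_one, _root_.Matrix.cons_val]; ring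

end three

/-! ### the corner -/

theorem corner_ns {d₁ d₂ d₃ a b c a' b' c' : F} (h1 : d₁ ≠ 0) (h : d₁ ≠ d₂) :
    NS (!![1, 0, 0; a, 1, 0; b, c, 1] * !![d₁, 0, 0; 0, d₂, 0; 0, 0, d₃] * !![1, a', b'; 0, 1, c'; 0, 0, 1] :
      Matrix (Fin 3) (Fin 3) F) := by
  intro e he
  have e1 := congrFun (congrFun he 0) 0
  have e2 := congrFun (congrFun he 1) 0
  have e3 := congrFun (congrFun he 1) 1
  simp [Matrix.mul_apply, Fin.sum_univ_three] at e1 e2 e3
  rcases e2 with e2 | e2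
  · rw [e2] at e3
    apply h
    rw [e1, ← e3]
    ring
  · exact h1 e2

theorem corner_det {d₁ d₂ d₃ a b c a' b' c' : F} :
    (!![1, 0, 0; a, 1, 0; b, c, 1] * !![d₁, 0, 0; 0, d₂, 0; 0, 0, d₃] * !![1, a', b'; 0, 1, c'; 0, 0, 1] :
      Matrix (Fin 3) (Fin 3) F).det = d₁ * d₂ * d₃ := by
  rw [det_mul, det_mul, det_fin_three, det_fin_three, det_fin_three]
  simp

/-- **the corner theorem** -/
theorem gl_corner {n : Type*} [Fintype n] [DecidableEq n] [Nonempty n] (hF : ∃ c : F, c ≠ 0 ∧ c ≠ 1)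
    {A : Matrix (Fin 3 ⊕ n) (Fin 3 ⊕ n) F} (hA : NS A) (hdet : A.det ≠ 0) :
    ∃ (X : Matrix n (Fin 3) F) (Y : Matrix (Fin 3) n F) (A₃ : Matrix (Fin 3) (Fin 3) F) (B : Matrix n n F),
      Cj A (fromBlocks 1 0 X 1 * fromBlocks A₃ 0 0 B * fromBlocks 1 Y 0 1) ∧ A₃.det = 1 ∧ NS A₃ ∧ B.det = A.det ∧
        (Nontrivial n → NS B) := by
  obtain ⟨d, hd0, hd1⟩ := hF
  have hF : ∃ c : F, c ≠ 0 ∧ c ≠ 1 := ⟨d, hd0, hd1⟩
  have hdi : d⁻¹ ≠ 0 := inv_ne_zero hd0
  have hA' := hA.sub (e3 n)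
  have hdet' : (A.submatrix (e3 n) (e3 n)).det ≠ 0 := by rwa [Matrix.det_submatrix_equiv_self]
  obtain ⟨x₁, y₁, S₁, h1, n1, g1⟩ := step hF hA' hdet' hd0
  have hS1 : S₁.det ≠ 0 := by
    intro h0
    rw [h0, mul_zero] at g1
    exact hdet' g1.symm
  obtain ⟨x₂, y₂, S₂, h2, n2, g2⟩ := step hF (n1 ⟨Sum.inl (), Sum.inr (Sum.inl ()), by simp⟩) hS1 one_ne_zero
  have hS2 : S₂.det ≠ 0 := by
    intro h0
    rw [h0, mul_zero] at g2
    exact hS1 g2.symm
  have hn2 : Nontrivial (Unit ⊕ n) := ⟨Sum.inl (), Sum.inr (Classical.arbitrary n), by simp⟩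
  obtain ⟨x₃, y₃, S₃, h3, n3, g3⟩ := step hF (n2 hn2) hS2 hdi
  obtain ⟨x₂', y₂', h4⟩ := h3.lift ((1 : F) • (1 : Matrix Unit Unit F)) x₂ y₂
  obtain ⟨x₁', y₁', h5⟩ := (h2.trans h4).lift (d • (1 : Matrix Unit Unit F)) x₁ y₁
  have h6 := (h1.trans h5).sub (e3 n).symm
  rw [Matrix.submatrix_submatrix, Equiv.self_comp_symm, Matrix.submatrix_id_id] at h6
  obtain ⟨a, b, c, a', b', c', X, Y, h7⟩ := nest_sub d 1 d⁻¹ x₁' y₁' x₂' y₂' x₃ y₃ S₃
  unfold nest at h7
  rw [h7] at h6
  obtain ⟨L, hL⟩ : ∃ L : Matrix (Fin 3) (Fin 3) F, L = !![1, 0, 0; a, 1, 0; b, c, 1] := ⟨_, rfl⟩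
  obtain ⟨D, hD⟩ : ∃ D : Matrix (Fin 3) (Fin 3) F, D = !![d, 0, 0; 0, 1, 0; 0, 0, d⁻¹] := ⟨_, rfl⟩
  obtain ⟨U, hU⟩ : ∃ U : Matrix (Fin 3) (Fin 3) F, U = !![1, a', b'; 0, 1, c'; 0, 0, 1] := ⟨_, rfl⟩
  have hLd : IsUnit L.det := by rw [hL, det_fin_three]; simp
  have hUd : IsUnit U.det := by rw [hU, det_fin_three]; simp
  have hLi : L⁻¹ * L = 1 := Matrix.nonsing_inv_mul _ hLd
  have hUi : U * U⁻¹ = 1 := Matrix.mul_nonsing_inv _ hUd
  rw [← hL, ← hD, ← hU] at h6
  have h8 : fromBlocks L 0 X 1 * fromBlocks D 0 0 S₃ * fromBlocks U Y 0 1 =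
      fromBlocks 1 0 (X * L⁻¹) 1 * fromBlocks (L * D * U) 0 0 S₃ * fromBlocks 1 (U⁻¹ * Y) 0 1 := by
    rw [fromBlocks_multiply, fromBlocks_multiply, fromBlocks_multiply, fromBlocks_multiply]
    have e1 : L * D * U * (U⁻¹ * Y) = L * D * Y := by
      rw [Matrix.mul_assoc (L * D), ← Matrix.mul_assoc U, hUi, Matrix.one_mul]
    have e2 : X * L⁻¹ * (L * D * U) = X * D * U := by
      rw [Matrix.mul_assoc L, Matrix.mul_assoc X, ← Matrix.mul_assoc L⁻¹, hLi, Matrix.one_mul, Matrix.mul_assoc]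
    (with_reducible congr 1)
    · simp
    · simp only [Matrix.mul_zero, Matrix.mul_one, add_zero, Matrix.one_mul, zero_add, e1]
    · simp only [Matrix.mul_zero, Matrix.mul_one, add_zero, Matrix.one_mul, zero_add, e2]
    · simp only [Matrix.mul_zero, Matrix.mul_one, add_zero, Matrix.one_mul, zero_add, e2]
      rw [Matrix.mul_assoc (X * D), ← Matrix.mul_assoc U, hUi, Matrix.one_mul]
  rw [h8] at h6
  have h9 : (L * D * U).det = 1 := by
    rw [hL, hD, hU, corner_det, mul_one, mul_inv_cancel₀ hd0]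
  refine ⟨_, _, _, _, h6, h9, ?_, ?_, n3⟩
  · rw [hL, hD, hU]
    exact corner_ns hd0 hd1
  · have h10 := h6.det_eq
    rw [det_fac, h9, one_mul] at h10
    exact h10

end Cfsg.Agent.H308.TC
end

-- part: H140/TL/Frame3
section
/-!
# S2464, orthogonal groups: frames of length `3` with nonscalar corner and Schur complement `≠ 1`

* `nsCornerS` : every nonscalar `g ∈ Ω` has a maximal frame with Schur complement `1` and nonscalar corner of
  determinant `s * s`, for every prescribed `s ≠ 0`.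
* `frame3` : the sub-frame of length `3`.
-/

set_option autoImplicit false
set_option linter.unusedSectionVars false
set_option linter.unusedSimpArgs false

namespace Cfsg.Agent.H140.TL

open Module QuadraticMap Matrix Cfsg.Agent.LieClassical.OrthCore Cfsg.Agent.LieClassical.OrthTrans
  Cfsg.Agent.LieClassical.OrthFinite
open Cfsg.Agent.H140.OreO Cfsg.Agent.H141.SpinFacts
open Cfsg.Agent.H434.Corn (MaxTS exists_functional exists_moved exists_adapted mids exists_partner_of_datum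
  isSquare_corner mem_E_O)

variable {F V : Type*} [Field F] [AddCommGroup V] [Module F V] {Q : QuadraticForm F V}

theorem ns_adjust {U : Type*} [AddCommGroup U] [Module F U] [FiniteDimensional F U] {A : U →ₗ[F] U}
    {H : Submodule F U} (hH0 : H ≠ ⊥) (hH1 : H ≠ ⊤) {d : F} (hd : d ≠ 0) (hdet : LinearMap.det A = d) :
    ∃ φ : U →ₗ[F] U, (∀ h ∈ H, φ h = 0) ∧ (∀ u, φ u ∈ H.map A) ∧ LinearMap.det (A + φ) = d ∧
      ∀ c : F, A + φ ≠ c • LinearMap.id := by
  classical
  obtain ⟨r₀, hr₀H, hr₀⟩ := Submodule.exists_mem_ne_zero_of_ne_bot hH0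
  obtain ⟨u₀, -, hu₀⟩ := SetLike.exists_of_lt (lt_of_le_of_ne (le_top : H ≤ ⊤) hH1)
  by_cases hA : ∀ c : F, A ≠ c • LinearMap.id
  · exact ⟨0, fun _ _ => rfl, fun u => Submodule.zero_mem _, by rw [add_zero, hdet], by rwa [add_zero]⟩
  · push Not at hA
    obtain ⟨c, hc⟩ := hA
    obtain ⟨ψ, hψ, hψ1⟩ := exists_functional hu₀
    have hAr : ∀ u, A u = c • u := fun u => by rw [hc]; rfl
    have e : A + ψ.smulRight (A r₀) = A ∘ₗ LinearMap.transvection ψ r₀ := by
      ext u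
      simp [LinearMap.transvection.apply]
    have hc0 : c ≠ 0 := by
      rintro rfl
      have h1 : IsUnit A := (LinearMap.isUnit_iff_isUnit_det A).2 (by rw [hdet]; exact hd.isUnit)
      have h2 := ((Module.End.isUnit_iff A).1 h1).1
      apply hr₀
      apply h2
      rw [hAr, zero_smul, map_zero]
    refine ⟨ψ.smulRight (A r₀), fun h hh => ?_, fun u => ?_, ?_, fun d hd => ?_⟩
    · rw [LinearMap.smulRight_apply, hψ h hh, zero_smul]
    · rw [LinearMap.smulRight_apply]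
      exact Submodule.smul_mem _ _ ⟨r₀, hr₀H, rfl⟩
    · rw [e, LinearMap.det_comp, LinearMap.transvection.det, hdet, hψ r₀ hr₀H]
      ring
    · have h1 := LinearMap.congr_fun hd r₀
      rw [LinearMap.add_apply, LinearMap.smulRight_apply, hψ r₀ hr₀H, zero_smul, add_zero, hAr] at h1
      have h2 : (c - d) • r₀ = 0 := by
        rw [sub_smul, sub_eq_zero]
        exact h1
      have h3 : c = d := sub_eq_zero.1 ((smul_eq_zero.1 h2).resolve_right hr₀)
      have h4 := LinearMap.congr_fun hd u₀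
      rw [LinearMap.add_apply, LinearMap.smulRight_apply, hψ1, one_smul, hAr, hAr, h3] at h4
      have h5 : d • r₀ = 0 := add_eq_left.1 h4
      rw [← h3] at h5
      exact hr₀ ((smul_eq_zero.1 h5).resolve_left hc0)

/-- **The nonscalar corner theorem, prescribed square determinant.** -/
theorem nsCornerS [Finite F] [FiniteDimensional F V] (hQ : Nondeg Q) {g : V ≃ₗ[F] V}
    (hg : g ∈ ⁅O Q, O Q⁆) (hs : ∀ c : F, ∃ v, g v ≠ c • v) {m : ℕ} (hm : 3 ≤ m)
    (hWm : ∀ W, MaxTS Q W → finrank F W = m) {r : F} (hr : r ≠ 0) :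
    ∃ w w' : Fin m → V, Frame Q w w' ∧ SchurOne Q g w w' ∧ (corner Q g w w').det = r * r ∧
      ∀ c : F, corner Q g w w' ≠ c • (1 : Matrix (Fin m) (Fin m) F) := by
  classical
  have hgO : g ∈ O Q := mem_E_O hg
  obtain ⟨W, hW, ⟨w₀, hw₀, hw₀'⟩, w₁, hw₁, hw₁0, hw₁'⟩ := exists_moved hQ hgO hs
    (fun W hW => by rw [hWm W hW]; exact hm)
  obtain ⟨W', H, W₁, h, hHW, hmem⟩ := exists_adapted hQ hgO hW
  have heven := h.even_finrank hQ hHW hg
  -- `W₁ ≠ 0`
  have hW₁ne : ∃ w ∈ W₁, w ≠ 0 := by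
    obtain ⟨a, ha, b, hb, hab⟩ := h.split hw₀
    refine ⟨b, hb, ?_⟩
    rintro rfl
    rw [add_zero] at hab
    rw [hab] at hw₀'
    exact hw₀' (h.gH a ha)
  have hd : 1 ≤ finrank F W₁ := by
    obtain ⟨w, hw, hw0⟩ := hW₁ne
    rw [Nat.one_le_iff_ne_zero, Ne, Submodule.finrank_eq_zero]
    intro h0
    rw [h0, Submodule.mem_bot] at hw
    exact hw0 hw
  -- the middle space has dimension at most `2`
  have hM2 : finrank F (mids Q W W') ≤ 2 := by
    by_contra hcon
    push Not at hcon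
    obtain ⟨x, hx, hx0, hxs⟩ := Cfsg.Agent.LieClassical.OrthFinite.exists_sing_mem (Q := Q) (mids Q W W') (by omega)
    exact hx0 (h.dp.anis hW hx hxs)
  have he : finrank F (LinearMap.range h.dlt) ≤ 2 := (LinearMap.finrank_range_le _).trans hM2
  obtain ⟨l, hl⟩ : ∃ l, finrank F W₁ = finrank F (LinearMap.range h.dlt) + (l + l) := by
    rw [Nat.even_iff] at heven
    refine ⟨(finrank F W₁ - finrank F (LinearMap.range h.dlt)) / 2, ?_⟩
    omega
  obtain ⟨A, t, D, hA⟩ := h.exists_datum hl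
  obtain ⟨W'', P⟩ := exists_partner_of_datum h D
  obtain ⟨w, w', b, hf, hS, hc⟩ := P.exists_frame (hWm W hW)
  have hsq := isSquare_corner hQ hf hg hS
  rw [hc, LinearMap.det_toMatrix] at hsq
  obtain ⟨s, hs'⟩ := hsq
  have hdetA : LinearMap.det A ≠ 0 := by
    have h1 : IsUnit (LinearMap.det A) := by
      rw [← LinearMap.isUnit_iff_isUnit_det, Module.End.isUnit_iff]
      exact ⟨hA, LinearMap.injective_iff_surjective.1 hA⟩
    exact h1.ne_zero
  have hs0 : s ≠ 0 := by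
    rintro rfl
    rw [mul_zero] at hs'
    exact hdetA hs'
  obtain ⟨A', t', D', hA'⟩ := h.exists_scale hW₁ne D (mul_ne_zero hr (inv_ne_zero hs0))
  have hdet' : LinearMap.det A' = r * r := by
    rw [hA', hs']
    field_simp
  -- make the corner nonscalar
  have hH0 : H.comap W.subtype ≠ ⊥ := by
    intro h0
    have h1 : (⟨w₁, hw₁⟩ : W) ∈ H.comap W.subtype := h.mem_H hw₁ hw₁'
    rw [h0, Submodule.mem_bot] at h1
    exact hw₁0 (congrArg Subtype.val h1)
  have hH1 : H.comap W.subtype ≠ ⊤ := by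
    intro h0
    have h1 : (⟨w₀, hw₀⟩ : W) ∈ H.comap W.subtype := by rw [h0]; trivial
    exact hw₀' (h.gH w₀ h1)
  obtain ⟨φ, hφ1, hφ2, hφ3, hφ4⟩ := ns_adjust hH0 hH1 (mul_ne_zero hr hr) hdet'
  have D'' := D'.add h.dp.ts hgO (φ := φ) (fun w hw => hφ1 w (h.mem_H w.2 hw)) (fun w => by
    obtain ⟨x, hx, hxe⟩ := hφ2 w
    rw [← hxe, D'.fixA x (h.gH _ hx)]
    exact ⟨x, x.2, rfl⟩)
  obtain ⟨W''', P'⟩ := exists_partner_of_datum h D''
  obtain ⟨w, w', b, hf, hS, hc⟩ := P'.exists_frame (hWm W hW)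
  refine ⟨w, w', hf, hS, ?_, fun c hcc => hφ4 c ?_⟩
  · rw [hc, LinearMap.det_toMatrix, hφ3]
  · rw [hc] at hcc
    apply (LinearMap.toMatrix b b).injective
    rw [hcc, map_smul, LinearMap.toMatrix_id]

/-! ### sub-frames -/

section Sub

variable {k : ℕ} {w w' : Fin (3 + k) → V}

/-- linear combinations, indexed by `Fin 3 ⊕ Fin k` -/
def cmb (w : Fin (3 + k) → V) (c : Fin 3 ⊕ Fin k → F) : V := ∑ l, c l • w (finSumFinEquiv l)

theorem cmb_eq (w : Fin (3 + k) → V) (c : Fin 3 ⊕ Fin k → F) :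
    cmb w c = ∑ l, c (finSumFinEquiv.symm l) • w l := by
  rw [cmb, ← Equiv.sum_comp finSumFinEquiv]
  simp only [_root_.Fintype.sum_sum_type, _root_.finSumFinEquiv_apply_left, _root_.finSumFinEquiv_apply_right, _root_.Equiv.symm_apply_apply]

theorem cmb_add (w : Fin (3 + k) → V) (c d : Fin 3 ⊕ Fin k → F) : cmb w (c + d) = cmb w c + cmb w d := by
  simp only [cmb, add_smul, Finset.sum_add_distrib, _root_.Cfsg.Agent.H140.TL.cmb, _root_.Pi.add_apply, _root_.add_smul, _root_.Finset.sum_add_distrib, _root_.Fintype.sum_sum_type, _root_.finSumFinEquiv_apply_left, _root_.finSumFinEquiv_apply_right]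

theorem cmb_smul (w : Fin (3 + k) → V) (a : F) (c : Fin 3 ⊕ Fin k → F) : cmb w (a • c) = a • cmb w c := by
  simp only [cmb, Finset.smul_sum, mul_smul, _root_.Cfsg.Agent.H140.TL.cmb, _root_.Pi.smul_apply, _root_.smul_eq_mul, _root_.SemigroupAction.mul_smul, _root_.Fintype.sum_sum_type, _root_.finSumFinEquiv_apply_left, _root_.finSumFinEquiv_apply_right, _root_.smul_add, _root_.Finset.smul_sum]

theorem cmb_sum {ι : Type*} (s : Finset ι) (w : Fin (3 + k) → V) (f : ι → Fin 3 ⊕ Fin k → F) :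
    cmb w (∑ i ∈ s, f i) = ∑ i ∈ s, cmb w (f i) := by
  classical
  induction s using Finset.induction_on with
  | empty => simp only [cmb, _root_.Cfsg.Agent.H140.TL.cmb, _root_.Finset.sum_apply, _root_.Finset.sum_empty, _root_.zero_smul, _root_.Finset.sum_const_zero, _root_.Fintype.sum_sum_type, _root_.finSumFinEquiv_apply_left, _root_.finSumFinEquiv_apply_right]
  | insert a s ha ih => rw [Finset.sum_insert ha, cmb_add, ih, Finset.sum_insert ha]

theorem polar_cmb (hf : Frame Q w w') (c d : Fin 3 ⊕ Fin k → F) : polar Q (cmb w c) (cmb w' d) = c ⬝ᵥ d := by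
  rw [cmb_eq, cmb_eq, hf.polar_sum_sum, dotProduct, dotProduct, ← Equiv.sum_comp finSumFinEquiv]
  simp only [_root_.Equiv.symm_apply_apply, _root_.Fintype.sum_sum_type]

theorem polar_cmb_ll (hf : Frame Q w w') (c d : Fin 3 ⊕ Fin k → F) : polar Q (cmb w c) (cmb w d) = 0 := by
  rw [cmb_eq, cmb_eq, ← polarBilin_apply_apply, map_sum]
  refine Finset.sum_eq_zero fun i _ => ?_
  rw [map_smul, polarBilin_apply_apply, hf.polar_sum_ll, smul_zero]

theorem Q_cmb (hf : Frame Q w w') (c : Fin 3 ⊕ Fin k → F) : Q (cmb w c) = 0 := by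
  rw [cmb_eq]
  exact hf.Q_sum_l _ _

/-- the corner, indexed by `Fin 3 ⊕ Fin k` -/
def cor (Q : QuadraticForm F V) (g : V → V) (w w' : Fin (3 + k) → V) : Matrix (Fin 3 ⊕ Fin k) (Fin 3 ⊕ Fin k) F :=
  (corner Q g w w').submatrix finSumFinEquiv finSumFinEquiv

theorem polar_g (g : V ≃ₗ[F] V) (c d : Fin 3 ⊕ Fin k → F) :
    polar Q (g (cmb w c)) (cmb w' d) = d ⬝ᵥ (cor Q g w w' *ᵥ c) := by
  have h1 : g (cmb w c) = ∑ l, c l • g (w (finSumFinEquiv l)) := by
    rw [cmb, map_sum]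
    simp only [map_smul]
  rw [h1, ← polarBilin_apply_apply, map_sum, LinearMap.sum_apply, cmb]
  simp only [map_smul, LinearMap.smul_apply, map_sum, polarBilin_apply_apply, dotProduct, mulVec, cor,
    submatrix_apply, corner_apply, smul_eq_mul, Finset.mul_sum]
  rw [Finset.sum_comm]
  refine Finset.sum_congr rfl fun i _ => Finset.sum_congr rfl fun j _ => ?_
  ring

variable {P P' : Matrix (Fin 3 ⊕ Fin k) (Fin 3 ⊕ Fin k) F}

theorem dot_PP (hPP : P * P' = 1) (a b : Fin 3 ⊕ Fin k → F) : (P' *ᵥ a) ⬝ᵥ (Pᵀ *ᵥ b) = a ⬝ᵥ b := by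
  rw [mulVec_transpose, dotProduct_comm, ← dotProduct_mulVec, mulVec_mulVec, hPP, one_mulVec, dotProduct_comm]

theorem polar_g' (g : V ≃ₗ[F] V) (a b : Fin 3 ⊕ Fin k → F) :
    polar Q (g (cmb w (P' *ᵥ a))) (cmb w' (Pᵀ *ᵥ b)) = b ⬝ᵥ ((P * cor Q g w w' * P') *ᵥ a) := by
  rw [polar_g, mulVec_transpose, ← dotProduct_mulVec, mulVec_mulVec, mulVec_mulVec]

/-- the sub-frame -/
theorem frame3 (hf : Frame Q w w') (hPP : P * P' = 1) :
    Frame Q (fun j => cmb w (P' *ᵥ Pi.single (Sum.inl j) 1) : Fin 3 → V)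
      (fun i => cmb w' (Pᵀ *ᵥ Pi.single (Sum.inl i) 1)) where
  sl _ := Q_cmb hf _
  sr _ := Q_cmb hf.symm _
  ll _ _ := polar_cmb_ll hf _ _
  rr _ _ := polar_cmb_ll hf.symm _ _
  lr i j := by
    rw [polar_cmb hf, dot_PP hPP, dotProduct_single, mul_one, Pi.single_apply]
    simp [eq_comm]

/-- **The Schur complement of the sub-frame is nontrivial.** -/
theorem not_schurOne (hf : Frame Q w w') (hPP : P * P' = 1) (g : V ≃ₗ[F] V) {X : Matrix (Fin k) (Fin 3) F}
    {Y : Matrix (Fin 3) (Fin k) F} {A3 : Matrix (Fin 3) (Fin 3) F} {B : Matrix (Fin k) (Fin k) F}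
    (hN : P * cor Q g w w' * P' = fromBlocks 1 0 X 1 * fromBlocks A3 0 0 B * fromBlocks 1 Y 0 1)
    (hS : SchurOne Q g (fun j => cmb w (P' *ᵥ Pi.single (Sum.inl j) 1) : Fin 3 → V)
      (fun i => cmb w' (Pᵀ *ᵥ Pi.single (Sum.inl i) 1))) : B = 1 := by
  classical
  have key : ∀ j : Fin k, B *ᵥ Pi.single j 1 = Pi.single j 1 := by
    intro j
    obtain ⟨c, d, hcd⟩ := hS (cmb w (P' *ᵥ Pi.single (Sum.inr j) 1)) (fun i => by
      refine ⟨polar_cmb_ll hf _ _, ?_⟩
      rw [polar_comm, polar_cmb hf, dot_PP hPP, dotProduct_single, mul_one]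
      simp)
    obtain ⟨z, hz⟩ : ∃ z : Fin 3 ⊕ Fin k → F, z = Sum.elim c (Pi.single j 1) := ⟨_, rfl⟩
    have hzs : z = Pi.single (Sum.inr j) 1 + ∑ i, c i • Pi.single (Sum.inl i) 1 := by
      rw [hz]
      ext l
      rcases l with l | l
      · simp [Finset.sum_apply, Pi.single_apply]
      · simp [Finset.sum_apply, Pi.single_apply]
    have e1 : cmb w (P' *ᵥ Pi.single (Sum.inr j) 1) + ∑ i, c i • cmb w (P' *ᵥ Pi.single (Sum.inl i) 1) =
        cmb w (P' *ᵥ z) := by
      rw [hzs, mulVec_add, cmb_add]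
      congr 1
      have : P' *ᵥ (∑ i, c i • Pi.single (Sum.inl i) 1) = ∑ i, c i • P' *ᵥ (Pi.single (Sum.inl i) 1) := by
        rw [← Matrix.mulVecLin_apply, map_sum]
        simp only [map_smul, Matrix.mulVecLin_apply]
      rw [this, cmb_sum]
      simp only [cmb_smul]
    have e2 : ∑ i, d i • cmb w' (Pᵀ *ᵥ Pi.single (Sum.inl i) 1) = cmb w' (Pᵀ *ᵥ Sum.elim d 0) := by
      have h1 : Sum.elim d 0 = ∑ i, d i • (Pi.single (Sum.inl i) 1 : Fin 3 ⊕ Fin k → F) := by
        ext l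
        rcases l with l | l
        · simp [Finset.sum_apply, Pi.single_apply]
        · simp [Finset.sum_apply, Pi.single_apply]
      have : Pᵀ *ᵥ (∑ i, d i • Pi.single (Sum.inl i) 1) = ∑ i, d i • Pᵀ *ᵥ (Pi.single (Sum.inl i) 1) := by
        rw [← Matrix.mulVecLin_apply, map_sum]
        simp only [map_smul, Matrix.mulVecLin_apply]
      rw [h1, this, cmb_sum]
      simp only [cmb_smul]
    rw [e1, e2] at hcd
    have e3 : ∀ b, b ⬝ᵥ ((P * cor Q g w w' * P') *ᵥ z) = (Pi.single (Sum.inr j) 1 : Fin 3 ⊕ Fin k → F) ⬝ᵥ b := by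
      intro b
      rw [← polar_g', hcd, polar_add_left, polar_cmb hf, dot_PP hPP, polar_cmb_ll hf.symm, add_zero]
    have e4 : (P * cor Q g w w' * P') *ᵥ z = Pi.single (Sum.inr j) 1 := by
      ext l
      have := e3 (Pi.single l 1)
      rwa [single_dotProduct, one_mul, dotProduct_single, mul_one] at this
    rw [hN, ← mulVec_mulVec, ← mulVec_mulVec, hz] at e4
    rw [fromBlocks_mulVec, fromBlocks_mulVec, fromBlocks_mulVec] at e4
    have e5 : ∀ i, (A3 *ᵥ (c + Y *ᵥ Pi.single j 1)) i = 0 := by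
      intro i
      have := congrFun e4 (Sum.inl i)
      simpa using this
    have e6 : A3 *ᵥ (c + Y *ᵥ Pi.single j 1) = 0 := funext e5
    ext i
    have h7 := congrFun e4 (Sum.inr i)
    simp only [Sum.elim_comp_inl, Sum.elim_comp_inr, Sum.elim_inr, one_mulVec, zero_mulVec, add_zero, zero_add,
      Pi.add_apply] at h7
    rw [e6, mulVec_zero, Pi.zero_apply, zero_add] at h7
    rw [h7]
    simp [Pi.single_apply]
  ext i j
  have h1 := congrFun (key j) i
  rw [mulVec_single_one] at h1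
  rw [← col_apply B, h1, one_apply, Pi.single_apply]

/-- the corner of the sub-frame -/
theorem corner3_eq (g : V ≃ₗ[F] V) {X : Matrix (Fin k) (Fin 3) F}
    {Y : Matrix (Fin 3) (Fin k) F} {A3 : Matrix (Fin 3) (Fin 3) F} {B : Matrix (Fin k) (Fin k) F}
    (hN : P * cor Q g w w' * P' = fromBlocks 1 0 X 1 * fromBlocks A3 0 0 B * fromBlocks 1 Y 0 1) :
    corner Q g (fun j => cmb w (P' *ᵥ Pi.single (Sum.inl j) 1) : Fin 3 → V)
      (fun i => cmb w' (Pᵀ *ᵥ Pi.single (Sum.inl i) 1)) = A3 := by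
  ext i j
  rw [corner_apply, polar_g', hN, single_dotProduct, one_mul, fromBlocks_multiply, fromBlocks_multiply]
  simp

end Sub

/-- the matrix lemma (helper308) -/
def GLC (F : Type*) [Field F] (k : ℕ) : Prop :=
  ∀ A : Matrix (Fin 3 ⊕ Fin k) (Fin 3 ⊕ Fin k) F, (∀ c : F, A ≠ c • 1) → A.det ≠ 0 →
    ∃ (P P' : Matrix (Fin 3 ⊕ Fin k) (Fin 3 ⊕ Fin k) F) (X : Matrix (Fin k) (Fin 3) F)
      (Y : Matrix (Fin 3) (Fin k) F) (A3 : Matrix (Fin 3) (Fin 3) F) (B : Matrix (Fin k) (Fin k) F),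
      P * P' = 1 ∧ P * A * P' = fromBlocks 1 0 X 1 * fromBlocks A3 0 0 B * fromBlocks 1 Y 0 1 ∧ A3.det = 1 ∧
        (∀ c : F, A3 ≠ c • 1) ∧ B.det = A.det ∧ (2 ≤ k → ∀ c : F, B ≠ c • 1)

theorem glc [Finite F] {k : ℕ} (hk : 1 ≤ k) (h3 : ∃ c : F, c ≠ 0 ∧ c ≠ 1) : GLC F k := by
  intro A hA hdet
  have : Nonempty (Fin k) := ⟨⟨0, hk⟩⟩
  obtain ⟨X, Y, A3, B, ⟨P, P', g1, -, g3⟩, h1, h2, h4, h5⟩ := H308.TC.gl_corner h3 (A := A) hA hdet
  exact ⟨P, P', X, Y, A3, B, g1, g3, h1, h2, h4, fun h => h5 (Fin.nontrivial_iff_two_le.2 h)⟩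

/-- **A frame of length `3` with nonscalar corner of determinant `1`, Schur complement `≠ 1`.** -/
theorem exists_frame3 [Finite F] [FiniteDimensional F V] (hQ : Nondeg Q) {g : V ≃ₗ[F] V}
    (hg : g ∈ Om Q) (hs : ∀ c : F, ∃ v, g v ≠ c • v) {k : ℕ} (hk : 1 ≤ k) (hkF : k = 1 → 3 < Nat.card F)
    (hWm : ∀ W, MaxTS Q W → finrank F W = 3 + k) (hgl : GLC F k) :
    ∃ e e' : Fin 3 → V, Frame Q e e' ∧ ¬ SchurOne Q g e e' ∧ (corner Q g e e').det = 1 ∧
      ∀ c : F, corner Q g e e' ≠ c • 1 := by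
  classical
  have := Fintype.ofFinite F
  -- the determinant
  obtain ⟨r, hr, hr1⟩ : ∃ r : F, r ≠ 0 ∧ (k = 1 → r * r ≠ 1) := by
    by_cases h : k = 1
    · have h3 := hkF h
      rw [Nat.card_eq_fintype_card] at h3
      by_contra hcon
      push Not at hcon
      have h4 : (Finset.univ : Finset F) ⊆ {0, 1, -1} := by
        intro r _
        by_cases hr : r = 0
        · simp only [hr, _root_.Finset.mem_insert, _root_.zero_ne_one, _root_.Finset.mem_singleton, _root_.zero_eq_neg, _root_.one_ne_zero, _root_.or_self, _root_.or_false]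
        · have h5 := (hcon r hr).2
          rcases mul_self_eq_one_iff.1 h5 with h6 | h6
          · simp only [h6, _root_.Finset.mem_insert, _root_.one_ne_zero, _root_.Finset.mem_singleton, _root_.true_or, _root_.or_true]
          · simp only [h6, _root_.Finset.mem_insert, _root_.neg_eq_zero, _root_.one_ne_zero, _root_.Finset.mem_singleton, _root_.or_true]
      have h5 := (Finset.card_le_card h4).trans Finset.card_le_three
      rw [Finset.card_univ] at h5
      omega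
    · exact ⟨1, one_ne_zero, fun h' => absurd h' h⟩
  obtain ⟨w, w', hf, hS, hdet, hns⟩ := nsCornerS hQ hg hs (by omega) hWm hr
  have e1 : (cor Q g w w').det = (corner Q g w w').det := det_submatrix_equiv_self _ _
  obtain ⟨P, P', X, Y, A3, B, hPP, hN, h3, h3n, hBd, hB⟩ := hgl (cor Q g w w') (fun c hc => hns c (by
    have h1 : corner Q g w w' = (cor Q g w w').submatrix finSumFinEquiv.symm finSumFinEquiv.symm := by
      rw [cor, submatrix_submatrix]
      simp
    rw [h1, hc]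
    ext i j
    simp [one_apply])) (by rw [e1, hdet]; exact mul_ne_zero hr hr)
  refine ⟨_, _, frame3 hf hPP, fun hSo => ?_, ?_, ?_⟩
  · have h4 := not_schurOne hf hPP g hN hSo
    rcases Nat.lt_or_ge k 2 with h5 | h5
    · rw [h4, det_one, e1, hdet] at hBd
      exact hr1 (by omega) hBd.symm
    · exact hB h5 1 (by rw [h4, one_smul])
  · rw [corner3_eq g hN, h3]
  · rw [corner3_eq g hN]
    exact h3n

end Cfsg.Agent.H140.TL
end

-- part: H140/TL/Small
section
/-!
# `Ω(Q)` in odd characteristic, dimension at least `3`: kernel of `det` and of the spinor sign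

`Om_of_lev'` : `lev 1 g ∈ Ω(MQ n Q) → g ∈ Ω(Q)`, `2 ≠ 0`, `3 ≤ dim V`.
-/

set_option autoImplicit false
set_option linter.unusedSectionVars false

namespace Cfsg.Agent.H140.TL

open Module QuadraticMap Matrix Cfsg.Agent.LieClassical.OrthCore Cfsg.Agent.LieClassical.OrthTrans
  Cfsg.Agent.LieClassical.OrthFinite
open Cfsg.Agent.H140.OreO Cfsg.Agent.H141.SpinFacts Cfsg.Agent.H160.QSpin

variable {F V : Type*} [Field F] [AddCommGroup V] [Module F V] {Q : QuadraticForm F V}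

theorem exists_move (h2 : (2 : F) ≠ 0) {u v : V} (huv : Q u = Q v) (hv : Q v ≠ 0) :
    ∃ s ∈ Subgroup.closure (reflSet Q), s u = v ∧ ∀ x, polar Q u x = 0 → polar Q v x = 0 → s x = x := by
  by_cases h : Q (u - v) = 0
  · have h1 : Q (u - -v) ≠ 0 := by
      intro h0
      have h3 : Q (u - -v) + Q (u - v) = 2 * (Q u + Q v) := by
        rw [sub_neg_eq_add, sub_eq_add_neg, Q_add, Q_add, QuadraticMap.map_neg, polar_neg_right]
        ring
      rw [h0, h, huv] at h3
      have h4 : (2 : F) * 2 * Q v = 0 := by linear_combination -h3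
      exact (mul_ne_zero (mul_ne_zero h2 h2) hv) h4
    refine ⟨refl Q v hv * refl Q (u - -v) h1, Subgroup.mul_mem _ (Subgroup.subset_closure ⟨v, hv, rfl⟩)
      (Subgroup.subset_closure ⟨_, h1, rfl⟩), ?_, fun x hx hx' => ?_⟩
    · show refl Q v hv (refl Q (u - -v) h1 u) = v
      have h5 : refl Q (u - -v) h1 u = -v := refl_sub_apply (by rw [QuadraticMap.map_neg, huv]) h1
      have h6 : polar Q v v = 2 * Q v := by rw [polar_self', two_mul]
      rw [h5, map_neg, refl_apply, h6, mul_left_comm, inv_mul_cancel₀ hv]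
      module
    · show refl Q v hv (refl Q (u - -v) h1 x) = x
      rw [refl_apply h1, polar_sub_left, polar_neg_left, hx, hx', neg_zero, sub_zero, mul_zero, zero_smul, sub_zero,
        refl_apply, hx', mul_zero, zero_smul, sub_zero]
  · refine ⟨refl Q (u - v) h, Subgroup.subset_closure ⟨_, h, rfl⟩, refl_sub_apply huv.symm h, fun x hx hx' => ?_⟩
    rw [refl_apply, polar_sub_left, hx, hx', sub_zero, mul_zero, zero_smul, sub_zero]

theorem exists_orth_basis [FiniteDimensional F V] (h2 : (2 : F) ≠ 0) (hQ : Nondeg Q) :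
    ∃ b : Basis (Fin (finrank F V)) F V, (∀ i, Q (b i) ≠ 0) ∧ ∀ i j, i ≠ j → polar Q (b i) (b j) = 0 := by
  have : Invertible (2 : F) := invertibleOfNonzero h2
  have hs : LinearMap.IsSymm (polarBilin Q) := ⟨fun x y => by
    simp only [polarBilin_apply_apply, RingHom.id_apply]
    exact polar_comm (⇑Q) x y⟩
  have hnd : (polarBilin Q).Nondegenerate :=
    ⟨fun x h => hQ x h, fun y h => hQ y fun x => by rw [polar_comm]; exact h x⟩
  obtain ⟨b, hb⟩ := LinearMap.BilinForm.exists_orthogonal_basis hs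
  refine ⟨b, fun i hi => ?_, fun i j hij => ?_⟩
  · apply hb.not_isOrtho_basis_self_of_separatingLeft hnd.1 i
    rw [polarBilin_apply_apply, polar_self', hi, mul_zero]
  · have := hb hij
    simpa [Function.onFun] using this

theorem closure_refl [FiniteDimensional F V] (h2 : (2 : F) ≠ 0) (hQ : Nondeg Q) :
    O Q = Subgroup.closure (reflSet Q) := by
  classical
  have hle : Subgroup.closure (reflSet Q) ≤ O Q := by
    rw [Subgroup.closure_le]
    rintro _ ⟨v, hv, rfl⟩
    exact refl_mem_O hv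
  refine le_antisymm (fun g hg => ?_) hle
  obtain ⟨b, hb, hbo⟩ := exists_orth_basis h2 hQ
  have key : ∀ t : Finset (Fin (finrank F V)), ∃ s ∈ Subgroup.closure (reflSet Q), ∀ i ∈ t, (s * g) (b i) = b i := by
    intro t
    induction t using Finset.induction_on with
    | empty => exact ⟨1, Subgroup.one_mem _, fun i hi => absurd hi (Finset.notMem_empty i)⟩
    | insert a t ha ih =>
      obtain ⟨s, hs, hst⟩ := ih
      have hsg : s * g ∈ O Q := (O Q).mul_mem (hle hs) hg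
      obtain ⟨r, hr, hru, hrx⟩ := exists_move h2 (u := (s * g) (b a)) (v := b a) (mem_O.1 hsg _) (hb a)
      refine ⟨r * s, Subgroup.mul_mem _ hr hs, fun i hi => ?_⟩
      rw [mul_assoc]
      show r ((s * g) (b i)) = b i
      rcases Finset.mem_insert.1 hi with rfl | hi
      · exact hru
      · have hia : a ≠ i := fun h => ha (h ▸ hi)
        rw [hst i hi]
        apply hrx
        · conv_lhs => rw [← hst i hi]
          rw [polar_map hsg, hbo _ _ hia]
        · exact hbo _ _ hia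
  obtain ⟨s, hs, hst⟩ := key Finset.univ
  have h1 : s * g = 1 := by
    apply LinearEquiv.toLinearMap_injective
    exact b.ext fun i => hst i (Finset.mem_univ i)
  rw [eq_inv_of_mul_eq_one_right h1]
  exact Subgroup.inv_mem _ hs

theorem pj_conj {a b : O Q} : pj Q (a * b * a⁻¹) = pj Q b := by
  rw [map_mul, map_mul, map_inv, mul_comm (pj Q a), mul_assoc, mul_inv_cancel, mul_one]

theorem pj_rO_eq' (h2 : (2 : F) ≠ 0) {v v' : V} (hv : Q v ≠ 0) (hv' : Q v' ≠ 0)
    (h : ∃ c : F, Q v' = c * c * Q v) : pj Q (rO Q v hv) = pj Q (rO Q v' hv') := by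
  obtain ⟨c, hc⟩ := h
  have hc0 : c ≠ 0 := by
    rintro rfl
    exact hv' (by rw [hc]; ring)
  have h1 : Q (c • v) = Q v' := by rw [QuadraticMap.map_smul, smul_eq_mul, hc]
  have h3 : Q (c • v) ≠ 0 := by rw [h1]; exact hv'
  obtain ⟨s, hs, hsv, -⟩ := exists_move h2 h1 hv'
  have hle : Subgroup.closure (reflSet Q) ≤ O Q := by
    rw [Subgroup.closure_le]
    rintro _ ⟨v, hv, rfl⟩
    exact refl_mem_O hv
  have hsO := hle hs
  have h4 : Q (s (c • v)) ≠ 0 := by rw [hsv]; exact hv'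
  have h5 := refl_conj hsO h3 h4
  have h6 : rO Q v' hv' = ⟨s, hsO⟩ * rO Q v hv * ⟨s, hsO⟩⁻¹ := by
    apply Subtype.ext
    show refl Q v' hv' = s * refl Q v hv * s⁻¹
    rw [← refl_smul hv hc0 h3, h5]
    congr 1
    exact hsv.symm
  rw [h6, pj_conj]

theorem pj_mem' [FiniteDimensional F V] (h2 : (2 : F) ≠ 0) (hQ : Nondeg Q) (H : Subgroup (Abelianization (O Q)))
    (hH : ∀ (v : V) (hv : Q v ≠ 0), pj Q (rO Q v hv) ∈ H) (g : O Q) : pj Q g ∈ H := by
  have hcl := closure_refl h2 hQ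
  have key : ∀ g ∈ Subgroup.closure (reflSet Q), ∀ hg : g ∈ O Q, pj Q ⟨g, hg⟩ ∈ H := by
    intro g hgc
    induction hgc using Subgroup.closure_induction with
    | mem x hx =>
      intro hxO
      obtain ⟨v, hv, rfl⟩ := hx
      exact hH v hv
    | one =>
      intro h1
      have : (⟨1, h1⟩ : O Q) = 1 := rfl
      rw [this, map_one]
      exact H.one_mem
    | mul x y hx hy ihx ihy =>
      intro hxy
      have hx' : x ∈ O Q := by rw [hcl]; exact hx
      have hy' : y ∈ O Q := by rw [hcl]; exact hy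
      have : (⟨x * y, hxy⟩ : O Q) = ⟨x, hx'⟩ * ⟨y, hy'⟩ := rfl
      rw [this, map_mul]
      exact H.mul_mem (ihx hx') (ihy hy')
    | inv x hx ihx =>
      intro hxi
      have hx' : x ∈ O Q := by rw [hcl]; exact hx
      have : (⟨x⁻¹, hxi⟩ : O Q) = ⟨x, hx'⟩⁻¹ := rfl
      rw [this, map_inv]
      exact H.inv_mem (ihx hx')
  obtain ⟨g, hg⟩ := g
  exact key g (by rw [← hcl]; exact hg) hg

theorem exists_Q_eq' [Finite F] (hQ : Nondeg Q) (hd : 3 ≤ finrank F V) (c : F) : ∃ v, Q v = c := by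
  have : Module.Finite F V := Module.finite_of_finrank_pos (by omega)
  obtain ⟨x, -, hx0, hx⟩ := exists_sing_mem (Q := Q) (⊤ : Submodule F V) (by rw [finrank_top]; exact hd)
  obtain ⟨y, h⟩ := Cfsg.Agent.LieClassical.OrthTrans.exists_hyp hQ hx hx0
  refine ⟨x + c • y, ?_⟩
  rw [Q_add, h.left, QuadraticMap.map_smul, h.right, polar_smul_right, h.pair]
  simp

/-- **Odd characteristic, dimension `≥ 3`**: `Ω` is the kernel of `det` and the spinor sign. -/
theorem mem_Om_of_odd' [Finite F] [FiniteDimensional F V] [Finite V] (h2 : (2 : F) ≠ 0) (hQ : Nondeg Q)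
    (hd : 3 ≤ finrank F V)
    {g : V ≃ₗ[F] V} (hg : g ∈ O Q) (hdet : LinearEquiv.det g = 1) (hs : spin Q ⟨g, hg⟩ = 1) :
    g ∈ Om Q := by
  classical
  have := Fintype.ofFinite F
  obtain ⟨ν, hν⟩ : ∃ ν : F, ¬ IsSquare ν := FiniteField.exists_nonsquare (by
    intro h
    exact h2 (by have := ringChar.spec F 2; exact (this.2 (by rw [h])).symm ▸ (this.2 (by rw [h]))))
  have hν0 : ν ≠ 0 := by rintro rfl; exact hν (IsSquare.zero)
  obtain ⟨a, ha⟩ := exists_Q_eq' hQ hd 1
  obtain ⟨b, hb⟩ := exists_Q_eq' hQ hd ν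
  have ha0 : Q a ≠ 0 := by rw [ha]; exact one_ne_zero
  have hb0 : Q b ≠ 0 := by rw [hb]; exact hν0
  have h3 := pj_mem' h2 hQ (Subgroup.closure {pj Q (rO Q a ha0), pj Q (rO Q b hb0)}) (by
    intro v hv
    by_cases hsq : IsSquare (Q v)
    · obtain ⟨c, hc⟩ := hsq
      have : pj Q (rO Q v hv) = pj Q (rO Q a ha0) := (pj_rO_eq' h2 ha0 hv ⟨c, by
        rw [ha, hc, mul_one]⟩).symm
      rw [this]
      exact Subgroup.subset_closure (by simp)
    · have h5 : IsSquare (Q v * ν⁻¹) := by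
        have h6 : chi (Q v * ν⁻¹) = 1 := by
          have h7 : chi ν⁻¹ * chi ν = 1 := by
            rw [← chi_mul (inv_ne_zero hν0) hν0, inv_mul_cancel₀ hν0, chi_eq_one_iff]
            exact IsSquare.one
          have h8 : chi ν = -1 := by
            rcases Int.units_eq_one_or (chi ν) with h | h
            · exact absurd ((chi_eq_one_iff _).1 h) hν
            · exact h
          have h9 : chi (Q v) = -1 := by
            rcases Int.units_eq_one_or (chi (Q v)) with h | h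
            · exact absurd ((chi_eq_one_iff _).1 h) hsq
            · exact h
          rw [chi_mul hv (inv_ne_zero hν0), h9]
          rw [h8] at h7
          rw [mul_comm]
          exact h7
        exact (chi_eq_one_iff _).1 h6
      obtain ⟨c, hc⟩ := h5
      have : pj Q (rO Q v hv) = pj Q (rO Q b hb0) := (pj_rO_eq' h2 hb0 hv ⟨c, by
        rw [hb, ← hc, inv_mul_cancel_right₀ hν0]⟩).symm
      rw [this]
      exact Subgroup.subset_closure (by simp)) ⟨g, hg⟩
  rw [Subgroup.mem_closure_pair] at h3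
  obtain ⟨m, k, hmk⟩ := h3
  -- the spinor sign
  have e1 : Abelianization.lift (spin Q) (pj Q (rO Q a ha0)) = -1 := by
    rw [Abelianization.lift_apply_of]
    have := spin_refl' h2 ha0
    rw [ha, (chi_eq_one_iff (1 : F)).2 IsSquare.one] at this
    exact this
  have e2 : Abelianization.lift (spin Q) (pj Q (rO Q b hb0)) = 1 := by
    rw [Abelianization.lift_apply_of]
    have := spin_refl' h2 hb0
    have h8 : chi ν = -1 := by
      rcases Int.units_eq_one_or (chi ν) with h | h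
      · exact absurd ((chi_eq_one_iff _).1 h) hν
      · exact h
    rw [hb, h8, neg_neg] at this
    exact this
  have e3 := congrArg (Abelianization.lift (spin Q)) hmk
  ((conv at e3 => enter [@2]; rw [map_mul]); (conv at e3 => enter [@2, @5]; rw [map_zpow]); (conv at e3 => enter [@2, @6]; rw [map_zpow]); (conv at e3 => enter [@2, @5, @5]; rw [e1]); (conv at e3 => enter [@2, @6, @5]; rw [e2]); (conv at e3 => enter [@2, @6]; rw [_root_.one_zpow]); (conv at e3 => enter [@2]; rw [mul_one]); rewrite [Abelianization.lift_apply_of, hs] at e3)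
  let dt : O Q →* Fˣ := LinearEquiv.det.comp (O Q).subtype
  have e4 : Abelianization.lift dt (pj Q (rO Q a ha0)) = -1 := by
    rw [Abelianization.lift_apply_of]
    exact det_refl ha0
  have e5 : Abelianization.lift dt (pj Q (rO Q b hb0)) = -1 := by
    rw [Abelianization.lift_apply_of]
    exact det_refl hb0
  have e6 := congrArg (Abelianization.lift dt) hmk
  simp only [map_mul, map_zpow, map_zpow, e4, e5, Abelianization.lift_apply_of] at e6
  have e7 : dt ⟨g, hg⟩ = 1 := hdet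
  rw [e7] at e6
  have hm1 : (-1 : Fˣ) ≠ 1 := by
    intro h
    have h6 : (-1 : F) = 1 := by
      have := congrArg Units.val h
      simpa using this
    apply h2
    linear_combination (-1 : F) * h6
  have h4 : pj Q ⟨g, hg⟩ = 1 := by
    rw [← hmk]
    rcases zpow_eq_of_sq (pj_rO_sq ha0) m with ⟨hm, h⟩ | ⟨hm, h⟩
    · rcases zpow_eq_of_sq (pj_rO_sq hb0) k with ⟨hk, h'⟩ | ⟨hk, h'⟩
      · rw [h, h', one_mul]
      · exfalso
        rw [hm.neg_one_zpow, hk.neg_one_zpow, one_mul] at e6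
        exact hm1 e6
    · exfalso
      rw [hm.neg_one_zpow] at e3
      exact absurd e3 (by decide)
  exact (pj_eq_one_iff _).1 h4

/-- Membership in `Ω` can be tested in the model space, dimension `≥ 3`, odd characteristic. -/
theorem Om_of_lev' [Finite F] [FiniteDimensional F V] (h2 : (2 : F) ≠ 0) (hQ : Nondeg Q)
    (hd : 3 ≤ Module.finrank F V) {n : ℕ} {g : V ≃ₗ[F] V} (hg : g ∈ O Q)
    (h : lev (1 : GL (Fin n) F) g ∈ Om (MQ n Q)) : g ∈ Om Q := by
  have : Finite V := Module.finite_of_finite F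
  have : Finite (M F V n) := inferInstance
  have h3 := hom_eq_one (spin (MQ n Q)) h (comm_le h)
  have h4 := spin_levO (n := n) h2 hQ ⟨g, hg⟩
  have h5 : levO n Q ⟨g, hg⟩ = ⟨lev 1 g, comm_le h⟩ := rfl
  rw [h5, h3] at h4
  have h6 := det_eq_one h
  rw [det_lev] at h6
  exact mem_Om_of_odd' h2 hQ hd hg (by simpa using h6) h4.symm

end Cfsg.Agent.H140.TL
end

-- part: H140/TL/Levi
section
/-!
# S2464, orthogonal groups of odd dimension: two fixed classes in a Levi subgroup `GL_n × O(perp)`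

* `Cop.conj` : `Cop` is invariant under conjugation.
* `class_model` : the `O`-class of `lev X z` is an `Ω`-class, if some `T` commuting with `X` has nonsquare determinant.
* `twoOf_levi` : Levi subgroup of a maximal frame.
* `twoOf_three` : Levi subgroup `GL_3 × O(perp)`.
-/

set_option autoImplicit false
set_option linter.unusedSectionVars false

namespace Cfsg.Agent.H140.TL

open Module QuadraticMap Matrix Cfsg.Agent.LieClassical.OrthCore Cfsg.Agent.LieClassical.OrthTrans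
  Cfsg.Agent.LieClassical.OrthFinite Cfsg.Agent.H140.OreO Cfsg.Agent.H126.PwO Cfsg.Agent.H141.SpinFacts
  Cfsg.Agent.H160.QSpin Cfsg.Agent.H140.TC
open Cfsg.Agent.H434.Corn (MaxTS)

variable {F V : Type*} [Field F] [AddCommGroup V] [Module F V] {Q : QuadraticForm F V} {n : ℕ}

/-! ### `Cop` is invariant under conjugation -/

theorem cop_aux {X P : GL (Fin n) F} (a : Fin n → F) :
    ((P * X * P⁻¹ : GL (Fin n) F) : Matrix (Fin n) (Fin n) F) *ᵥ ((P : Matrix (Fin n) (Fin n) F) *ᵥ a) =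
      (P : Matrix (Fin n) (Fin n) F) *ᵥ ((X : Matrix (Fin n) (Fin n) F) *ᵥ a) := by
  rw [mulVec_mulVec, ← Units.val_mul, inv_mul_cancel_right, Units.val_mul, mulVec_mulVec]

theorem inj_of_comp {U W : Type*} [AddCommGroup U] [Module F U] [AddCommGroup W] [Module F W]
    {f : U →ₗ[F] W} {p : U ≃ₗ[F] U} {s : W ≃ₗ[F] W}
    (h : (s : W →ₗ[F] W) ∘ₗ f ∘ₗ (p : U →ₗ[F] U) = 0) : f = 0 := by
  apply LinearMap.ext
  intro a
  have h1 := LinearMap.congr_fun h (p.symm a)
  have h2 : s (f (p (p.symm a))) = 0 := h1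
  rw [LinearEquiv.apply_symm_apply] at h2
  exact s.map_eq_zero_iff.1 h2

theorem gle_apply' (A : GL (Fin n) F) (a : Fin n → F) : gle A a = (A : Matrix (Fin n) (Fin n) F) *ᵥ a := rfl

theorem _root_.Cfsg.Agent.H140.OreO.Cop.conj {X : GL (Fin n) F} {h : V ≃ₗ[F] V} (hc : Cop X h) (P : GL (Fin n) F)
    (s : V ≃ₗ[F] V) : Cop (P * X * P⁻¹) (s * h * s⁻¹) := by
  have hs : ∀ v, s⁻¹ ((s * h * s⁻¹) v) = h (s⁻¹ v) := by
    intro v
    show s.symm (s (h (s.symm v))) = h (s.symm v)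
    rw [LinearEquiv.symm_apply_apply]
  have hs' : ∀ v, (s * h * s⁻¹) (s v) = s (h v) := by
    intro v
    show s (h (s.symm (s v))) = s (h v)
    rw [LinearEquiv.symm_apply_apply]
  have hti : ti (P * X * P⁻¹) = ti P * ti X * (ti P)⁻¹ := by rw [ti_mul, ti_mul, ti_inv]
  -- `gle` of the transposes
  let pt : (Fin n → F) ≃ₗ[F] (Fin n → F) := gle (ti P)⁻¹
  have hpt : ∀ a, pt a = (P : Matrix (Fin n) (Fin n) F)ᵀ *ᵥ a := by
    intro a
    apply (gle (ti P)).injective
    show (gle (ti P)) (gle (ti P)⁻¹ a) = _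
    rw [gle_apply', gle_apply', gle_apply', mulVec_mulVec, ← Units.val_mul, mul_inv_cancel, Units.val_one,
      one_mulVec, mulVec_mulVec]
    have : (ti P : Matrix (Fin n) (Fin n) F) * (P : Matrix (Fin n) (Fin n) F)ᵀ = 1 := (ti P).val_inv
    rw [this, one_mulVec]
  have hpi : ∀ a, ((P⁻¹ : GL (Fin n) F) : Matrix (Fin n) (Fin n) F) *ᵥ
      (((P * X * P⁻¹ : GL (Fin n) F) : Matrix (Fin n) (Fin n) F) *ᵥ a) =
      (X : Matrix (Fin n) (Fin n) F) *ᵥ (((P⁻¹ : GL (Fin n) F) : Matrix (Fin n) (Fin n) F) *ᵥ a) := by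
    intro a
    rw [mulVec_mulVec, ← Units.val_mul, mulVec_mulVec, ← Units.val_mul]
    congr 2
    group
  have hti1 : ∀ a, ((ti (P * X * P⁻¹) : GL (Fin n) F) : Matrix (Fin n) (Fin n) F) *ᵥ
      ((ti P : Matrix (Fin n) (Fin n) F) *ᵥ a) =
      (ti P : Matrix (Fin n) (Fin n) F) *ᵥ ((ti X : Matrix (Fin n) (Fin n) F) *ᵥ a) := by
    intro a
    rw [hti]
    exact cop_aux a
  have hti2 : ∀ a, (((ti P)⁻¹ : GL (Fin n) F) : Matrix (Fin n) (Fin n) F) *ᵥ
      ((ti (P * X * P⁻¹) : Matrix (Fin n) (Fin n) F) *ᵥ a) =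
      (ti X : Matrix (Fin n) (Fin n) F) *ᵥ ((((ti P)⁻¹ : GL (Fin n) F) : Matrix (Fin n) (Fin n) F) *ᵥ a) := by
    intro a
    rw [hti, mulVec_mulVec, ← Units.val_mul, mulVec_mulVec, ← Units.val_mul]
    congr 2
    group
  have htd : ∀ a b : Fin n → F, a ⬝ᵥ ((((ti P)⁻¹ : GL (Fin n) F) : Matrix (Fin n) (Fin n) F) *ᵥ b) =
      ((P : Matrix (Fin n) (Fin n) F) *ᵥ a) ⬝ᵥ b := by
    intro a b
    have h1 := dot_ti P a ((((ti P)⁻¹ : GL (Fin n) F) : Matrix (Fin n) (Fin n) F) *ᵥ b)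
    rw [mulVec_mulVec _ (ti P : Matrix (Fin n) (Fin n) F), ← Units.val_mul, mul_inv_cancel, Units.val_one,
      one_mulVec] at h1
    exact h1.symm
  have htd' : ∀ a b : Fin n → F, a ⬝ᵥ (((P⁻¹ : GL (Fin n) F) : Matrix (Fin n) (Fin n) F) *ᵥ b) =
      ((ti P : Matrix (Fin n) (Fin n) F) *ᵥ a) ⬝ᵥ b := by
    intro a b
    have h1 := dot_ti P (((P⁻¹ : GL (Fin n) F) : Matrix (Fin n) (Fin n) F) *ᵥ b) a
    rw [mulVec_mulVec, ← Units.val_mul, mul_inv_cancel, Units.val_one, one_mulVec] at h1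
    rw [dotProduct_comm a, ← h1, dotProduct_comm]
  refine ⟨fun f hf => ?_, fun f hf => ?_, fun f h0 hf => ?_, fun f hf => ?_, fun f hf => ?_, fun f h0 hf => ?_⟩
  · apply inj_of_comp (p := gle P) (s := s⁻¹)
    apply hc.a
    intro a
    show s⁻¹ (f ((P : Matrix (Fin n) (Fin n) F) *ᵥ ((X : Matrix (Fin n) (Fin n) F) *ᵥ a))) =
      h (s⁻¹ (f ((P : Matrix (Fin n) (Fin n) F) *ᵥ a)))
    rw [← cop_aux, hf, hs]
  · apply inj_of_comp (p := s) (s := gle (ti P)⁻¹)
    apply hc.b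
    intro v
    show (((ti P)⁻¹ : GL (Fin n) F) : Matrix (Fin n) (Fin n) F) *ᵥ (f (s (h v))) =
      (ti X : Matrix (Fin n) (Fin n) F) *ᵥ ((((ti P)⁻¹ : GL (Fin n) F) : Matrix (Fin n) (Fin n) F) *ᵥ (f (s v)))
    rw [← hs', hf, hti2]
  · apply inj_of_comp (p := gle P) (s := gle (ti P)⁻¹)
    apply hc.c
    · intro a
      show a ⬝ᵥ ((((ti P)⁻¹ : GL (Fin n) F) : Matrix (Fin n) (Fin n) F) *ᵥ
        (f ((P : Matrix (Fin n) (Fin n) F) *ᵥ a))) = 0
      rw [htd, h0]
    · intro a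
      show (((ti P)⁻¹ : GL (Fin n) F) : Matrix (Fin n) (Fin n) F) *ᵥ
        (f ((P : Matrix (Fin n) (Fin n) F) *ᵥ ((X : Matrix (Fin n) (Fin n) F) *ᵥ a))) =
        (ti X : Matrix (Fin n) (Fin n) F) *ᵥ ((((ti P)⁻¹ : GL (Fin n) F) : Matrix (Fin n) (Fin n) F) *ᵥ
          (f ((P : Matrix (Fin n) (Fin n) F) *ᵥ a)))
      rw [← cop_aux, hf, hti2]
  · apply inj_of_comp (p := gle (ti P)) (s := s⁻¹)
    apply hc.a'
    intro a
    show s⁻¹ (f ((ti P : Matrix (Fin n) (Fin n) F) *ᵥ ((ti X : Matrix (Fin n) (Fin n) F) *ᵥ a))) =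
      h (s⁻¹ (f ((ti P : Matrix (Fin n) (Fin n) F) *ᵥ a)))
    rw [← hti1, hf, hs]
  · apply inj_of_comp (p := s) (s := gle P⁻¹)
    apply hc.b'
    intro v
    show ((P⁻¹ : GL (Fin n) F) : Matrix (Fin n) (Fin n) F) *ᵥ (f (s (h v))) =
      (X : Matrix (Fin n) (Fin n) F) *ᵥ (((P⁻¹ : GL (Fin n) F) : Matrix (Fin n) (Fin n) F) *ᵥ (f (s v)))
    rw [← hs', hf, hpi]
  · apply inj_of_comp (p := gle (ti P)) (s := gle P⁻¹)
    apply hc.c'
    · intro a
      show a ⬝ᵥ (((P⁻¹ : GL (Fin n) F) : Matrix (Fin n) (Fin n) F) *ᵥ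
        (f ((ti P : Matrix (Fin n) (Fin n) F) *ᵥ a))) = 0
      rw [htd', h0]
    · intro a
      show ((P⁻¹ : GL (Fin n) F) : Matrix (Fin n) (Fin n) F) *ᵥ
        (f ((ti P : Matrix (Fin n) (Fin n) F) *ᵥ ((ti X : Matrix (Fin n) (Fin n) F) *ᵥ a))) =
        (X : Matrix (Fin n) (Fin n) F) *ᵥ (((P⁻¹ : GL (Fin n) F) : Matrix (Fin n) (Fin n) F) *ᵥ
          (f ((ti P : Matrix (Fin n) (Fin n) F) *ᵥ a)))
      rw [← hti1, hf, hpi]

/-! ### the classes are invariant under the whole orthogonal group -/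

theorem det_neg_one {U : Type*} [AddCommGroup U] [Module F U] [FiniteDimensional F U] (hodd : Odd (finrank F U)) :
    LinearEquiv.det (LinearEquiv.neg F : U ≃ₗ[F] U) = -1 := by
  apply Units.ext
  rw [LinearEquiv.coe_det]
  have h1 : ((LinearEquiv.neg F : U ≃ₗ[F] U) : U →ₗ[F] U) = (-1 : F) • LinearMap.id := by
    ext v
    simp
  rw [h1, LinearMap.det_smul, LinearMap.det_id, mul_one, hodd.neg_one_pow, Units.val_neg, Units.val_one]

theorem neg_mem_O : (LinearEquiv.neg F : V ≃ₗ[F] V) ∈ O Q := fun v => by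
  show Q (-v) = Q v
  rw [QuadraticMap.map_neg]

/-- **The `O`-class of `x₀` is an `Ω`-class.** -/
theorem class_of_cen [Finite F] [Finite V] [FiniteDimensional F V] (h2 : (2 : F) ≠ 0) (hQ : Nondeg Q)
    (hodd : Odd (finrank F V)) (hd : 3 ≤ finrank F V) {x₀ : V ≃ₗ[F] V} (hx₀ : x₀ ∈ O Q)
    {t : V ≃ₗ[F] V} (ht : t ∈ O Q) (htx : t * x₀ = x₀ * t) (htd : LinearEquiv.det t = 1)
    (hts : spin Q ⟨t, ht⟩ = -1) {S : V ≃ₗ[F] V} (hS : S ∈ O Q) :
    ∃ u ∈ Om Q, S * x₀ * S⁻¹ = u * x₀ * u⁻¹ := by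
  let C : Subgroup (O Q) := Subgroup.centralizer {⟨x₀, hx₀⟩}
  have hC : ∀ h : O Q, h ∈ C ↔ x₀ * (h : V ≃ₗ[F] V) = h * x₀ := by
    intro h
    rw [Subgroup.mem_centralizer_singleton_iff]
    constructor
    · intro h1
      exact (congrArg Subtype.val h1).symm
    · intro h1
      exact Subtype.ext h1.symm
  -- the central element `-1`
  let N : O Q := ⟨LinearEquiv.neg F, neg_mem_O⟩
  have hNC : N ∈ C := by
    rw [hC]
    apply LinearEquiv.ext
    intro v
    show x₀ (-v) = -(x₀ v)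
    rw [map_neg]
  have hTC : (⟨t, ht⟩ : O Q) ∈ C := by rw [hC]; exact htx.symm
  have key := pj_mem' h2 hQ (C.map (pj Q)) (fun v hv => by
    -- an element of `C` of determinant `-1` and given spinor sign
    obtain ⟨k, hk, hkd, hks⟩ : ∃ k ∈ C, LinearEquiv.det (k : V ≃ₗ[F] V) = -1 ∧ spin Q k = spin Q (rO Q v hv) := by
      by_cases h : spin Q N = spin Q (rO Q v hv)
      · exact ⟨N, hNC, det_neg_one hodd, h⟩
      · refine ⟨N * ⟨t, ht⟩, C.mul_mem hNC hTC, ?_, ?_⟩
        · show LinearEquiv.det ((LinearEquiv.neg F : V ≃ₗ[F] V) * t) = -1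
          rw [map_mul, htd, mul_one, det_neg_one hodd]
        · rw [map_mul, hts]
          rcases Int.units_eq_one_or (spin Q N) with h1 | h1 <;>
            rcases Int.units_eq_one_or (spin Q (rO Q v hv)) with h3 | h3
          · exact absurd (h1.trans h3.symm) h
          · rw [h1, h3, one_mul]
          · rw [h1, h3]; rfl
          · exact absurd (h1.trans h3.symm) h
    refine ⟨k, hk, ?_⟩
    have h4 : pj Q (k * (rO Q v hv)⁻¹) = 1 := by
      rw [pj_eq_one_iff]
      refine mem_Om_of_odd' h2 hQ hd (k * (rO Q v hv)⁻¹).2 ?_ ?_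
      · show LinearEquiv.det ((k : V ≃ₗ[F] V) * (refl Q v hv)⁻¹) = 1
        rw [map_mul, map_inv, hkd, det_refl hv]
        simp
      · show spin Q (k * (rO Q v hv)⁻¹) = 1
        rw [map_mul, map_inv, hks, mul_inv_cancel]
    rw [map_mul, map_inv, mul_inv_eq_one] at h4
    exact h4) ⟨S, hS⟩
  obtain ⟨h, hhC, hh⟩ := key
  have h1 : x₀ * (h : V ≃ₗ[F] V) = h * x₀ := (hC h).1 hhC
  have h3 : pj Q (⟨S, hS⟩ * h⁻¹) = 1 := by
    rw [map_mul, map_inv, hh, mul_inv_cancel]
  rw [pj_eq_one_iff] at h3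
  refine ⟨S * (h : V ≃ₗ[F] V)⁻¹, h3, ?_⟩
  have h5 : (h : V ≃ₗ[F] V)⁻¹ * x₀ * h = x₀ := by rw [mul_assoc, h1, ← mul_assoc, inv_mul_cancel, one_mul]
  conv_lhs => rw [← h5]
  group

theorem finrank_M [FiniteDimensional F V] : finrank F (M F V n) = finrank F V + 2 * n := by
  rw [Module.finrank_prod, Module.finrank_prod, Module.finrank_fin_fun]
  ring

/-- in the model space: `x₀ = lev X z` -/
theorem class_model [Finite F] [FiniteDimensional F V] (h2 : (2 : F) ≠ 0) (hQ : Nondeg Q)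
    (hodd : Odd (finrank F V)) (hn : 1 ≤ n) {X T : GL (Fin n) F} (hTX : T * X = X * T)
    (hT : ¬ IsSquare (T : Matrix (Fin n) (Fin n) F).det) {z : V ≃ₗ[F] V} (hz : z ∈ O Q)
    {S : M F V n ≃ₗ[F] M F V n} (hS : S ∈ O (MQ n Q)) :
    ∃ u ∈ Om (MQ n Q), S * lev X z * S⁻¹ = u * lev X z * u⁻¹ := by
  have : Finite V := Module.finite_of_finite F
  have h1 := finrank_M (F := F) (V := V) (n := n)
  have h3 : Odd (finrank F (M F V n)) := by
    rw [h1]
    exact hodd.add_even (even_two_mul n)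
  have hpos := hodd.pos
  have : Finite (M F V n) := inferInstance
  refine class_of_cen h2 (nondeg_MQ hQ) h3 (by omega) (lev_mem hz) (t := lev T 1) (lev_mem (O Q).one_mem) ?_ ?_ ?_ hS
  · rw [← lev_mul, ← lev_mul, hTX, one_mul, mul_one]
  · rw [det_lev, map_one]
  · have h4 := spin_levGL (n := n) (Q := Q) h2 T
    have h5 : levGL n Q T = ⟨lev T 1, lev_mem (O Q).one_mem⟩ := rfl
    rw [h5] at h4
    rw [h4]
    rcases Int.units_eq_one_or (chi (T : Matrix (Fin n) (Fin n) F).det) with h | h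
    · exact absurd ((chi_eq_one_iff _).1 h) hT
    · exact h

/-! ### the engine -/

/-- transport to another frame -/
theorem transport {e e' w w' : Fin n → V} {T g g' : V ≃ₗ[F] V} (hT : T ∈ O Q) (hTl : ∀ i, T (e i) = w i)
    (hTr : ∀ i, T (e' i) = w' i) (hg' : g' = T⁻¹ * g * T) :
    corner Q g' e e' = corner Q g w w' ∧ (SchurOne Q g' e e' ↔ SchurOne Q g w w') := by
  have hg'a : ∀ v, T (g' v) = g (T v) := by
    intro v
    rw [hg']
    exact T.apply_symm_apply _
  have hperp : ∀ v, T v ∈ perp Q w w' ↔ v ∈ perp Q e e' := by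
    intro v
    rw [mem_perp, mem_perp]
    refine forall_congr' fun i => ?_
    rw [← hTl, ← hTr, polar_map hT, polar_map hT]
  have e1 : ∀ (v : V) (c : Fin n → F), T (v + ∑ i, c i • e i) = T v + ∑ i, c i • w i := by
    intro v c
    rw [map_add, map_sum]
    simp only [map_smul, hTl]
  have e2 : ∀ (v : V) (c : Fin n → F), T (v + ∑ i, c i • e' i) = T v + ∑ i, c i • w' i := by
    intro v c
    rw [map_add, map_sum]
    simp only [map_smul, hTr]
  refine ⟨?_, fun hS v hv => ?_, fun hS v hv => ?_⟩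
  · ext i j
    rw [corner_apply, corner_apply, ← polar_map hT, hg'a, hTl, hTr]
  · obtain ⟨u, rfl⟩ := T.surjective v
    obtain ⟨c, d, hcd⟩ := hS u ((hperp u).1 hv)
    refine ⟨c, d, ?_⟩
    have h1 := congrArg T hcd
    rwa [hg'a, e1, e2] at h1
  · obtain ⟨c, d, hcd⟩ := hS (T v) ((hperp v).2 hv)
    refine ⟨c, d, ?_⟩
    apply T.injective
    rwa [hg'a, e1, e2]

section Fin

variable [Finite F] [FiniteDimensional F V]

/-- **The core.** -/
theorem core {e e' : Fin n → V} (hf : Frame Q e e') {g : V ≃ₗ[F] V} (hg : g ∈ O Q) {X₀ Y₀ : GL (Fin n) F}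
    {x y : perp Q e e' ≃ₗ[F] perp Q e e'} (hx : x ∈ O (res Q e e')) (hy : y ∈ O (res Q e e')) (hc1 : Cop X₀ x)
    (hc2 : Cop Y₀ y) (A P R : GL (Fin n) F) (hA : (A : Matrix (Fin n) (Fin n) F) = corner Q g e e')
    (hPR : A = (P * X₀ * P⁻¹) * (R * Y₀ * R⁻¹))
    (hg₁ : ∀ u₁ ∈ Um n (res Q e e'), ∀ u₂ ∈ Up n (res Q e e'), ∀ g₁ ∈ O (res Q e e'),
      autE hf.toModel g = u₁ * lev A g₁ * u₂ →
      ∃ a ∈ O (res Q e e'), ∃ b ∈ O (res Q e e'), g₁ = (a * x * a⁻¹) * (b * y * b⁻¹)) :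
    ∃ s₁ ∈ O (MQ n (res Q e e')), ∃ s₂ ∈ O (MQ n (res Q e e')),
      autE hf.toModel g = (s₁ * lev X₀ x * s₁⁻¹) * (s₂ * lev Y₀ y * s₂⁻¹) := by
  have he : ∀ v, MQ n (res Q e e') (hf.toModel v) = Q v := hf.MQ_toModel
  obtain ⟨u₁, hu₁, g₁, hg₁', u₂, hu₂, edec⟩ := decomp ((autE_mem_O he).2 hg) A (fun a => by
    rw [corner_model, hA])
  obtain ⟨a, ha, b, hb, hab⟩ := hg₁ u₁ hu₁ u₂ hu₂ g₁ hg₁' edec
  obtain ⟨v₁, hv₁, v₂, hv₂, e2⟩ := stepPr hu₁ hu₂ hPR hab ((O _).mul_mem ((O _).mul_mem ha hx) ((O _).inv_mem ha))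
    ((O _).mul_mem ((O _).mul_mem hb hy) ((O _).inv_mem hb)) (hc1.conj P a) (hc2.conj R b)
  have e3 : ∀ (Z W : GL (Fin n) F) (c z : perp Q e e' ≃ₗ[F] perp Q e e'),
      lev (Z * W * Z⁻¹) (c * z * c⁻¹) = lev Z c * lev W z * (lev Z c)⁻¹ := by
    intro Z W c z
    rw [← lev_inv, ← lev_mul, ← lev_mul]
  rw [e3, e3] at e2
  refine ⟨v₁ * lev P a, (O _).mul_mem (Om_le hv₁) (lev_mem ha), v₂ * lev R b,
    (O _).mul_mem (Om_le hv₂) (lev_mem hb), ?_⟩
  rw [edec, e2]
  group

/-- from the model space back to `V` -/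
theorem back {e e' : Fin n → V} (hf : Frame Q e e') {T g g' : V ≃ₗ[F] V} (hT : T ∈ O Q)
    (hg' : g' = T⁻¹ * g * T) {x₀ y₀ : M F (perp Q e e') n ≃ₗ[F] M F (perp Q e e') n}
    (hcx : ∀ S ∈ O (MQ n (res Q e e')), ∃ u ∈ Om (MQ n (res Q e e')), S * x₀ * S⁻¹ = u * x₀ * u⁻¹)
    (hcy : ∀ S ∈ O (MQ n (res Q e e')), ∃ u ∈ Om (MQ n (res Q e e')), S * y₀ * S⁻¹ = u * y₀ * u⁻¹)
    (h : ∃ s₁ ∈ O (MQ n (res Q e e')), ∃ s₂ ∈ O (MQ n (res Q e e')),
      autE hf.toModel g' = (s₁ * x₀ * s₁⁻¹) * (s₂ * y₀ * s₂⁻¹)) :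
    ∃ u ∈ Om Q, ∃ v ∈ Om Q,
      g = (u * (autE hf.toModel).symm x₀ * u⁻¹) * (v * (autE hf.toModel).symm y₀ * v⁻¹) := by
  have he : ∀ v, MQ n (res Q e e') (hf.toModel v) = Q v := hf.MQ_toModel
  obtain ⟨s₁, hs₁, s₂, hs₂, hs⟩ := h
  obtain ⟨t, ht⟩ : ∃ t, t = autE hf.toModel T := ⟨_, rfl⟩
  have htO : t ∈ O (MQ n (res Q e e')) := by rw [ht]; exact (autE_mem_O he).2 hT
  obtain ⟨u, hu, eu⟩ := hcx (t * s₁) ((O _).mul_mem htO hs₁)
  obtain ⟨v, hv, ev⟩ := hcy (t * s₂) ((O _).mul_mem htO hs₂)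
  obtain ⟨u', rfl⟩ := (autE hf.toModel).surjective u
  obtain ⟨v', rfl⟩ := (autE hf.toModel).surjective v
  refine ⟨u', (autE_mem_Om he).1 hu, v', (autE_mem_Om he).1 hv, ?_⟩
  apply (autE hf.toModel).injective
  have e1 : g = T * g' * T⁻¹ := by rw [hg']; group
  simp only [e1, map_mul, map_mul, map_inv, hs, map_mul, map_mul, map_mul, map_mul, map_mul, map_inv, map_inv,
    MulEquiv.apply_symm_apply, MulEquiv.apply_symm_apply, ← eu, ← ev, ht]
  group

/-- **Two fixed classes, maximal frame.** -/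
theorem twoOf_levi (h2 : (2 : F) ≠ 0) (hQ : Nondeg Q) (hodd : Odd (finrank F V)) (hn : 3 ≤ n)
    (hW : ∀ W, MaxTS Q W → finrank F W = n) {e e' : Fin n → V} (hf : Frame Q e e') {X₀ Y₀ : GL (Fin n) F}
    (hL : ∀ A : GL (Fin n) F, (A : Matrix (Fin n) (Fin n) F).det = 1 →
      (∀ c : F, (A : Matrix (Fin n) (Fin n) F) ≠ c • 1) →
      ∃ P R : GL (Fin n) F, A = (P * X₀ * P⁻¹) * (R * Y₀ * R⁻¹))
    {x : perp Q e e' ≃ₗ[F] perp Q e e'} (hx : x ∈ O (res Q e e')) (hc1 : Cop X₀ x) (hc2 : Cop Y₀ x⁻¹)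
    {T T' : GL (Fin n) F} (hTX : T * X₀ = X₀ * T) (hT : ¬ IsSquare (T : Matrix (Fin n) (Fin n) F).det)
    (hTY : T' * Y₀ = Y₀ * T') (hT' : ¬ IsSquare (T' : Matrix (Fin n) (Fin n) F).det) :
    TwoOf Q ((autE hf.toModel).symm (lev X₀ x)) ((autE hf.toModel).symm (lev Y₀ x⁻¹)) := by
  intro g hg hns
  obtain ⟨w, w', hfw, hS, hAdet, hA⟩ := nsCornerS hQ hg hns hn hW (one_ne_zero (α := F))
  obtain ⟨S, hSO, hSl, hSr⟩ := frame_trans hQ hf hfw
  obtain ⟨g', hg'⟩ : ∃ g', g' = S⁻¹ * g * S := ⟨_, rfl⟩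
  have hgO : g ∈ O Q := Om_le hg
  have hg'O : g' ∈ O Q := by
    rw [hg']
    exact (O Q).mul_mem ((O Q).mul_mem ((O Q).inv_mem hSO) hgO) hSO
  obtain ⟨hcor, hsch⟩ := transport hSO hSl hSr hg'
  have hS' := hsch.2 hS
  have hfr := hf.finrank_perp
  have hodd' : Odd (finrank F (perp Q e e')) := by
    rw [← hfr] at hodd
    rwa [Nat.odd_add, iff_true_right (even_two_mul n)] at hodd
  have hnd := hf.nondeg_res hQ
  have hd1 : (corner Q g w w').det ≠ 0 := by rw [hAdet, mul_one]; exact one_ne_zero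
  obtain ⟨A, hAe⟩ : ∃ A : GL (Fin n) F, (A : Matrix _ _ F) = corner Q g w w' :=
    ⟨Matrix.GeneralLinearGroup.mkOfDetNeZero _ hd1, rfl⟩
  obtain ⟨P, R, hPR⟩ := hL A (by rw [hAe, hAdet, mul_one]) (by rw [hAe]; exact hA)
  have hxi := (O (res Q e e')).inv_mem hx
  refine back hf hSO hg' (fun S hS => class_model h2 hnd hodd' (by omega) hTX hT hx hS)
    (fun S hS => class_model h2 hnd hodd' (by omega) hTY hT' hxi hS)
    (core hf hg'O hx hxi hc1 hc2 A P R (by rw [hAe, hcor]) hPR (fun u₁ hu₁ u₂ hu₂ g₁ hg₁ hdec => ?_))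
  have h1 : g₁ = 1 := by
    apply LinearEquiv.ext
    intro v
    obtain ⟨c, d, hcd⟩ := schur_model hf hS' v
    exact schur_one_of hu₁ hu₂ hdec hcd
  refine ⟨1, (O _).one_mem, 1, (O _).one_mem, ?_⟩
  rw [h1]
  group

/-- **Two fixed classes, frame of length `3`.** -/
theorem twoOf_three (h2 : (2 : F) ≠ 0) (hQ : Nondeg Q) (hodd : Odd (finrank F V)) {k : ℕ} (hk : 1 ≤ k)
    (hkF : k = 1 → 3 < Nat.card F) (hW : ∀ W, MaxTS Q W → finrank F W = 3 + k)
    (hdim : 9 ≤ finrank F V) {e e' : Fin 3 → V} (hf : Frame Q e e') {X₀ Y₀ : GL (Fin 3) F}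
    (hL : ∀ A : GL (Fin 3) F, (A : Matrix (Fin 3) (Fin 3) F).det = 1 →
      (∀ c : F, (A : Matrix (Fin 3) (Fin 3) F) ≠ c • 1) →
      ∃ P R : GL (Fin 3) F, A = (P * X₀ * P⁻¹) * (R * Y₀ * R⁻¹))
    {x y : perp Q e e' ≃ₗ[F] perp Q e e'} (hx : x ∈ O (res Q e e')) (hy : y ∈ O (res Q e e'))
    (hM : ∀ z ∈ Om (res Q e e'), z ≠ 1 → ∃ a ∈ O (res Q e e'), ∃ b ∈ O (res Q e e'),
      z = (a * x * a⁻¹) * (b * y * b⁻¹))
    (hc1 : Cop X₀ x) (hc2 : Cop Y₀ y)
    {T T' : GL (Fin 3) F} (hTX : T * X₀ = X₀ * T) (hT : ¬ IsSquare (T : Matrix (Fin 3) (Fin 3) F).det)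
    (hTY : T' * Y₀ = Y₀ * T') (hT' : ¬ IsSquare (T' : Matrix (Fin 3) (Fin 3) F).det) :
    TwoOf Q ((autE hf.toModel).symm (lev X₀ x)) ((autE hf.toModel).symm (lev Y₀ y)) := by
  intro g hg hns
  have he : ∀ v, MQ 3 (res Q e e') (hf.toModel v) = Q v := hf.MQ_toModel
  have hF3 : ∃ c : F, c ≠ 0 ∧ c ≠ 1 := ⟨-1, neg_ne_zero.2 one_ne_zero, fun h => h2 (by linear_combination -h)⟩
  obtain ⟨w, w', hfw, hS, hAdet, hA⟩ := exists_frame3 hQ hg hns hk hkF hW (glc hk hF3)
  obtain ⟨S, hSO, hSl, hSr⟩ := frame_trans hQ hf hfw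
  obtain ⟨g', hg'⟩ : ∃ g', g' = S⁻¹ * g * S := ⟨_, rfl⟩
  have hgO : g ∈ O Q := Om_le hg
  have hg'O : g' ∈ O Q := by
    rw [hg']
    exact (O Q).mul_mem ((O Q).mul_mem ((O Q).inv_mem hSO) hgO) hSO
  have hg'Om : g' ∈ Om Q := by
    have h1 := conj_mem_Om (a := S⁻¹) ((O Q).inv_mem hSO) hg
    rw [inv_inv] at h1
    rwa [hg']
  obtain ⟨hcor, hsch⟩ := transport hSO hSl hSr hg'
  have hS' : ¬ SchurOne Q g' e e' := fun h => hS (hsch.1 h)
  have hfr := hf.finrank_perp
  have hodd' : Odd (finrank F (perp Q e e')) := by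
    rw [← hfr] at hodd
    rwa [Nat.odd_add, iff_true_right (even_two_mul 3)] at hodd
  have hnd := hf.nondeg_res hQ
  have hd1 : (corner Q g w w').det ≠ 0 := by rw [hAdet]; exact one_ne_zero
  obtain ⟨A, hAe⟩ : ∃ A : GL (Fin 3) F, (A : Matrix _ _ F) = corner Q g w w' :=
    ⟨Matrix.GeneralLinearGroup.mkOfDetNeZero _ hd1, rfl⟩
  obtain ⟨P, R, hPR⟩ := hL A (by rw [hAe, hAdet]) (by rw [hAe]; exact hA)
  have hG : Good (MQ 3 (res Q e e')) := good_of_finite (nondeg_MQ hnd) (by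
    rw [finrank_M]; omega)
  refine back hf hSO hg' (fun S hS => class_model h2 hnd hodd' (by omega) hTX hT hx hS)
    (fun S hS => class_model h2 hnd hodd' (by omega) hTY hT' hy hS)
    (core hf hg'O hx hy hc1 hc2 A P R (by rw [hAe, hcor]) hPR (fun u₁ hu₁ u₂ hu₂ g₁ hg₁ hdec => ?_))
  apply hM
  · refine Om_of_lev' h2 hnd (by omega) (n := 3) hg₁ ?_
    have k0 : u₁ * lev A g₁ * u₂ ∈ Om (MQ 3 (res Q e e')) := by
      rw [← hdec]
      exact (autE_mem_Om he).2 hg'Om
    have k1 : u₁ ∈ Om (MQ 3 (res Q e e')) := by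
      obtain ⟨v, hv, -, e1⟩ := hc1.exists_um hx hu₁
      have e2 : u₁ = v * lev X₀ x * v⁻¹ * (lev X₀ x)⁻¹ := by rw [← e1]; group
      rw [e2]
      exact comm_mem_Om hv.1 (lev_mem hx)
    have k2 : u₂ ∈ Om (MQ 3 (res Q e e')) := by
      obtain ⟨v, hv, -, e1⟩ := hc1.exists_up hx hu₂
      have e2 : u₂ = v * lev X₀ x * v⁻¹ * (lev X₀ x)⁻¹ := by rw [← e1]; group
      rw [e2]
      exact comm_mem_Om hv.1 (lev_mem hx)
    have k3 : lev A (1 : perp Q e e' ≃ₗ[F] perp Q e e') ∈ Om (MQ 3 (res Q e e')) :=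
      lev_det_one_mem hG (by rw [hAe, hAdet])
    have e5 : lev (1 : GL (Fin 3) F) g₁ = (lev A 1)⁻¹ * (u₁⁻¹ * (u₁ * lev A g₁ * u₂) * u₂⁻¹) := by
      have e6 : lev A g₁ = lev A 1 * lev (1 : GL (Fin 3) F) g₁ := by rw [← lev_mul, mul_one, one_mul]
      rw [e6]
      group
    rw [e5]
    exact (Om _).mul_mem ((Om _).inv_mem k3) ((Om _).mul_mem ((Om _).mul_mem ((Om _).inv_mem k1) k0)
      ((Om _).inv_mem k2))
  · intro h1
    apply hS'
    rw [schurOne_iff hf hu₁ hu₂ (g := g') (A := A) (g₁ := g₁) hdec]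
    exact h1

end Fin

end Cfsg.Agent.H140.TL
end

private theorem dce_eb0625e4d0ae : _root_.True := by
  try have : _root_.True := by simp only [_root_.Cfsg.Agent.H140.TL.cmb.eq_1]
  try have : _root_.True := by simp only [_root_.Cfsg.Agent.H308.TC.nest.eq_1]
  try have : _root_.True := by simp only [_root_.Cfsg.Agent.H308.TC.e3.eq_1]
  try have : _root_.True := by simp only [_root_.Cfsg.Agent.H308.TC.NS.congr_simp]
  try have : _root_.True := by simp only [_root_.Cfsg.Agent.H140.TL.cor.eq_1]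
  try have : _root_.True := by simp only [_root_.Cfsg.Agent.H308.TC.Cj.congr_simp]
  exact _root_.True.intro
end

-- part: H812/TC/OddGen_mg
section
prune_inst 0x420006004610000000000001042000042980000000000080000e0030602088042000208401a10040810a0000040040008100000200000000000000400000101000080000010000000000006000000000000000000000000000000000000000000000000000
set_option linter.all false
open scoped Cfsg.Agent.FastGrp

-- part: H812/TC/OddGen
section
/-!
# S2464, row `PSp_4(q)`, `q ≥ 9` odd (helper812)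
-/

set_option autoImplicit false

namespace Cfsg.Agent.H812.TC.OddRow

open Matrix Polynomial Deg

variable {F : Type} [Field F] [Fintype F]

theorem row3_odd_gen (hodd : Fintype.card F % 2 = 1) (hF : 8 ≤ Fintype.card F) : H210.TC.Row3 (Cfsg.PSp 2 F) := by
  have h2 : (2 : F) ≠ 0 := by
    intro h
    have h7 : ringChar F = 2 := by
      have h8 : ringChar F ∣ 2 := ringChar.dvd (by exact_mod_cast h)
      exact ((Nat.dvd_prime Nat.prime_two).1 h8).resolve_left (CharP.ringChar_ne_one)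
    have h9 := FiniteField.even_card_iff_char_two.1 h7
    omega
  obtain ⟨r, hr, h5, h4, x, hx⟩ := SpF.exists_elt (F := F) (by omega)
  obtain ⟨t, e, hte⟩ := H374.SpChar.charpoly_four x.2
  have hxp : x.1.charpoly = pol t e := hte
  have ht := ne_zero_of hr h5 h2 h4 hx hxp
  exact row3_odd hodd (by omega) hr h5 h4 hx hxp fun G hG e1 e2 a1 a2 a3 a4 => Gen.good_frame hF ht hG a1 a2 a3 a4

end Cfsg.Agent.H812.TC.OddRow
end

-- part: H144/TC/TypeG
section
/-!
# S2452, row `PSp_2n(q)`, `q` odd, `4 ∣ n`: isometries of type `ξ ⊕ 1`, `ξ` of degree `n - 1`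

* `exists_ext` : coordinates of `P` from coordinates of a hyperplane.
* `tt_core` : a corner `diag (1, -1_b)` with a good vector gives `g = X Z`, `X`, `Z` of type `ξ ⊕ 1`.
-/

set_option autoImplicit false
open Polynomial

noncomputable section

namespace Cfsg.Agent.H144.TC

open Cfsg.Agent.H144 Cfsg.Agent.H144.War Cfsg.Agent.H843.TC6

section

variable {F V M : Type*} [Field F] [AddCommGroup V] [Module F V] [AddCommGroup M] [Module F M]

/-- coordinates from a hyperplane -/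
theorem exists_ext [FiniteDimensional F V] (ℓ : V →ₗ[F] F) (p : V) (hp : ℓ p = 1) (e : LinearMap.ker ℓ ≃ₗ[F] M) :
    ∃ φ : V ≃ₗ[F] (M × F), (∀ x : M × F, φ.symm x = (e.symm x.1 : V) + x.2 • p) ∧ ∀ v, ℓ v = (φ v).2 := by
  let T : (M × F) →ₗ[F] V := ((LinearMap.ker ℓ).subtype ∘ₗ (e.symm : M →ₗ[F] LinearMap.ker ℓ)).coprod
    (LinearMap.toSpanSingleton F V p)
  have hT : ∀ x : M × F, T x = (e.symm x.1 : V) + x.2 • p := fun x => rfl
  have hℓT : ∀ x : M × F, ℓ (T x) = x.2 := by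
    intro x
    rw [hT, map_add, map_smul, hp, smul_eq_mul, mul_one]
    have := (e.symm x.1).2
    rw [LinearMap.mem_ker] at this
    rw [this, zero_add]
  have hinj : Function.Injective T := by
    rw [← LinearMap.ker_eq_bot, LinearMap.ker_eq_bot']
    intro x hx
    have h1 : x.2 = 0 := by rw [← hℓT, hx, map_zero]
    have h2 := hT x
    rw [hx, h1, zero_smul, add_zero] at h2
    have h3 : e.symm x.1 = 0 := Subtype.ext h2.symm
    rw [LinearEquiv.map_eq_zero_iff] at h3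
    exact Prod.ext h3 h1
  have hsurj : Function.Surjective T := by
    intro v
    have h1 : v - ℓ v • p ∈ LinearMap.ker ℓ := by
      rw [LinearMap.mem_ker, map_sub, map_smul, hp, smul_eq_mul, mul_one, sub_self]
    refine ⟨(e ⟨_, h1⟩, ℓ v), ?_⟩
    rw [hT, e.symm_apply_apply]
    change v - ℓ v • p + ℓ v • p = v
    rw [sub_add_cancel]
  let φ' : (M × F) ≃ₗ[F] V := LinearEquiv.ofBijective T ⟨hinj, hsurj⟩
  have hφ' : ∀ x, φ' x = T x := fun x => rfl
  refine ⟨φ'.symm, fun x => ?_, fun v => ?_⟩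
  · rw [LinearEquiv.symm_symm, hφ', hT]
  · obtain ⟨x, rfl⟩ := φ'.surjective v
    rw [LinearEquiv.symm_apply_apply, hφ', hℓT]

end

variable {F V K : Type} [Field F] [AddCommGroup V] [Module F V] [FiniteDimensional F V] [Field K] [Algebra F K]
  [FiniteDimensional F K]

/-- `A = x z`, `x ≅ ξ ⊕ 1`, `z ≅ ξ⁻¹ ⊕ 1`, from a factorization on a hyperplane -/
theorem fac_ext {s : ℕ} {ξ : K} (hξ : Gx F s ξ) {ℓ : V →ₗ[F] F} {p : V} (hp : ℓ p = 1)
    {A : V ≃ₗ[F] V} (hA : ∀ v, ℓ (A v) = ℓ v) (hAp : A p = p) {A₀ : LinearMap.ker ℓ ≃ₗ[F] LinearMap.ker ℓ}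
    (hA₀ : ∀ v : LinearMap.ker ℓ, A v = (A₀ v : V)) (hs : Module.finrank F (LinearMap.ker ℓ) = s)
    (hF : FF (minpoly F ξ) A₀) :
    ∃ φ ψ : V ≃ₗ[F] (K × F), φ.symm (0, 1) = p ∧ (∀ v, ℓ v = (ψ v).2) ∧
      ∀ v, A v = tr φ (s1 (mu F ξ hξ.1)) (tr ψ (s1 (mu F ξ hξ.1)⁻¹) v) := by
  obtain ⟨h0, hK, hdeg, -, -⟩ := id hξ
  obtain ⟨x, z, hx, hz, hxz⟩ := hF
  have hd : (minpoly F ξ).natDegree = Module.finrank F K := by rw [hdeg, hK]
  obtain ⟨a, ha⟩ := exists_equiv (ξ := ξ) hd (P := LinearMap.ker ℓ) (P' := K) (by rw [hs, hK]) hx (aeval_mu ξ h0)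
  obtain ⟨b, hb⟩ := exists_equiv (ξ := ξ) hd (P := LinearMap.ker ℓ) (P' := K) (by rw [hs, hK]) hz (aeval_mu ξ h0)
  obtain ⟨φ, hφ1, hφ2⟩ := exists_ext ℓ p hp a
  obtain ⟨ψ, hψ1, hψ2⟩ := exists_ext ℓ p hp b
  refine ⟨φ, ψ, ?_, hψ2, fun v => ?_⟩
  · rw [hφ1]
    simp
  · obtain ⟨y, rfl⟩ := ψ.symm.surjective v
    have hb' : ∀ w : LinearMap.ker ℓ, b (z w) = (mu F ξ h0)⁻¹ (b w) := by
      intro w
      have h1 := hb (z w)
      have h2 : ((z⁻¹ : LinearMap.ker ℓ ≃ₗ[F] LinearMap.ker ℓ) : Module.End F (LinearMap.ker ℓ)) (z w) = w := inv_app z w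
      rw [h2] at h1
      rw [h1]
      exact (inv_app (mu F ξ h0) _).symm
    have e1 : ψ.symm (s1 (mu F ξ h0)⁻¹ y) = ((z (b.symm y.1) : LinearMap.ker ℓ) : V) + y.2 • p := by
      rw [hψ1, s1_apply]
      have h1 := hb' (b.symm y.1)
      rw [b.apply_symm_apply] at h1
      simp only
      rw [← h1, b.symm_apply_apply]
    have e2 : φ ((z (b.symm y.1) : V) + y.2 • p) = (a (z (b.symm y.1)), y.2) := by
      rw [← LinearEquiv.eq_symm_apply, hφ1]
      simp only [LinearEquiv.symm_apply_apply]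
    rw [tr_apply, tr_apply, ψ.apply_symm_apply, e1, e2, s1_apply, hφ1, hψ1, map_add, map_smul, hAp, hA₀, hxz]
    simp only
    congr 2
    have h3 := ha (z (b.symm y.1))
    have h4 : (mu F ξ h0 : K ≃ₗ[F] K) (a (z (b.symm y.1))) = a (x (z (b.symm y.1))) := h3.symm
    rw [h4, a.symm_apply_apply]

/-- **the corner** `diag (1_{a+1}, -1_b)` with a good vector -/
theorem tt_core (h2 : (2 : F) ≠ 0) {s a b : ℕ} {ξ : K} (hξ : Gx F s ξ) (e1 : (minpoly F ξ).eval 1 ≠ 0)
    (e1' : (minpoly F ξ⁻¹).eval 1 ≠ 0) {B : LinearMap.BilinForm F V} (hB : Alt B) (hN : Nond B) {g : V ≃ₗ[F] V}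
    (hg : Iso B g) (ha : 1 ≤ a) (hb : Even b) (hab : a + b = s) {U W Q : Submodule F V}
    (h1 : Orth B (U ⊔ W) (U ⊔ W)) (h3 : Orth B Q Q) (h4 : U ⊔ W ⊔ Q = ⊤) (h5 : Module.finrank F U = a + 1)
    (h6 : Module.finrank F W = b) (h7 : ∀ v ∈ U, g v - v ∈ Q) (h8 : ∀ v ∈ W, g v + v ∈ Q)
    (hV : Module.finrank F V = 2 * (s + 1)) {p q : V} (hp : p ∈ U) (hq : q ∈ Q) (hpq : B p q ≠ 0)
    (hWq : ∀ w ∈ W, B w q = 0) (hgp : B (g p) p = 0) (hgq : B (g q) q = 0) :
    TT B (s1 (mu F ξ hξ.1)) (s1 (mu F ξ hξ.1)⁻¹) g := by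
  have h9 := finrank_two hB hN h1 h3 h4
  have hle : ∀ v : ↥(U ⊔ W), v ∈ U.comap (U ⊔ W).subtype ⊔ W.comap (U ⊔ W).subtype := by
    intro v
    obtain ⟨u, hu, w, hw, huw⟩ := Submodule.mem_sup.1 v.2
    have e1 : v = (⟨u, Submodule.mem_sup_left hu⟩ : ↥(U ⊔ W)) + ⟨w, Submodule.mem_sup_right hw⟩ := Subtype.ext huw.symm
    rw [e1]
    exact Submodule.add_mem_sup hu hw
  have hU : Module.finrank F (U.comap (U ⊔ W).subtype) = a + 1 := by
    rw [(Submodule.comapSubtypeEquivOfLe le_sup_left).finrank_eq, h5]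
  have hW : Module.finrank F (W.comap (U ⊔ W).subtype) = b := by
    rw [(Submodule.comapSubtypeEquivOfLe le_sup_right).finrank_eq, h6]
  have htop : U.comap (U ⊔ W).subtype ⊔ W.comap (U ⊔ W).subtype = ⊤ := eq_top_iff.2 (fun v _ => hle v)
  have hP : Module.finrank F ↥(U ⊔ W) = a + 1 + b := by omega
  have hc : IsCompl (U.comap (U ⊔ W).subtype) (W.comap (U ⊔ W).subtype) := isCompl_of_finrank hP hU hW htop
  let A : ↥(U ⊔ W) ≃ₗ[F] ↥(U ⊔ W) := War.ds hc 1 (LinearEquiv.neg F)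
  have hA1 : ∀ v ∈ U.comap (U ⊔ W).subtype, A v = v := by
    intro v hv
    have := ds_apply hc 1 (LinearEquiv.neg F) ⟨v, hv⟩ 0
    simpa only [_root_.ZeroMemClass.coe_zero, _root_.add_zero, _root_.LinearEquiv.coe_one, _root_.id_eq, _root_.LinearEquiv.coe_neg, _root_.Pi.neg_apply, _root_.neg_zero] using this
  have hA2 : ∀ v ∈ W.comap (U ⊔ W).subtype, A v = -v := by
    intro v hv
    have := ds_apply hc 1 (LinearEquiv.neg F) 0 ⟨v, hv⟩
    simpa only [_root_.ZeroMemClass.coe_zero, _root_.zero_add, _root_.LinearEquiv.coe_one, _root_.id_eq, _root_.LinearEquiv.coe_neg, _root_.Pi.neg_apply, _root_.NegMemClass.coe_neg] using this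
  -- normalize `p`
  obtain ⟨p', hp', hp'e⟩ : ∃ p' : V, p' ∈ U ∧ p' = (B p q)⁻¹ • p := ⟨_, U.smul_mem _ hp, rfl⟩
  have hp'q : B p' q = 1 := by
    rw [hp'e, LinearMap.map_smul₂, smul_eq_mul, inv_mul_cancel₀ hpq]
  have hgp' : B (g p') p' = 0 := by
    simp only [hp'e, map_smul, LinearMap.smul_apply, hgp, smul_zero]
  let ℓ : ↥(U ⊔ W) →ₗ[F] F := (B.flip q) ∘ₗ (U ⊔ W).subtype
  have hℓ : ∀ v : ↥(U ⊔ W), ℓ v = B v q := fun v => rfl
  let P0 : ↥(U ⊔ W) := ⟨p', Submodule.mem_sup_left hp'⟩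
  have hP0 : ℓ P0 = 1 := hp'q
  have hP0U : P0 ∈ U.comap (U ⊔ W).subtype := hp'
  have hAP0 : A P0 = P0 := hA1 _ hP0U
  have hAℓ : ∀ v, ℓ (A v) = ℓ v := by
    intro v
    obtain ⟨u, hu, w, hw, rfl⟩ := Submodule.mem_sup.1 (hle v)
    have k1 : ℓ w = 0 := hWq _ hw
    rw [map_add, hA1 u hu, hA2 w hw, map_add, map_add, map_neg, k1, neg_zero]
  have hI : Inv A (LinearMap.ker ℓ) := by
    intro v hv
    rw [LinearMap.mem_ker] at hv ⊢
    rw [hAℓ, hv]
  have hker : Module.finrank F (LinearMap.ker ℓ) = s := by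
    have k1 := LinearMap.finrank_range_add_finrank_ker ℓ
    have k2 : LinearMap.range ℓ = ⊤ := by
      rw [LinearMap.range_eq_top]
      intro c
      exact ⟨c • P0, by rw [map_smul, hP0, smul_eq_mul, mul_one]⟩
    rw [k2, finrank_top, Module.finrank_self] at k1
    (clear * - hV h9 k1; omega)
  have hWk : W.comap (U ⊔ W).subtype ≤ LinearMap.ker ℓ := by
    intro w hw
    rw [LinearMap.mem_ker]
    exact hWq _ hw
  have hW0 : Module.finrank F ((W.comap (U ⊔ W).subtype).comap (LinearMap.ker ℓ).subtype) = b := by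
    rw [(Submodule.comapSubtypeEquivOfLe hWk).finrank_eq, hW]
  have hU0 : Module.finrank F ((U.comap (U ⊔ W).subtype).comap (LinearMap.ker ℓ).subtype) = a := by
    have k0 : Module.finrank F ((U.comap (U ⊔ W).subtype).comap (LinearMap.ker ℓ).subtype) =
        Module.finrank F (U.comap (U ⊔ W).subtype ⊓ LinearMap.ker ℓ : Submodule F ↥(U ⊔ W)) := by
      rw [← Submodule.finrank_map_subtype_eq (LinearMap.ker ℓ), Submodule.map_comap_subtype, inf_comm]
    rw [k0]
    have k1 := Submodule.finrank_sup_add_finrank_inf_eq (U.comap (U ⊔ W).subtype) (LinearMap.ker ℓ)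
    have k2 : U.comap (U ⊔ W).subtype ⊔ LinearMap.ker ℓ = ⊤ := by
      rw [eq_top_iff, ← htop]
      exact sup_le le_sup_left (hWk.trans le_sup_right)
    rw [k2, finrank_top, hU, hker, hP] at k1
    (clear * - hab k1; omega)
  have htop0 : (U.comap (U ⊔ W).subtype).comap (LinearMap.ker ℓ).subtype ⊔
      (W.comap (U ⊔ W).subtype).comap (LinearMap.ker ℓ).subtype = ⊤ := by
    rw [eq_top_iff]
    intro v _
    obtain ⟨u, hu, w, hw, huw⟩ := Submodule.mem_sup.1 (hle v)
    have hw' := hWk hw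
    have hu' : u ∈ LinearMap.ker ℓ := by
      have : u = (v : ↥(U ⊔ W)) - w := by rw [← huw, add_sub_cancel_right]
      rw [this]
      exact Submodule.sub_mem _ v.2 hw'
    have e1 : v = (⟨u, hu'⟩ : LinearMap.ker ℓ) + ⟨w, hw'⟩ := Subtype.ext huw.symm
    rw [e1]
    exact Submodule.add_mem_sup hu hw
  have hFF : FF (minpoly F ξ) (gr A (LinearMap.ker ℓ) hI) :=
    ff_mix h2 hξ ha hb hab hker hU0 hW0 htop0 (fun v hv => Subtype.ext (hA1 _ hv)) (fun v hv => Subtype.ext (hA2 _ hv))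
  obtain ⟨φ, ψ, hφ, hψ, hφψ⟩ := fac_ext hξ hP0 hAℓ hAP0 (A₀ := gr A (LinearMap.ker ℓ) hI) (fun v => rfl) hker hFF
  obtain ⟨hξ0, hfr, hdeg, c1, c2⟩ := id hξ
  have hSing := sing_of_aeval hξ0 (hdeg.trans hfr.symm) c1 c2 (aeval_mu ξ hξ0)
  refine tt_of_corner2 hB hN h1 h3 h4 hSing (sing_inv hSing) e1 e1' e1' e1 φ ψ hq (fun v => hψ v) (A := A) hφψ hg
    (fun v => ?_) (fun v hv => ?_) (fun q' hq' h => ?_)
  · obtain ⟨u, hu, w, hw, rfl⟩ := Submodule.mem_sup.1 (hle v)
    rw [map_add, hA1 u hu, hA2 w hw]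
    have e1 : g ((u + w : ↥(U ⊔ W)) : V) - ((u + -w : ↥(U ⊔ W)) : V) = (g u - u) + (g w + w) := by
      push_cast
      rw [map_add]
      abel
    rw [e1]
    exact Q.add_mem (h7 u hu) (h8 w hw)
  · rw [hφ] at hv ⊢
    have hv' : v = P0 := A.injective (by rw [hv, hAP0])
    rw [hv']
    exact hgp'
  · have : q' = q := by
      rw [← sub_eq_zero]
      apply eq_zero_of_orth hN h4
      · intro w hw
        apply hB.zero
        rw [map_sub, sub_eq_zero]
        obtain ⟨v, hv⟩ := A.surjective ⟨w, hw⟩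
        have k1 := h v
        rw [hv] at k1
        have k2 := hAℓ v
        rw [hv, hℓ, hℓ] at k2
        exact k1.trans k2.symm
      · intro w hw
        exact h3 _ (Q.sub_mem hq' hq) _ hw
    rw [this]
    exact hgq

end Cfsg.Agent.H144.TC
end
end

-- part: H930/SpE/Good
section
/-!
# S2464, `PSp_8(q)`: good pairs

`good_pair` : if `g` has the corner `1` (dimension `2 d`, `d ≥ 4`, odd characteristic), then some pair `P`, `Q` has
`p ∈ P`, `q ∈ Q` with `B p q ≠ 0`, `B (g p) p = 0`, `B (g q) q = 0`.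
-/

set_option autoImplicit false

namespace Cfsg.Agent.H930.SpE

open Cfsg.Agent.H144 Cfsg.Agent.H144.War Cfsg.Agent.H144.TC

variable {F V : Type*} [Field F] [AddCommGroup V] [Module F V]

theorem sym_of_skew {B : LinearMap.BilinForm F V} (hB : Alt B) {Q : Submodule F V} {n : Module.End F V}
    (hn : n ∈ Skew B Q) (x y : V) : B (n x) y = B (n y) x := by
  have h1 := hn.2.2 x y
  have h2 := hB.neg x (n y)
  linear_combination h1 - h2

/-- if the form `B (n v) v` does not determine the functional `B · q₀`, its isotropic vectors are in its radical -/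
theorem rad_of {B : LinearMap.BilinForm F V} (h2 : (2 : F) ≠ 0) (hB : Alt B) {P Q : Submodule F V} {n : Module.End F V}
    (hn : n ∈ Skew B Q) {q₀ p₁ : V} (hp₁ : p₁ ∈ P) (h1 : B p₁ q₀ ≠ 0)
    (h : ∀ p ∈ P, B (n p) p = 0 → B p q₀ = 0) {p : V} (hp : p ∈ P) (hpp : B (n p) p = 0) {w : V} (hw : w ∈ P) :
    B (n p) w = 0 := by
  by_contra hw0
  have key : ∀ v ∈ P, B (n p) v ≠ 0 → B v q₀ = 0 := by
    intro v hv hv0
    have e1 : B (n (v + (-(B (n v) v) / (2 * B (n p) v)) • p)) (v + (-(B (n v) v) / (2 * B (n p) v)) • p) = 0 := by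
      have hs := sym_of_skew hB hn v p
      have hd : 2 * B (n p) v ≠ 0 := mul_ne_zero h2 hv0
      simp only [map_add, map_smul, LinearMap.add_apply, LinearMap.smul_apply, smul_eq_mul, hpp, hs]
      field_simp
      ring
    have e2 := h _ (P.add_mem hv (P.smul_mem _ hp)) e1
    have e3 := h p hp hpp
    rw [map_add, map_smul, LinearMap.add_apply, LinearMap.smul_apply, e3, smul_zero, add_zero] at e2
    exact e2
  apply h1
  by_cases h0 : B (n p) p₁ = 0
  · have e1 := key (p₁ + w) (P.add_mem hp₁ hw) (by rw [map_add, h0, zero_add]; exact hw0)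
    have e2 := key w hw hw0
    rw [map_add, LinearMap.add_apply, e2, add_zero] at e1
    exact e1
  · exact key p₁ hp₁ h0

section FD

variable [FiniteDimensional F V]

/-- `dim K + dim L ≤ dim P` for `K ≤ P`, `L ≤ Q`, `K ⊥ L` -/
theorem finrank_add_le {B : LinearMap.BilinForm F V} (hB : Alt B) (hN : Nond B) {P Q K L : Submodule F V}
    (hQ : Orth B Q Q) (hPQ : P ⊔ Q = ⊤) (hK : K ≤ P) (hL : L ≤ Q) (hKL : Orth B K L) :
    Module.finrank F K + Module.finrank F L ≤ Module.finrank F P := by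
  let e : L →ₗ[F] Module.Dual F P := (B.compl₁₂ P.subtype L.subtype).flip
  have he : Function.Injective e := by
    rw [← LinearMap.ker_eq_bot, LinearMap.ker_eq_bot']
    intro q hq
    have : (q : V) = 0 := by
      apply eq_zero_of_orth hN hPQ _ (hQ q (hL q.2))
      intro w hw
      have := LinearMap.congr_fun hq ⟨w, hw⟩
      exact hB.zero this
    exact Subtype.ext this
  have hr : LinearMap.range e ≤ (K.comap P.subtype).dualAnnihilator := by
    rintro _ ⟨l, rfl⟩
    rw [Submodule.mem_dualAnnihilator]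
    intro w hw
    exact hKL _ hw l l.2
  have h1 := LinearMap.finrank_range_of_inj he
  have h2 := Submodule.finrank_mono hr
  have h3 := Subspace.finrank_add_finrank_dualAnnihilator_eq (K.comap P.subtype)
  rw [(Submodule.comapSubtypeEquivOfLe hK).finrank_eq] at h3
  omega

/-- the radical has codimension at most `2` -/
theorem codim_le [Finite F] {B : LinearMap.BilinForm F V} {P : Submodule F V} {n : Module.End F V}
    (h : ∀ p ∈ P, B (n p) p = 0 → n p = 0) :
    Module.finrank F P ≤ Module.finrank F (P ⊓ LinearMap.ker n : Submodule F V) + 2 := by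
  obtain ⟨W, hW⟩ := Submodule.exists_isCompl ((LinearMap.ker n).comap P.subtype)
  have h1 := Submodule.finrank_add_eq_of_isCompl hW
  have h2 : Module.finrank F ((LinearMap.ker n).comap P.subtype) =
      Module.finrank F (P ⊓ LinearMap.ker n : Submodule F V) := by
    rw [(Submodule.equivMapOfInjective P.subtype P.injective_subtype _).finrank_eq, Submodule.map_comap_subtype]
  by_contra hlt
  have h3 : 3 ≤ Module.finrank F W := by omega
  obtain ⟨w, hw, hw0, hwQ⟩ := LieClassical.OrthFinite.exists_sing_mem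
    (Q := LinearMap.BilinMap.toQuadraticMap ((B.compl₁₂ n LinearMap.id).compl₁₂ P.subtype P.subtype)) W h3
  have h4 : n (w : V) = 0 := h w w.2 hwQ
  have h5 : w ∈ (LinearMap.ker n).comap P.subtype ⊓ W := ⟨h4, hw⟩
  rw [hW.inf_eq_bot] at h5
  exact hw0 h5

/-- no good pair for `(P, Q)` -/
theorem no_good [Finite F] {B : LinearMap.BilinForm F V} (h2 : (2 : F) ≠ 0) (hB : Alt B) (hN : Nond B) {g : V ≃ₗ[F] V}
    (hg : Iso B g) {P Q : Submodule F V} (hP : Orth B P P) (hQ : Orth B Q Q) (hPQ : P ⊔ Q = ⊤)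
    (hc : ∀ v ∈ P, g v - v ∈ Q) (hd : 4 ≤ Module.finrank F P)
    (hno : ∀ p ∈ P, ∀ q ∈ Q, B (g p) p = 0 → B (g q) q = 0 → B p q = 0) :
    Module.finrank F (P ⊓ LinearMap.ker ((g : V →ₗ[F] V) - (LinearMap.id : V →ₗ[F] V)) : Submodule F V) = 2 ∧
    ∃ f ∈ Q, g f - f ∈ P ∧ g (g f - f) = g f - f ∧ B (g f) f ≠ 0 := by
  obtain ⟨n, m, hn, hm, hnm⟩ := c1_factor hB hN hP hQ hPQ hg hc
  have hgv : ∀ v, g v = v + m v + n (v + m v) := by
    intro v
    rw [hnm, LinearEquiv.mul_apply, uni_apply, uni_apply]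
  have hgP : ∀ p ∈ P, g p = p + n p := by
    intro p hp
    rw [hgv, hm.2.1 p hp, add_zero]
  have hgQ : ∀ q ∈ Q, g q = q + m q + n (m q) := by
    intro q hq
    rw [hgv, map_add, hn.2.1 q hq, zero_add]
  have hTP : ∀ p ∈ P, B (g p) p = B (n p) p := by
    intro p hp
    rw [hgP p hp, map_add, LinearMap.add_apply, hB, zero_add]
  have hTQ : ∀ q ∈ Q, B (g q) q = B (m q) q := by
    intro q hq
    rw [hgQ q hq, map_add, map_add, LinearMap.add_apply, LinearMap.add_apply, hB, zero_add, hQ _ (hn.1 _) q hq, add_zero]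
  have hQP : Q ⊔ P = ⊤ := by rw [sup_comm]; exact hPQ
  have hdQ : Module.finrank F P = Module.finrank F Q := finrank_eq hB hN hP hQ hPQ
  -- nonzero isotropic vectors
  obtain ⟨p₀, hp₀, hp₀0, hp₀T⟩ := LieClassical.OrthFinite.exists_sing_mem
    (Q := LinearMap.BilinMap.toQuadraticMap (B.compl₁₂ n LinearMap.id)) P (by omega)
  obtain ⟨q₀, hq₀, hq₀0, hq₀T⟩ := LieClassical.OrthFinite.exists_sing_mem
    (Q := LinearMap.BilinMap.toQuadraticMap (B.compl₁₂ m LinearMap.id)) Q (by omega)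
  have hp₀T : B (n p₀) p₀ = 0 := hp₀T
  have hq₀T : B (m q₀) q₀ = 0 := hq₀T
  obtain ⟨p₁, hp₁, hp₁0⟩ : ∃ p₁ ∈ P, B p₁ q₀ ≠ 0 := by
    by_contra hcon
    push Not at hcon
    exact hq₀0 (eq_zero_of_orth hN hPQ (fun w hw => hB.zero (hcon w hw)) (hQ q₀ hq₀))
  obtain ⟨q₁, hq₁, hq₁0⟩ : ∃ q₁ ∈ Q, B q₁ p₀ ≠ 0 := by
    by_contra hcon
    push Not at hcon
    exact hp₀0 (eq_zero_of_orth hN hPQ (hP p₀ hp₀) (fun w hw => hB.zero (hcon w hw)))
  have radP : ∀ p ∈ P, B (n p) p = 0 → n p = 0 := by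
    intro p hp hpp
    apply eq_zero_of_orth hN hPQ _ (hQ _ (hn.1 p))
    intro w hw
    exact rad_of h2 hB hn hp₁ hp₁0 (fun p hp h => hno p hp q₀ hq₀ ((hTP p hp).trans h) ((hTQ q₀ hq₀).trans hq₀T))
      hp hpp hw
  have radQ : ∀ q ∈ Q, B (m q) q = 0 → m q = 0 := by
    intro q hq hqq
    apply eq_zero_of_orth hN hPQ (hP _ (hm.1 q))
    intro w hw
    exact rad_of h2 hB hm hq₁ hq₁0 (fun q hq h => hB.zero (hno p₀ hp₀ q hq ((hTP p₀ hp₀).trans hp₀T)
      ((hTQ q hq).trans h))) hq hqq hw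
  have cP := codim_le radP
  have cQ := codim_le radQ
  have hKL : Orth B (P ⊓ LinearMap.ker n) (Q ⊓ LinearMap.ker m) := by
    rintro p ⟨hp, hp0⟩ q ⟨hq, hq0⟩
    rw [SetLike.mem_coe, LinearMap.mem_ker] at hp0 hq0
    apply hno p hp q hq
    · rw [hTP p hp, hp0, map_zero, LinearMap.zero_apply]
    · rw [hTQ q hq, hq0, map_zero, LinearMap.zero_apply]
  have hle := finrank_add_le hB hN hQ hPQ inf_le_left inf_le_left hKL
  have hKeq : (P ⊓ LinearMap.ker ((g : V →ₗ[F] V) - (LinearMap.id : V →ₗ[F] V)) : Submodule F V) = P ⊓ LinearMap.ker n := by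
    ext v
    simp only [Submodule.mem_inf, LinearMap.mem_ker]
    refine and_congr_right fun hv => ?_
    have h6 : ((g : V →ₗ[F] V) - (LinearMap.id : V →ₗ[F] V)) v = n v := by
      change g v - v = n v
      rw [hgP v hv, add_sub_cancel_left]
    rw [h6]
  refine ⟨by rw [hKeq]; omega, ?_⟩
  -- `im m ≤ ker n`
  have him : ∀ v, n (m v) = 0 := by
    intro v
    obtain ⟨K', hK'1, hK'2, hK'3⟩ : ∃ K' : Submodule F V, K' ≤ P ∧ (Orth B K' (Q ⊓ LinearMap.ker m)) ∧
        ∀ x ∈ P, (∀ l ∈ Q ⊓ LinearMap.ker m, B x l = 0) → x ∈ K' :=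
      ⟨P ⊓
      { carrier := {x | ∀ l ∈ Q ⊓ LinearMap.ker m, B x l = 0}
        zero_mem' := fun l _ => by simp
        add_mem' := fun {a b} ha hb l hl => by rw [map_add, LinearMap.add_apply, ha l hl, hb l hl, add_zero]
        smul_mem' := fun c a ha l hl => by rw [map_smul, LinearMap.smul_apply, ha l hl, smul_zero] },
        inf_le_left, fun x hx y hy => hx.2 y hy, fun x hx h => ⟨hx, h⟩⟩
    have h3 := finrank_add_le hB hN hQ hPQ hK'1 inf_le_left hK'2
    have h4 : P ⊓ LinearMap.ker n ≤ K' := fun x hx => hK'3 x hx.1 fun l hl => hKL x hx l hl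
    have h5 : P ⊓ LinearMap.ker n = K' := Submodule.eq_of_le_of_finrank_le h4 (by omega)
    have h6 : m v ∈ K' := by
      refine hK'3 _ (hm.1 v) fun l hl => ?_
      rw [sym_of_skew hB hm, (hl.2 : m l = 0), map_zero, LinearMap.zero_apply]
    rw [← h5] at h6
    exact h6.2
  obtain ⟨f, hf, hf0⟩ : ∃ f ∈ Q, m f ≠ 0 := by
    by_contra hcon
    push Not at hcon
    have : Q ⊓ LinearMap.ker m = Q := inf_eq_left.2 fun q hq => hcon q hq
    rw [this] at hle
    omega
  have hgf : g f - f = m f := by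
    rw [hgQ f hf, him, add_zero, add_sub_cancel_left]
  refine ⟨f, hf, by rw [hgf]; exact hm.1 f, ?_, ?_⟩
  · rw [hgf, hgP _ (hm.1 f), him, add_zero]
  · rw [hTQ f hf]
    exact fun h => hf0 (radQ f hf h)

/-- **box GP** -/
theorem good_pair [Finite F] {B : LinearMap.BilinForm F V} (h2 : (2 : F) ≠ 0) (hB : Alt B) (hN : Nond B)
    {g : V ≃ₗ[F] V} (hg : Iso B g) {d : ℕ} (hd : 4 ≤ d) (hV : Module.finrank F V = 2 * d) (hc : C1On B g ⊤) :
    GP B g ⊤ := by
  obtain ⟨P, Q, hP, hQ, hPQ, hc⟩ := hc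
  by_contra hcon
  have hno : ∀ P Q : Submodule F V, Orth B P P → Orth B Q Q → P ⊔ Q = ⊤ → (∀ v ∈ P, g v - v ∈ Q) →
      ∀ p ∈ P, ∀ q ∈ Q, B (g p) p = 0 → B (g q) q = 0 → B p q = 0 := by
    intro P Q hP hQ hPQ hc p hp q hq h1 h2
    by_contra h0
    exact hcon ⟨P, Q, ⟨hP, hQ, hPQ, hc⟩, p, hp, q, hq, h0, h1, h2⟩
  have hdim : ∀ P Q : Submodule F V, Orth B P P → Orth B Q Q → P ⊔ Q = ⊤ → 4 ≤ Module.finrank F P := by
    intro P Q hP hQ hPQ
    have := finrank_two hB hN hP hQ hPQ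
    omega
  obtain ⟨hk, f, hf, hfP, hff, hf0⟩ := no_good h2 hB hN hg hP hQ hPQ hc (hdim P Q hP hQ hPQ) (hno P Q hP hQ hPQ hc)
  obtain ⟨p₀, hp₀⟩ : ∃ p₀, p₀ = g f - f := ⟨_, rfl⟩
  rw [← hp₀] at hfP hff
  have hgf : g f = f + p₀ := by rw [hp₀]; abel
  have hpf : B p₀ f ≠ 0 := by
    rw [hgf, map_add, LinearMap.add_apply, hB, zero_add] at hf0
    exact hf0
  have hfp : B f p₀ ≠ 0 := fun h => hpf (hB.zero h)
  have hp₀0 : p₀ ≠ 0 := by
    rintro h
    rw [h, map_zero, LinearMap.zero_apply] at hpf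
    exact hpf rfl
  -- the new pair
  have mP : ∀ {x}, x ∈ (P ⊓ LinearMap.ker (B f)) ⊔ Submodule.span F {f} ↔
      ∃ v ∈ P, B f v = 0 ∧ ∃ c : F, v + c • f = x := by
    intro x
    rw [Submodule.mem_sup]
    constructor
    · rintro ⟨v, hv, w, hw, rfl⟩
      obtain ⟨c, rfl⟩ := Submodule.mem_span_singleton.1 hw
      exact ⟨v, hv.1, hv.2, c, rfl⟩
    · rintro ⟨v, hv, hv0, c, rfl⟩
      exact ⟨v, ⟨hv, hv0⟩, _, Submodule.smul_mem _ c (Submodule.mem_span_singleton_self f), rfl⟩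
  have mQ : ∀ {x}, x ∈ (Q ⊓ LinearMap.ker (B p₀)) ⊔ Submodule.span F {p₀} ↔
      ∃ v ∈ Q, B p₀ v = 0 ∧ ∃ c : F, v + c • p₀ = x := by
    intro x
    rw [Submodule.mem_sup]
    constructor
    · rintro ⟨v, hv, w, hw, rfl⟩
      obtain ⟨c, rfl⟩ := Submodule.mem_span_singleton.1 hw
      exact ⟨v, hv.1, hv.2, c, rfl⟩
    · rintro ⟨v, hv, hv0, c, rfl⟩
      exact ⟨v, ⟨hv, hv0⟩, _, Submodule.smul_mem _ c (Submodule.mem_span_singleton_self p₀), rfl⟩
  have oP : Orth B ((P ⊓ LinearMap.ker (B f)) ⊔ Submodule.span F {f}) ((P ⊓ LinearMap.ker (B f)) ⊔ Submodule.span F {f}) := by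
    intro x hx y hy
    obtain ⟨v, hv, hv0, c, rfl⟩ := mP.1 hx
    obtain ⟨w, hw, hw0, e, rfl⟩ := mP.1 hy
    simp only [map_add, map_smul, LinearMap.add_apply, LinearMap.smul_apply, smul_eq_mul, hP v hv w hw, hw0,
      hB.zero hv0, hB f]
    ring
  have oQ : Orth B ((Q ⊓ LinearMap.ker (B p₀)) ⊔ Submodule.span F {p₀})
      ((Q ⊓ LinearMap.ker (B p₀)) ⊔ Submodule.span F {p₀}) := by
    intro x hx y hy
    obtain ⟨v, hv, hv0, c, rfl⟩ := mQ.1 hx
    obtain ⟨w, hw, hw0, e, rfl⟩ := mQ.1 hy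
    simp only [map_add, map_smul, LinearMap.add_apply, LinearMap.smul_apply, smul_eq_mul, hQ v hv w hw, hw0,
      hB.zero hv0, hB p₀]
    ring
  have sup : (P ⊓ LinearMap.ker (B f)) ⊔ Submodule.span F {f} ⊔ ((Q ⊓ LinearMap.ker (B p₀)) ⊔ Submodule.span F {p₀}) = ⊤ := by
    rw [eq_top_iff]
    intro x _
    obtain ⟨p, hp, q, hq, rfl⟩ := mem_sup_top hPQ x
    rw [Submodule.mem_sup]
    refine ⟨(p - (B f p / B f p₀) • p₀) + (B p₀ q / B p₀ f) • f, mP.2 ⟨_, P.sub_mem hp (P.smul_mem _ hfP), ?_, _, rfl⟩,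
      (q - (B p₀ q / B p₀ f) • f) + (B f p / B f p₀) • p₀, mQ.2 ⟨_, Q.sub_mem hq (Q.smul_mem _ hf), ?_, _, rfl⟩, ?_⟩
    · rw [map_sub, map_smul, smul_eq_mul, div_mul_cancel₀ _ hfp, sub_self]
    · rw [map_sub, map_smul, smul_eq_mul, div_mul_cancel₀ _ hpf, sub_self]
    · abel
  have cc : ∀ v ∈ (P ⊓ LinearMap.ker (B f)) ⊔ Submodule.span F {f},
      g v - v ∈ (Q ⊓ LinearMap.ker (B p₀)) ⊔ Submodule.span F {p₀} := by
    intro x hx
    obtain ⟨v, hv, hv0, c, rfl⟩ := mP.1 hx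
    refine mQ.2 ⟨g v - v, hc v hv, ?_, c, ?_⟩
    · -- `B p₀ (g v) = B (g p₀) (g v)`
      have h1 := hg p₀ v
      rw [hff] at h1
      rw [map_sub, h1, sub_self]
    · rw [map_add, map_smul, hgf, smul_add]
      abel
  obtain ⟨hk', -⟩ := no_good h2 hB hN hg oP oQ sup cc (hdim _ _ oP oQ sup) (hno _ _ oP oQ sup cc)
  have hlt : (((P ⊓ LinearMap.ker (B f)) ⊔ Submodule.span F {f}) ⊓
      LinearMap.ker ((g : V →ₗ[F] V) - (LinearMap.id : V →ₗ[F] V)) : Submodule F V) <
      P ⊓ LinearMap.ker ((g : V →ₗ[F] V) - (LinearMap.id : V →ₗ[F] V)) := by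
    rw [SetLike.lt_iff_le_and_exists]
    have hx' : ∀ x ∈ (((P ⊓ LinearMap.ker (B f)) ⊔ Submodule.span F {f}) ⊓
      LinearMap.ker ((g : V →ₗ[F] V) - (LinearMap.id : V →ₗ[F] V)) : Submodule F V), x ∈ P ∧ g x = x ∧ B f x = 0 := by
      rintro x ⟨hx, hx0⟩
      obtain ⟨v, hv, hv0, c, rfl⟩ := mP.1 hx
      have h1 : g (v + c • f) = v + c • f := sub_eq_zero.1 hx0
      rw [map_add, map_smul, hgf, smul_add] at h1
      have h3 : (g v - v) + c • p₀ = 0 := by
        have h1' := sub_eq_zero.2 h1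
        rw [← h1']
        abel
      have h4 : c • p₀ ∈ Q := by
        rw [← neg_eq_iff_add_eq_zero.2 h3]
        exact Q.neg_mem (hc v hv)
      have h5 : c • p₀ = 0 :=
        (Submodule.disjoint_def.1 (isCompl_of hN hP hQ hPQ).1) _ (P.smul_mem c hfP) h4
      have h6 : c = 0 := (smul_eq_zero.1 h5).resolve_right hp₀0
      subst h6
      rw [zero_smul, add_zero] at h3 ⊢
      exact ⟨hv, sub_eq_zero.1 h3, hv0⟩
    refine ⟨fun x hx => ⟨(hx' x hx).1, ?_⟩, p₀, ⟨hfP, ?_⟩, fun h => hfp (hx' p₀ h).2.2⟩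
    · exact sub_eq_zero.2 (hx' x hx).2.1
    · exact sub_eq_zero.2 hff
  have := Submodule.finrank_lt_finrank_of_lt hlt
  omega

end FD

end Cfsg.Agent.H930.SpE
end

-- part: H144/TC/GPEight
section
/-!
# Good pairs in dimension `8` (S2464, `PSp_8(q)`, `q` odd)

`gp_eight` : if `g` has corner `1` (`C1 B g`) and `dim V = 8`, then there is a Lagrangian pair `P, Q`, `(g - 1) P ≤ Q`,
with `p ∈ P`, `q ∈ Q`, `B p q ≠ 0`, `B (g p) p = 0`, `B (g q) q = 0`.
-/

set_option autoImplicit false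

namespace Cfsg.Agent.H144.TC

open Cfsg.Agent.H144 Cfsg.Agent.H144.War

variable {F V : Type*} [Field F] [AddCommGroup V] [Module F V] [FiniteDimensional F V]

/-- an isotropic vector in a space of dimension `≥ 3` -/
theorem iso_vec [Finite F] (β : V →ₗ[F] V →ₗ[F] F) (U : Submodule F V) (hU : 3 ≤ Module.finrank F U) :
    ∃ v ∈ U, v ≠ 0 ∧ β v v = 0 := by
  obtain ⟨v, hv, hv0⟩ := Cfsg.Agent.H950.exists_common_isotropic (K := F) (A := U) (ι := Unit)
    (fun _ => (β.compl₁₂ U.subtype U.subtype)) (by rw [Fintype.card_unit]; omega)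
  exact ⟨v, v.2, fun h => hv (Subtype.ext h), hv0 ()⟩

/-- the span of the isotropic vectors has dimension `≥ dim - 2` -/
theorem two_le_span [Finite F] (β : V →ₗ[F] V →ₗ[F] F) {P A : Submodule F V} (hAP : A ≤ P)
    (hP : Module.finrank F P = 4) (hA : ∀ v ∈ P, β v v = 0 → v ∈ A) : 2 ≤ Module.finrank F A := by
  by_contra hlt
  obtain ⟨U, hU⟩ := A.exists_isCompl
  have h1 : A ⊔ U ⊓ P = P := by
    rw [← sup_inf_assoc_of_le U hAP, hU.sup_eq_top, top_inf_eq]
  have h2 : A ⊓ (U ⊓ P) = ⊥ := by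
    rw [← inf_assoc, hU.inf_eq_bot, bot_inf_eq]
  have h3 := Submodule.finrank_sup_add_finrank_inf_eq A (U ⊓ P)
  rw [h1, h2, finrank_bot, hP] at h3
  obtain ⟨v, hv, hv0, hvv⟩ := iso_vec β (U ⊓ P) (by omega)
  apply hv0
  have h4 : v ∈ A ⊓ (U ⊓ P) := ⟨hA v hv.2 hvv, hv⟩
  rwa [h2, Submodule.mem_bot] at h4

omit [FiniteDimensional F V] in
/-- an isotropic vector is in the radical when the isotropic vectors span a proper subspace `A` -/
theorem rad_of_ne (h2 : (2 : F) ≠ 0) (β : V →ₗ[F] V →ₗ[F] F) (hs : ∀ x y, β x y = β y x) {P A : Submodule F V}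
    (hA : ∀ v ∈ P, β v v = 0 → v ∈ A) (hne : ∃ p ∈ P, p ∉ A) {a : V} (ha : a ∈ P) (haa : β a a = 0) :
    ∀ p ∈ P, β a p = 0 := by
  have key : ∀ p ∈ P, p ∉ A → β a p = 0 := by
    intro p hp hpA
    by_contra h0
    apply hpA
    have h1 : β (p - (β p p / (2 * β a p)) • a) (p - (β p p / (2 * β a p)) • a) = 0 := by
      simp only [map_sub, map_smul, LinearMap.sub_apply, LinearMap.smul_apply, smul_eq_mul, haa, hs p a]
      field_simp
      ring
    have h3 := hA _ (P.sub_mem hp (P.smul_mem _ ha)) h1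
    have h4 := hA a ha haa
    have h5 := A.add_mem h3 (A.smul_mem (β p p / (2 * β a p)) h4)
    rwa [sub_add_cancel] at h5
  obtain ⟨p₀, hp₀, hp₀A⟩ := hne
  intro p hp
  by_cases hpA : p ∈ A
  · have h1 := key (p + p₀) (P.add_mem hp hp₀) (fun h => hp₀A (by
      have := A.sub_mem h hpA
      rwa [add_sub_cancel_left] at this))
    rw [map_add, key p₀ hp₀ hp₀A, add_zero] at h1
    exact h1
  · exact key p hp hpA

/-- **Good pairs, `dim V = 8`.** -/
theorem gp_eight [Finite F] (h2 : (2 : F) ≠ 0) {B : LinearMap.BilinForm F V} (hB : Alt B) (hN : Nond B)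
    {g : V ≃ₗ[F] V} (hg : Iso B g) (hV : Module.finrank F V = 8) (hC : C1 B g) : GP B g ⊤ := by
  obtain ⟨P, Q, hP, hQ, hPQ, hgP⟩ := hC
  obtain ⟨n, m, hn, hm, hnm⟩ := c1_factor hB hN hP hQ hPQ hg hgP
  have e1 : ∀ v ∈ P, g v = v + n v := by
    intro v hv
    rw [hnm, LinearEquiv.mul_apply, uni_apply, uni_apply, hm.2.1 v hv, add_zero]
  have e2 : ∀ v ∈ Q, g v = v + m v + n (m v) := by
    intro v hv
    rw [hnm, LinearEquiv.mul_apply, uni_apply, uni_apply, map_add, hn.2.1 v hv, zero_add]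
  have s1 : ∀ x y, B (n x) y = B (n y) x := by
    intro x y
    have h1 := hn.2.2 x y
    rw [hB.neg x (n y)] at h1
    exact add_neg_eq_zero.1 h1
  have s2 : ∀ x y, B (m x) y = B (m y) x := by
    intro x y
    have h1 := hm.2.2 x y
    rw [hB.neg x (m y)] at h1
    exact add_neg_eq_zero.1 h1
  have f1 : ∀ v ∈ P, B (g v) v = B (n v) v := by
    intro v hv
    rw [e1 v hv, map_add, LinearMap.add_apply, hB v, zero_add]
  have f2 : ∀ v ∈ Q, B (g v) v = B (m v) v := by
    intro v hv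
    rw [e2 v hv, map_add, map_add, LinearMap.add_apply, LinearMap.add_apply, hB v, zero_add,
      hQ _ (hn.1 _) _ hv, add_zero]
  by_cases hex : ∃ p ∈ P, ∃ q ∈ Q, B p q ≠ 0 ∧ B (g p) p = 0 ∧ B (g q) q = 0
  · exact ⟨P, Q, ⟨hP, hQ, hPQ, hgP⟩, hex⟩
  push Not at hex
  have hPQ' : Q ⊔ P = ⊤ := by rw [sup_comm]; exact hPQ
  have hP4 : Module.finrank F P = 4 := by
    have := finrank_two hB hN hP hQ hPQ
    omega
  have hQ4 : Module.finrank F Q = 4 := by
    have := finrank_two hB hN hQ hP hPQ'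
    omega
  let βP : V →ₗ[F] V →ₗ[F] F := B ∘ₗ n
  let βQ : V →ₗ[F] V →ₗ[F] F := B ∘ₗ m
  have bP : ∀ x y, βP x y = B (n x) y := fun _ _ => rfl
  have bQ : ∀ x y, βQ x y = B (m x) y := fun _ _ => rfl
  let A : Submodule F V := Submodule.span F {v | v ∈ P ∧ βP v v = 0}
  let C : Submodule F V := Submodule.span F {v | v ∈ Q ∧ βQ v v = 0}
  have hAP : A ≤ P := Submodule.span_le.2 fun v hv => hv.1
  have hCQ : C ≤ Q := Submodule.span_le.2 fun v hv => hv.1
  have hA : ∀ v ∈ P, βP v v = 0 → v ∈ A := fun v hv h => Submodule.subset_span ⟨hv, h⟩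
  have hC : ∀ v ∈ Q, βQ v v = 0 → v ∈ C := fun v hv h => Submodule.subset_span ⟨hv, h⟩
  have hA2 := two_le_span βP hAP hP4 hA
  have hC2 := two_le_span βQ hCQ hQ4 hC
  -- `A ⊥ C`
  have hAC : Orth B A C := by
    intro a ha c hc
    induction ha using Submodule.span_induction with
    | mem a ha =>
      induction hc using Submodule.span_induction with
      | mem c hc =>
        by_contra h0
        exact hex a ha.1 c hc.1 h0 (by rw [f1 a ha.1]; exact ha.2) (by rw [f2 c hc.1]; exact hc.2)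
      | zero => rw [map_zero]
      | add x y _ _ hx hy => rw [map_add, hx, hy, add_zero]
      | smul t x _ hx => rw [map_smul, hx, smul_zero]
    | zero => rw [map_zero, LinearMap.zero_apply]
    | add x y _ _ hx hy => rw [map_add, LinearMap.add_apply, hx, hy, add_zero]
    | smul t x _ hx => rw [map_smul, LinearMap.smul_apply, hx, smul_zero]
  have hneA : ∃ p ∈ P, p ∉ A := by
    by_contra hcon
    push Not at hcon
    have h1 : C = ⊥ := by
      rw [eq_bot_iff]
      intro c hc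
      exact eq_zero_of_orth hN hPQ (fun w hw => hB.zero (hAC w (hcon w hw) c hc)) (fun w hw => hQ c (hCQ hc) w hw)
    rw [h1, finrank_bot] at hC2
    omega
  have hneC : ∃ p ∈ Q, p ∉ C := by
    by_contra hcon
    push Not at hcon
    have h1 : A = ⊥ := by
      rw [eq_bot_iff]
      intro a ha
      exact eq_zero_of_orth hN hPQ (fun w hw => hP a (hAP ha) w hw) (fun w hw => hAC a ha w (hcon w hw))
    rw [h1, finrank_bot] at hA2
    omega
  have nA : ∀ a ∈ A, n a = 0 := by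
    intro a ha
    induction ha using Submodule.span_induction with
    | mem a ha =>
      have h1 := rad_of_ne h2 βP s1 hA hneA ha.1 ha.2
      exact eq_zero_of_orth hN hPQ h1 (fun w hw => hQ _ (hn.1 a) w hw)
    | zero => rw [map_zero]
    | add x y _ _ hx hy => rw [map_add, hx, hy, add_zero]
    | smul t x _ hx => rw [map_smul, hx, smul_zero]
  have mC : ∀ c ∈ C, m c = 0 := by
    intro c hc
    induction hc using Submodule.span_induction with
    | mem c hc =>
      have h1 := rad_of_ne h2 βQ s2 hC hneC hc.1 hc.2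
      exact eq_zero_of_orth hN hPQ (fun w hw => hP _ (hm.1 c) w hw) h1
    | zero => rw [map_zero]
    | add x y _ _ hx hy => rw [map_add, hx, hy, add_zero]
    | smul t x _ hx => rw [map_smul, hx, smul_zero]
  -- a complement `C'` of `C` in `Q`
  obtain ⟨U, hU⟩ := C.exists_isCompl
  let C' : Submodule F V := U ⊓ Q
  have hC'Q : C' ≤ Q := inf_le_right
  have hCC : C ⊔ C' = Q := by
    rw [show C ⊔ C' = (C ⊔ U) ⊓ Q from (sup_inf_assoc_of_le U hCQ).symm, hU.sup_eq_top, top_inf_eq]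
  have hCC0 : C ⊓ C' = ⊥ := by
    rw [show C ⊓ C' = C ⊓ U ⊓ Q from (inf_assoc C U Q).symm, hU.inf_eq_bot, bot_inf_eq]
  have hCdim := Submodule.finrank_sup_add_finrank_inf_eq C C'
  rw [hCC, hCC0, finrank_bot, hQ4] at hCdim
  -- `A ≃ (C')^*`
  let e : A →ₗ[F] Module.Dual F C' := B.compl₁₂ A.subtype C'.subtype
  have he : ∀ (a : A) (c : C'), e a c = B a c := fun _ _ => rfl
  have hei : Function.Injective e := by
    rw [← LinearMap.ker_eq_bot, LinearMap.ker_eq_bot']
    intro a ha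
    refine Subtype.ext (eq_zero_of_orth hN hPQ (fun w hw => hP a (hAP a.2) w hw) (fun w hw => ?_))
    rw [← hCC] at hw
    obtain ⟨c, hc, c', hc', rfl⟩ := Submodule.mem_sup.1 hw
    have h1 := LinearMap.congr_fun ha ⟨c', hc'⟩
    rw [he] at h1
    rw [map_add, hAC a a.2 c hc, zero_add]
    exact h1
  have hed : Module.finrank F A = Module.finrank F (Module.Dual F C') := by
    have h1 := LinearMap.finrank_le_finrank_of_injective hei
    rw [Subspace.dual_finrank_eq] at h1 ⊢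
    omega
  have hes : Function.Surjective e := (LinearMap.injective_iff_surjective_of_finrank_eq_finrank hed).1 hei
  -- `A' = C'^⊥ ∩ P`
  let A' : Submodule F V := P ⊓
    { carrier := {v | ∀ c ∈ C', B v c = 0}
      zero_mem' := fun c _ => by rw [map_zero, LinearMap.zero_apply]
      add_mem' := fun {a b} ha hb c hc => by rw [map_add, LinearMap.add_apply, ha c hc, hb c hc, add_zero]
      smul_mem' := fun t a ha c hc => by rw [map_smul, LinearMap.smul_apply, ha c hc, smul_zero] }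
  have hA'P : A' ≤ P := inf_le_left
  have hA'C : ∀ a ∈ A', ∀ c ∈ C', B a c = 0 := fun a ha => ha.2
  have hAA : ∀ p ∈ P, ∃ a ∈ A, ∃ a' ∈ A', a + a' = p := by
    intro p hp
    obtain ⟨a, ha⟩ := hes ((B p).comp C'.subtype)
    refine ⟨a, a.2, p - a, ⟨P.sub_mem hp (hAP a.2), fun c hc => ?_⟩, by abel⟩
    have h1 := LinearMap.congr_fun ha ⟨c, hc⟩
    rw [he] at h1
    rw [map_sub, LinearMap.sub_apply, sub_eq_zero]
    exact h1.symm
  let P' : Submodule F V := A' ⊔ C'
  let K : Submodule F V := A ⊔ C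
  have hP' : Orth B P' P' := by
    intro x hx y hy
    obtain ⟨a, ha, c, hc, rfl⟩ := Submodule.mem_sup.1 hx
    obtain ⟨a', ha', c', hc', rfl⟩ := Submodule.mem_sup.1 hy
    rw [map_add, map_add, LinearMap.add_apply, LinearMap.add_apply, hP a (hA'P ha) a' (hA'P ha'), hA'C a ha c' hc',
      hB.zero (hA'C a' ha' c hc), hQ c (hC'Q hc) c' (hC'Q hc')]
    simp
  have hK : Orth B K K := by
    intro x hx y hy
    obtain ⟨a, ha, c, hc, rfl⟩ := Submodule.mem_sup.1 hx
    obtain ⟨a', ha', c', hc', rfl⟩ := Submodule.mem_sup.1 hy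
    rw [map_add, map_add, LinearMap.add_apply, LinearMap.add_apply, hP a (hAP ha) a' (hAP ha'), hAC a ha c' hc',
      hB.zero (hAC a' ha' c hc), hQ c (hCQ hc) c' (hCQ hc')]
    simp
  have hPK : P' ⊔ K = ⊤ := by
    rw [eq_top_iff, ← hPQ]
    refine sup_le (fun p hp => ?_) ?_
    · obtain ⟨a, ha, a', ha', rfl⟩ := hAA p hp
      exact Submodule.add_mem _ (Submodule.mem_sup_right (Submodule.mem_sup_left ha))
        (Submodule.mem_sup_left (Submodule.mem_sup_left ha'))
    · rw [← hCC]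
      exact sup_le (le_sup_right.trans le_sup_right) (le_sup_right.trans le_sup_left)
  have hfix : ∀ v ∈ K, g v = v := by
    intro v hv
    obtain ⟨a, ha, c, hc, rfl⟩ := Submodule.mem_sup.1 hv
    rw [map_add, e1 a (hAP ha), e2 c (hCQ hc), nA a ha, mC c hc, map_zero, add_zero, add_zero, add_zero]
  have hnA' : ∀ a ∈ A', n a ∈ C := by
    intro a ha
    have h1 := hn.1 a
    rw [← hCC] at h1
    obtain ⟨c, hc, c', hc', h3⟩ := Submodule.mem_sup.1 h1
    have h4 : c' = 0 := by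
      apply eq_zero_of_orth hN hPQ _ (fun w hw => hQ c' (hC'Q hc') w hw)
      intro w hw
      obtain ⟨b, hb, b', hb', rfl⟩ := hAA w hw
      have h5 : B (n a) b = 0 := by rw [s1, nA b hb, map_zero, LinearMap.zero_apply]
      rw [← h3, map_add, LinearMap.add_apply, hB.zero (hAC b hb c hc), zero_add] at h5
      rw [map_add, h5, hB.zero (hA'C b' hb' c' hc'), add_zero]
    rw [← h3, h4, add_zero]
    exact hc
  have hmC' : ∀ c ∈ C', m c ∈ A := by
    intro c hc
    obtain ⟨a, ha, a', ha', h3⟩ := hAA (m c) (hm.1 c)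
    have h4 : a' = 0 := by
      apply eq_zero_of_orth hN hPQ (fun w hw => hP a' (hA'P ha') w hw)
      intro w hw
      rw [← hCC] at hw
      obtain ⟨b, hb, b', hb', rfl⟩ := Submodule.mem_sup.1 hw
      have h5 : B (m c) b = 0 := by rw [s2, mC b hb, map_zero, LinearMap.zero_apply]
      rw [← h3, map_add, LinearMap.add_apply, hAC a ha b hb, zero_add] at h5
      rw [map_add, h5, hA'C a' ha' b' hb', add_zero]
    rw [← h3, h4, add_zero]
    exact ha
  have hgP' : ∀ v ∈ P', g v - v ∈ K := by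
    intro v hv
    obtain ⟨a, ha, c, hc, rfl⟩ := Submodule.mem_sup.1 hv
    have h1 : g (a + c) - (a + c) = n a + (m c + n (m c)) := by
      rw [map_add, e1 a (hA'P ha), e2 c (hC'Q hc)]
      abel
    rw [h1, nA _ (hmC' c hc), add_zero]
    exact K.add_mem (Submodule.mem_sup_right (hnA' a ha)) (Submodule.mem_sup_left (hmC' c hc))
  have hP'4 := finrank_two hB hN hP' hK hPK
  obtain ⟨p, hp, hp0, hpp⟩ := iso_vec (B ∘ₗ (g : V →ₗ[F] V)) P' (by omega)
  have hpK : ∃ q ∈ K, B p q ≠ 0 := by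
    by_contra hcon
    push Not at hcon
    exact hp0 (eq_zero_of_orth hN hPK (fun w hw => hP' p hp w hw) hcon)
  obtain ⟨q, hq, hpq⟩ := hpK
  exact ⟨P', K, ⟨hP', hK, hPK, hgP'⟩, p, hp, q, hq, hpq, hpp, by rw [hfix q hq]; exact hB q⟩

end Cfsg.Agent.H144.TC
end

-- part: H7/TC/SpEightB
section
/-!
# S2464, row `PSp_8(q)`, `q` odd: assembly (helper7)

* `tt_eight` : `g` or `-g` is a product of two isometries of type `ξ ⊕ 1`;
* `six_of_tt` : from isometries to `PSp_8(q)`.
-/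

set_option autoImplicit false
open Polynomial

noncomputable section

namespace Cfsg.Agent.H7.TC

open Cfsg.Agent.H144 Cfsg.Agent.H144.War Cfsg.Agent.H144.TC

/-- the row `PSp_6` : a nonscalar isometry of a space of dimension `6` -/
def SixBox {F M : Type} [Field F] [AddCommGroup M] [Module F M] (ξ : M ≃ₗ[F] M) : Prop :=
  ∀ (V : Type) [AddCommGroup V] [Module F V] [FiniteDimensional F V] (B : LinearMap.BilinForm F V), Alt B → Nond B →
    Module.finrank F V = 6 → ∀ g : V ≃ₗ[F] V, Iso B g → (∀ c : F, ¬ ∀ v, g v = c • v) → TT B ξ ξ g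

variable {F V M : Type} [Field F] [AddCommGroup V] [Module F V] [AddCommGroup M] [Module F M]

theorem inv_perp {B : LinearMap.BilinForm F V} {g : V ≃ₗ[F] V} [FiniteDimensional F V] (hg : Iso B g)
    {S : Submodule F V} (hI : _root_.Cfsg.Agent.H144.Inv g S) : _root_.Cfsg.Agent.H144.Inv g (⊤ ⊓ perp B S) := by
  intro v hv
  refine ⟨trivial, fun w hw => ?_⟩
  rw [hg.adj']
  exact hv.2 _ (inv_mem_of_mem hI w hw)

theorem tt_plane_ns [FiniteDimensional F V] [Finite F] {B : LinearMap.BilinForm F V} (hB : Alt B) (hN : Nond B)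
    (h8 : Module.finrank F V = 8) {ξ : M ≃ₗ[F] M} (hE : SixBox ξ) {S : Submodule F V} (hS : Nd B S)
    (hS2 : Module.finrank F S = 2) {g : V ≃ₗ[F] V} (hg : Iso B g) (h1 : ∀ v ∈ S, g v = v)
    (hns : ∀ c : F, ¬ ∀ v ∈ (⊤ ⊓ perp B S : Submodule F V), g v = c • v) : TT B (s1 ξ) (s1 ξ) g := by
  obtain ⟨R, -, o, hSR, hR, hf, hRe⟩ := split_off hB (le_top : S ≤ ⊤) hS (fun v _ h => hN v fun w => h w trivial)
  subst hRe
  have hSI : _root_.Cfsg.Agent.H144.Inv g S := fun v hv => by rw [h1 v hv]; exact hv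
  have hI := inv_perp hg hSI
  have hc : IsCompl (⊤ ⊓ perp B S) S := ⟨(disjoint_of_orth hB o hS).symm, codisjoint_iff.2 (by rw [sup_comm]; exact hSR)⟩
  refine tt_plane hB (o.symm hB) hc hS hS2 hI h1 (hE _ _ (restrict_alt hB _) (restrict_nond hR) ?_ _
    (gr_iso hg _ hI) fun c h => hns c fun v hv => ?_)
  · rw [finrank_top, h8, hS2] at hf
    omega
  · exact congrArg Subtype.val (h ⟨v, hv⟩)

theorem tt_plane_or [FiniteDimensional F V] [Finite F] (h2 : (2 : F) ≠ 0) {B : LinearMap.BilinForm F V} (hB : Alt B)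
    (hN : Nond B) (h8 : Module.finrank F V = 8) {ξ : M ≃ₗ[F] M} (hE : SixBox ξ) {S : Submodule F V} (hS : Nd B S)
    (hS2 : Module.finrank F S = 2) {g : V ≃ₗ[F] V} (hg : Iso B g) (h1 : ∀ v ∈ S, g v = v)
    (hns : ¬ ∀ v, g v = v) : TT B (s1 ξ) (s1 ξ) g ∨ TT B (s1 ξ) (s1 ξ) (ng g) := by
  by_cases hsc : ∃ c : F, ∀ v ∈ (⊤ ⊓ perp B S : Submodule F V), g v = c • v
  swap
  · exact Or.inl (tt_plane_ns hB hN h8 hE hS hS2 hg h1 fun c h => hsc ⟨c, h⟩)
  obtain ⟨c, hc⟩ := hsc
  obtain ⟨R, -, o, hSR, hR, hf, hRe⟩ := split_off hB (le_top : S ≤ ⊤) hS (fun v _ h => hN v fun w => h w trivial)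
  rw [← hRe] at hc
  rw [finrank_top, h8, hS2] at hf
  have hR6 : Module.finrank F R = 2 * 3 := by omega
  -- `c = -1`
  have hR0 : R ≠ ⊥ := by
    rintro h
    rw [h, finrank_bot] at hR6
    omega
  obtain ⟨e, he, he0⟩ := Submodule.exists_mem_ne_zero_of_ne_bot hR0
  obtain ⟨f, hf', hef⟩ : ∃ f ∈ R, B e f ≠ 0 := by
    by_contra hcon
    push Not at hcon
    exact he0 (hR e he hcon)
  have hcc : (c - 1) * (c + 1) = 0 := by
    have h3 := hg e f
    rw [hc e he, hc f hf', map_smul, map_smul, LinearMap.smul_apply, smul_eq_mul, smul_eq_mul] at h3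
    have h4 : (c * c - 1) * B e f = 0 := by linear_combination h3
    have h5 := (mul_eq_zero.1 h4).resolve_right hef
    linear_combination h5
  have hc1 : c = -1 := by
    rcases mul_eq_zero.1 hcc with h | h
    · exfalso
      apply hns
      intro v
      obtain ⟨s, hs, r, hr, rfl⟩ := mem_sup_top hSR v
      rw [map_add, h1 s hs, hc r hr, sub_eq_zero.1 h, one_smul]
    · linear_combination h
  subst hc1
  have hgR : ∀ v ∈ R, ng g v = v := by
    intro v hv
    rw [ng_apply, hc v hv, neg_one_smul, neg_neg]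
  -- another plane
  right
  obtain ⟨S', hS'R, hS', hS'2⟩ := exists_sub hB hR hR6 1 (by norm_num)
  obtain ⟨R', hR'R, o', hSR', hR', hf'', -⟩ := split_off hB hS'R hS' hR
  refine tt_plane_ns hB hN h8 hE hS' (by rw [hS'2]) (ng_iso hg) (fun v hv => hgR v (hS'R hv)) fun d hd => ?_
  have hR'0 : R' ≠ ⊥ := by
    rintro h
    rw [h, finrank_bot] at hf''
    omega
  have hS0 : S ≠ ⊥ := by
    rintro h
    rw [h, finrank_bot] at hS2
    omega
  obtain ⟨w, hw, hw0⟩ := Submodule.exists_mem_ne_zero_of_ne_bot hR'0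
  obtain ⟨v, hv, hv0⟩ := Submodule.exists_mem_ne_zero_of_ne_bot hS0
  have e1 := hd w ⟨trivial, fun x hx => o' x hx w hw⟩
  have e2 := hd v ⟨trivial, fun x hx => hB.zero (o v hv x (hS'R hx))⟩
  rw [hgR w (hR'R hw)] at e1
  rw [ng_apply, h1 v hv] at e2
  have d1 : d = 1 := by
    have : (d - 1) • w = 0 := by rw [sub_smul, one_smul, ← e1, sub_self]
    exact sub_eq_zero.1 ((smul_eq_zero.1 this).resolve_right hw0)
  rw [d1, one_smul] at e2
  have : (2 : F) • v = 0 := by rw [two_smul]; nth_rewrite 1 [← e2]; exact neg_add_cancel v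
  exact hv0 ((smul_eq_zero.1 this).resolve_left h2)

/-- **the isometries** -/
theorem tt_eight [FiniteDimensional F V] [Finite F] [FiniteDimensional F M] (h2 : (2 : F) ≠ 0)
    {B : LinearMap.BilinForm F V} (hB : Alt B) (hN : Nond B) (h8 : Module.finrank F V = 8) {ξ : M ≃ₗ[F] M}
    (hM : Module.finrank F M = 3) (hE : SixBox ξ) (hW : ∀ X : V ≃ₗ[F] V, HasType B (s1 ξ⁻¹) X → HasType B (s1 ξ) X)
    {f f' : F[X]} (hξ : Sing ξ f f') (e1 : f.eval 1 ≠ 0) (e1' : f'.eval 1 ≠ 0)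
    {g : V ≃ₗ[F] V} (hg : Iso B g) (hns : ∀ c : F, ¬ ∀ v, g v = c • v) :
    TT B (s1 ξ) (s1 ξ) g ∨ TT B (s1 ξ) (s1 ξ) (ng g) := by
  have hgp : ∀ g : V ≃ₗ[F] V, Iso B g → C1On B g ⊤ → TT B (s1 ξ) (s1 ξ) g := by
    intro g hg hc
    have hc' : C1 B g := hc
    obtain ⟨X, Z, hX, hZ, e⟩ := tt_gp hB hN hg (gp_eight h2 hB hN hg h8 hc') hξ e1 e1' (by rw [h8, hM])
    exact ⟨X, Z, hX, hW Z hZ, e⟩
  rcases exists_case hB hN h8 hg with h | h | ⟨S, hS, hS2, h | h⟩
  · exact Or.inl (hgp g hg h)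
  · exact Or.inr (hgp _ (ng_iso hg) h)
  · refine tt_plane_or h2 hB hN h8 hE hS hS2 hg h fun h0 => hns 1 fun v => by rw [h0 v, one_smul]
  · have h3 := tt_plane_or h2 hB hN h8 hE hS hS2 (ng_iso hg) h fun h0 => hns (-1) fun v => by
      rw [neg_one_smul, ← h0 v, ng_apply, neg_neg, ← ng_apply, h0]
    rw [ng_ng] at h3
    exact h3.symm

/-! ### `PSp` -/

section psp

open Cfsg Cfsg.Agent.H955 Cfsg.Agent.ClassicalGeometry.SympBasic

theorem exists_type [FiniteDimensional F V] [Finite F] [FiniteDimensional F M] {B : LinearMap.BilinForm F V}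
    (hB : Alt B) (hN : Nond B) (η : M ≃ₗ[F] M) (hM : Module.finrank F V = 2 * Module.finrank F M) {N : ℕ}
    (hη : η ^ N = 1) : ∃ X : V ≃ₗ[F] V, HasType B η X ∧ X ^ N = 1 := by
  obtain ⟨P, Q, hP, hQ, hPQ, -⟩ := exists_lag hB (R := ⊤) (fun v _ h => hN v fun w => h w trivial)
    (g := 1) (fun v w => rfl) (fun v _ => rfl)
  have h3 := finrank_two hB hN hP hQ hPQ
  let φ : P ≃ₗ[F] M := LinearEquiv.ofFinrankEq P M (by omega)
  obtain ⟨X, hX, hXP, hXQ⟩ := levi hB hN hP hQ hPQ (_root_.Cfsg.Agent.H144.War.tr φ η)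
  refine ⟨X, ⟨hX, P, Q, hP, hQ, hPQ, hXQ, φ, hXP⟩, ?_⟩
  have h4 := levi_unique hB hN hP hQ hPQ (Cfsg.Agent.H144.War.Iso.pow hX N) (mem_pow hXQ N) 1 (one_mul 1) (fun v hv => by
    have h5 := pow_restrict hXP N ⟨v, hv⟩
    rw [← tr_pow, hη, tr_one] at h5
    rw [h5, one_smul]
    rfl)
  ext v
  rw [h4 v, one_smul]
  rfl

end psp

end Cfsg.Agent.H7.TC
end
end

-- part: H7/TC/SpEightRow
section
/-!
# S2464, the row `PSp_8(q)`, `q` odd (helper7)
-/

set_option autoImplicit false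
open Polynomial

noncomputable section

namespace Cfsg.Agent.H7.TC

open Cfsg Cfsg.Agent.H144 Cfsg.Agent.H144.War Cfsg.Agent.H144.TC Cfsg.Agent.H538.TC Cfsg.Agent.H955
  Cfsg.Agent.ClassicalGeometry.SympBasic
open Cfsg.Agent.H126.M3 (cu)

variable {F : Type} [Field F] [Finite F]

theorem s1_pow {M : Type} [AddCommGroup M] [Module F M] (ξ : M ≃ₗ[F] M) (k : ℕ) : (s1 ξ) ^ k = s1 (ξ ^ k) := by
  have h1 : (LinearEquiv.refl F F) ^ k = LinearEquiv.refl F F := one_pow k
  rw [s1, prodCongr_pow, h1, s1]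

end Cfsg.Agent.H7.TC
end
end

-- part: H744/TC/SpSix
section
/-!
# `Sp_6(q)`: two conjugates of one element of the Levi subgroup (S2464, `PSp_8(q)`, box E)

* `sing_cubic` : `Sing ξ (cu s r) (cu r s)` for `ξ` with irreducible characteristic polynomial `cu s r`.
* `exists_coord` : symplectic coordinates in which a nonscalar isometry has a nonscalar corner of determinant `Δ`.
* `sp_six` : every nonscalar isometry of a symplectic space of dimension `6` is `X Z`, `X` and `Z` of type `ξ`.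
-/

set_option autoImplicit false
open Polynomial

noncomputable section

namespace Cfsg.Agent.H744.TC

open Cfsg.Agent.H144 Cfsg.Agent.H144.War Cfsg.Agent.H144.TC
open Cfsg.Agent.H126.M3 (cu)
open Cfsg.Agent.H538.TC (Good sl_three)
open Cfsg.Agent.S2445 (form form_alt form_nond form_apply mem_of_iso)

/-! ### the cubic -/

section Cubic

variable {F V : Type*} [Field F] [AddCommGroup V] [Module F V]

theorem aeval_cu (x : V ≃ₗ[F] V) (s r : F) (v : V) :
    aeval (x : Module.End F V) (cu s r) v = x (x (x v)) - s • x (x v) + r • x v - v := by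
  simp only [cu, map_sub, map_add, map_mul, aeval_X, aeval_C, LinearMap.sub_apply, LinearMap.add_apply,
    Module.algebraMap_end_eq_smul_id, Module.End.mul_apply, LinearMap.smul_apply, LinearMap.id_apply, pow_succ, pow_zero,
    one_mul, one_smul]
  rfl

theorem aeval_cu_inv (x : V ≃ₗ[F] V) (s r : F) (v : V) :
    aeval ((x⁻¹ : V ≃ₗ[F] V) : Module.End F V) (cu r s) v =
      - aeval (x : Module.End F V) (cu s r) (x⁻¹ (x⁻¹ (x⁻¹ v))) := by
  rw [aeval_cu, aeval_cu]
  simp only [app_inv]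
  abel

theorem cu_monic (s r : F) : (cu s r).Monic ∧ (cu s r).natDegree = 3 := by
  have h1 : (cu s r) = X ^ 3 + (-(C s) * X ^ 2 + C r * X - C 1) := by
    rw [cu]
    ring
  have h2 : (-(C s) * X ^ 2 + C r * X - C 1 : F[X]).degree < 3 := by
    refine lt_of_le_of_lt (b := ((2 : ℕ) : WithBot ℕ)) ?_ (by norm_num)
    rw [← natDegree_le_iff_degree_le]
    compute_degree
  constructor
  · rw [h1]
    exact monic_X_pow_add (by exact_mod_cast h2)
  · rw [h1]
    exact natDegree_eq_of_degree_eq_some (by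
      rw [degree_add_eq_left_of_degree_lt (by rw [degree_X_pow]; exact_mod_cast h2), degree_X_pow])

theorem cu_two (s r : F) : (cu s r).coeff 2 = -s := by
  rw [cu]
  exact Cfsg.Agent.H538.TC.c3_two s r 1

theorem cu_root (s : F) : (cu s s).IsRoot 1 := by
  simp only [cu, _root_.map_one, _root_.Polynomial.IsRoot.def, _root_.Polynomial.eval_sub, _root_.Polynomial.eval_add, _root_.Polynomial.eval_pow, _root_.Polynomial.eval_X, _root_.one_pow, _root_.Polynomial.eval_mul, _root_.Polynomial.eval_C, _root_.mul_one, _root_.sub_add_cancel, _root_.Polynomial.eval_one, _root_.sub_self]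

theorem cu_coprime {s r : F} (hirr : Irreducible (cu s r)) : IsCoprime (cu s r) (cu r s) := by
  rw [hirr.coprime_iff_not_dvd]
  intro hd
  obtain ⟨m1, d1⟩ := cu_monic s r
  obtain ⟨m2, d2⟩ := cu_monic r s
  have h1 : cu r s = cu s r := eq_of_monic_of_dvd_of_natDegree_le m1 m2 hd (by rw [d1, d2])
  have h2 : -s = -r := by rw [← cu_two s r, ← cu_two r s, h1]
  have h2' : s = r := neg_injective h2
  subst h2'
  have h4 := Polynomial.degree_eq_one_of_irreducible_of_root hirr (cu_root s)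
  rw [degree_eq_natDegree m1.ne_zero, d1] at h4
  norm_num at h4

/-- **the polynomial conditions** -/
theorem sing_cubic {s r : F} (hirr : Irreducible (cu s r)) {ξ : V ≃ₗ[F] V}
    (hξ : ∀ v, aeval (ξ : Module.End F V) (cu s r) v = 0) : Sing ξ (cu s r) (cu r s) := by
  have h1 : ∀ v, aeval ((ξ⁻¹ : V ≃ₗ[F] V) : Module.End F V) (cu r s) v = 0 := fun v => by
    rw [aeval_cu_inv, hξ, neg_zero]
  obtain ⟨a, b, hab⟩ := cu_coprime hirr
  have key : ∀ (y : Module.End F V) (v : V), aeval y (cu s r) v = 0 → aeval y (cu r s) v = 0 → v = 0 := by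
    intro y v e1 e2
    have e3 := congrArg (fun p : F[X] => aeval y p v) hab
    simp only [map_add, map_mul, map_one, LinearMap.add_apply, Module.End.mul_apply, e1, e2, map_zero, add_zero,
      Module.End.one_apply] at e3
    exact e3.symm
  exact ⟨hξ, fun v hv => key _ v hv (h1 v), h1, fun v hv => key _ v (hξ v) hv⟩

end Cubic

/-! ### coordinates -/

section Coord

open Matrix

variable {F : Type*} [Field F]

/-- `a ↦ (a, 0)` -/
def jl (n : ℕ) (F : Type*) [Field F] : (Fin n → F) →ₗ[F] (Fin n ⊕ Fin n → F) where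
  toFun a := Sum.elim a (0 : Fin n → F)
  map_add' a b := by ext (i | i) <;> simp
  map_smul' c a := by ext (i | i) <;> simp

/-- `b ↦ (0, b)` -/
def jr (n : ℕ) (F : Type*) [Field F] : (Fin n → F) →ₗ[F] (Fin n ⊕ Fin n → F) where
  toFun a := Sum.elim (0 : Fin n → F) a
  map_add' a b := by ext (i | i) <;> simp
  map_smul' c a := by ext (i | i) <;> simp

theorem jl_apply (n : ℕ) (a : Fin n → F) : jl n F a = Sum.elim a (0 : Fin n → F) := rfl

theorem jr_apply (n : ℕ) (a : Fin n → F) : jr n F a = Sum.elim (0 : Fin n → F) a := rfl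

theorem jlr {n : ℕ} (v : Fin n ⊕ Fin n → F) : jl n F (v ∘ Sum.inl) + jr n F (v ∘ Sum.inr) = v := by
  ext (i | i) <;> simp [jl_apply, jr_apply]

theorem form_jl {n : ℕ} (a b : Fin n → F) : form F n (jl n F a) (jl n F b) = 0 := by
  rw [form_apply, Matrix.J, jl_apply, jl_apply, fromBlocks_mulVec]
  simp only [_root_.Sum.elim_comp_inl, _root_.Matrix.zero_mulVec, _root_.Sum.elim_comp_inr, _root_.Matrix.mulVec_zero, _root_.add_zero, _root_.Matrix.one_mulVec, _root_.sumElim_dotProduct_sumElim, _root_.dotProduct_zero, _root_.zero_dotProduct]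

theorem form_jr {n : ℕ} (a b : Fin n → F) : form F n (jr n F a) (jr n F b) = 0 := by
  rw [form_apply, Matrix.J, jr_apply, jr_apply, fromBlocks_mulVec]
  simp only [_root_.Sum.elim_comp_inl, _root_.Matrix.mulVec_zero, _root_.Sum.elim_comp_inr, _root_.zero_add, _root_.Matrix.zero_mulVec, _root_.add_zero, _root_.sumElim_dotProduct_sumElim, _root_.zero_dotProduct, _root_.dotProduct_zero]

theorem exists_coord {V : Type*} [AddCommGroup V] [Module F V] [FiniteDimensional F V]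
    {B : LinearMap.BilinForm F V} (hB : Alt B) (hN : Nond B) {n : ℕ} (hn : 2 ≤ n)
    (hV : Module.finrank F V = 2 * n) {g : V ≃ₗ[F] V} (hg : Iso B g) (hns : ∀ c : F, ¬ ∀ v, g v = c • v) {Δ : F}
    (hΔ : Δ ≠ 0) : ∃ (w : V ≃ₗ[F] (Fin n ⊕ Fin n → F)) (A B' C' D : Matrix (Fin n) (Fin n) F),
      (∀ x y, form F n (w x) (w y) = B x y) ∧ (∀ v, w (g v) = (Matrix.fromBlocks A B' C' D) *ᵥ (w v)) ∧
      A.det = Δ ∧ ∀ a, A ≠ Matrix.scalar (Fin n) a := by
  obtain ⟨e, he⟩ := Cfsg.Agent.H955.exists_sp_model (B := B) ⟨hB, hN⟩ hV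
  have he' : ∀ x y, form F n (e x) (e y) = B x y := fun x y => by rw [form_apply]; exact he x y
  have hiso : Iso (form F n) (e.symm.trans (g.trans e)) := by
    intro x y
    obtain ⟨x, rfl⟩ := e.surjective x
    obtain ⟨y, rfl⟩ := e.surjective y
    simp only [LinearEquiv.trans_apply, LinearEquiv.symm_apply_apply]
    rw [he', he', hg]
  obtain ⟨M, hM⟩ : ∃ M : Matrix.symplecticGroup (Fin n) F, ∀ v, (M : Matrix _ _ F) *ᵥ (e v) = e (g v) := by
    refine ⟨⟨_, mem_of_iso hiso⟩, fun v => ?_⟩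
    change (LinearMap.toMatrix' _) *ᵥ _ = _
    rw [LinearMap.toMatrix'_mulVec]
    change e (g (e.symm (e v))) = _
    rw [e.symm_apply_apply]
  have hMc : M ∉ Subgroup.center (Matrix.symplecticGroup (Fin n) F) := by
    intro hc
    obtain ⟨a, ha⟩ := (Cfsg.Agent.LieClassical.SympCenter.mem_center_iff n M).1 hc
    apply hns a
    intro v
    apply e.injective
    rw [← hM, map_smul, ha, Matrix.smul_mulVec, Matrix.one_mulVec]
  obtain ⟨t, A, B', C', D, ht, -, hd, hs⟩ := Cfsg.Agent.H140.TC.Sp.exists_corner hn hMc hΔ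
  refine ⟨e.trans (Cfsg.Agent.S2445.act t), A, B', C', D, fun x y => ?_, fun v => ?_, hd, hs⟩
  · rw [LinearEquiv.trans_apply, LinearEquiv.trans_apply, Cfsg.Agent.S2445.act_iso, he']
  · rw [← ht, LinearEquiv.trans_apply, LinearEquiv.trans_apply, Cfsg.Agent.S2445.act_apply,
      Cfsg.Agent.S2445.act_apply, Matrix.mulVec_mulVec, ← Submonoid.coe_mul, inv_mul_cancel_right, Submonoid.coe_mul,
      ← Matrix.mulVec_mulVec, hM]

end Coord

/-! ### the factorization of the corner -/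

section Fac

open Matrix

variable {F : Type*} [Field F]

theorem fac_three [Finite F] {s r : F} (hgood : Good s r) (hirr : Irreducible (cu s r))
    {ξ : (Fin 3 → F) ≃ₗ[F] (Fin 3 → F)}
    (hξ : (LinearMap.toMatrix' (ξ : (Fin 3 → F) →ₗ[F] (Fin 3 → F))).charpoly = cu s r)
    (l : Matrix.SpecialLinearGroup (Fin 3) F)
    (hns : ∀ a : F, (l : Matrix (Fin 3) (Fin 3) F) ≠ a • (1 : Matrix (Fin 3) (Fin 3) F)) :
    FacT ξ ξ (Matrix.SpecialLinearGroup.toLin' l) := by
  have hd : (LinearMap.toMatrix' (ξ : (Fin 3 → F) →ₗ[F] (Fin 3 → F))).det = 1 := by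
    have h1 := congrArg (fun p : F[X] => p.coeff 0) hξ
    have h2 : (cu s r).coeff 0 = -1 := by simp only [cu, coeff_X, coeff_C, coeff_X_pow, _root_.map_one, _root_.Polynomial.coeff_sub, _root_.Polynomial.coeff_add, _root_.OfNat.zero_ne_ofNat, ↓ _root_.reduceIte, _root_.Polynomial.mul_coeff_zero, _root_.MulZeroClass.mul_zero, _root_.sub_self, _root_.one_ne_zero, _root_.add_zero, _root_.Polynomial.coeff_one_zero, _root_.zero_sub]
    simp only [h2] at h1
    rw [Matrix.det_eq_sign_charpoly_coeff, h1]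
    norm_num [Fintype.card_fin]
  obtain ⟨c, hc⟩ : ∃ c : Matrix.SpecialLinearGroup (Fin 3) F,
      (c : Matrix (Fin 3) (Fin 3) F) = LinearMap.toMatrix' (ξ : (Fin 3 → F) →ₗ[F] (Fin 3 → F)) := ⟨⟨_, hd⟩, rfl⟩
  have hcξ : ∀ v, c.toLin' v = ξ v := by
    intro v
    rw [Matrix.SpecialLinearGroup.toLin'_apply, hc, Matrix.toLin'_toMatrix']
    rfl
  obtain ⟨a, b, hab⟩ := sl_three hgood (c := c) (by rw [hc]; exact hξ) hirr l hns
  refine ⟨(Matrix.SpecialLinearGroup.toLin' a).symm, (Matrix.SpecialLinearGroup.toLin' b).symm, fun v => ?_⟩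
  rw [tr_apply, tr_apply, LinearEquiv.symm_symm, LinearEquiv.symm_symm, ← hcξ, ← hcξ, hab]
  simp only [map_mul, map_inv, LinearEquiv.mul_apply]
  rfl

theorem aeval_of_toMatrix {s r : F} {ξ : (Fin 3 → F) ≃ₗ[F] (Fin 3 → F)}
    (hξ : (LinearMap.toMatrix' (ξ : (Fin 3 → F) →ₗ[F] (Fin 3 → F))).charpoly = cu s r) (v : Fin 3 → F) :
    aeval (ξ : Module.End F (Fin 3 → F)) (cu s r) v = 0 := by
  have h1 : (ξ : Module.End F (Fin 3 → F)).charpoly = cu s r := by
    rw [← hξ, ← Matrix.charpoly_toLin', Matrix.toLin'_toMatrix']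
  rw [← h1, LinearMap.aeval_self_charpoly, LinearMap.zero_apply]

end Fac

/-! ### the theorem -/

set_option linter.unusedVariables false in
/-- **`Sp_6(q)`.** -/
theorem sp_six {F V : Type} [Field F] [Finite F] [AddCommGroup V] [Module F V] [FiniteDimensional F V]
    (h2 : (2 : F) ≠ 0) {B : LinearMap.BilinForm F V} (hB : Alt B) (hN : Nond B) (h6 : Module.finrank F V = 6)
    {s r : F} (hgood : Good s r) (hirr : Irreducible (cu s r)) {ξ : (Fin 3 → F) ≃ₗ[F] (Fin 3 → F)}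
    (hξ : (LinearMap.toMatrix' (ξ : (Fin 3 → F) →ₗ[F] (Fin 3 → F))).charpoly = cu s r) {g : V ≃ₗ[F] V}
    (hg : Iso B g) (hns : ∀ c : F, ¬ ∀ v, g v = c • v) : TT B ξ ξ g := by
  obtain ⟨w, A, B', C', D, hw, hwg, hAd, hAs⟩ := exists_coord hB hN (n := 3) (by norm_num) (by rw [h6]) hg hns
    (Δ := 1) one_ne_zero
  obtain ⟨l, hl⟩ : ∃ l : Matrix.SpecialLinearGroup (Fin 3) F, (l : Matrix (Fin 3) (Fin 3) F) = A := ⟨⟨A, hAd⟩, rfl⟩
  have hfac := fac_three hgood hirr hξ l (fun a h => hAs a (by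
    rw [← hl, h, Matrix.scalar_apply, Matrix.smul_one_eq_diagonal]))
  have hS := sing_cubic hirr (aeval_of_toMatrix hξ)
  let iP : (Fin 3 → F) →ₗ[F] V := (w.symm : (Fin 3 ⊕ Fin 3 → F) →ₗ[F] V) ∘ₗ jl 3 F
  let iQ : (Fin 3 → F) →ₗ[F] V := (w.symm : (Fin 3 ⊕ Fin 3 → F) →ₗ[F] V) ∘ₗ jr 3 F
  have wP : ∀ a, w (iP a) = jl 3 F a := fun a => w.apply_symm_apply _
  have wQ : ∀ a, w (iQ a) = jr 3 F a := fun a => w.apply_symm_apply _
  have hi : Function.Injective iP := by
    intro a b h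
    have h1 := congrArg w h
    rw [wP, wP] at h1
    ext i
    exact congrFun h1 (Sum.inl i)
  have hP : Orth B (LinearMap.range iP) (LinearMap.range iP) := by
    rintro _ ⟨a, rfl⟩ _ ⟨b, rfl⟩
    rw [← hw, wP, wP, form_jl]
  have hQ : Orth B (LinearMap.range iQ) (LinearMap.range iQ) := by
    rintro _ ⟨a, rfl⟩ _ ⟨b, rfl⟩
    rw [← hw, wQ, wQ, form_jr]
  have hPQ : LinearMap.range iP ⊔ LinearMap.range iQ = ⊤ := by
    rw [eq_top_iff]
    intro v _
    have h1 : iP (w v ∘ Sum.inl) + iQ (w v ∘ Sum.inr) = v := by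
      apply w.injective
      rw [map_add, wP, wQ, jlr]
    rw [← h1]
    exact Submodule.add_mem_sup ⟨_, rfl⟩ ⟨_, rfl⟩
  let θ : LinearMap.range iP ≃ₗ[F] (Fin 3 → F) := (LinearEquiv.ofInjective iP hi).symm
  have hθ : ∀ a, (θ.symm a : V) = iP a := fun a => rfl
  refine tt_of_corner hB hN hP hQ hPQ hS hS (A := tr θ (Matrix.SpecialLinearGroup.toLin' l)) ?_ hg ?_
  · exact hfac.conj θ (fun v => by rw [tr_apply, θ.apply_symm_apply])
  · intro v
    obtain ⟨a, rfl⟩ := θ.symm.surjective v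
    rw [tr_apply, θ.apply_symm_apply, hθ, hθ]
    refine ⟨C'.mulVec a, ?_⟩
    apply w.injective
    rw [wQ, map_sub, hwg, wP, wP, jl_apply, jl_apply, jr_apply, Matrix.fromBlocks_mulVec,
      Matrix.SpecialLinearGroup.toLin'_apply, Matrix.toLin'_apply, hl]
    ext (i | i) <;> simp

end Cfsg.Agent.H744.TC
end
end

-- part: H7/TC/SpEightFin
section
/-!
# S2464, the row `PSp_8(q)`, `q` odd: the theorem (helper7)

`six_psp_eight` : there are `x, y` of order prime to `6` such that every `g ≠ 1` is a product of a conjugate of `x` and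
a conjugate of `y`.
-/

set_option autoImplicit false

namespace Cfsg.Agent.H7.TC

open Cfsg

end Cfsg.Agent.H7.TC
end

-- part: H7/TC/SpEightP
section
/-!
# S2452, the row `PSp_8(q)`, `q` odd: one class of prime order (helper7)
-/

set_option autoImplicit false
open Polynomial

noncomputable section

namespace Cfsg.Agent.H7.TC

open Cfsg Cfsg.Agent.H144 Cfsg.Agent.H144.War Cfsg.Agent.H144.TC Cfsg.Agent.H538.TC Cfsg.Agent.H955
  Cfsg.Agent.ClassicalGeometry.SympBasic
open Cfsg.Agent.H126.M3 (cu)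

theorem exists_cls_prime {F : Type} [Field F] [Finite F] (h2 : (2 : F) ≠ 0) :
    ∃ (c : Matrix.SpecialLinearGroup (Fin 3) F) (s r : F), Good s r ∧
    (c : Matrix (Fin 3) (Fin 3) F).charpoly = cu s r ∧ Irreducible (cu s r) ∧ (orderOf c).Prime ∧
      (orderOf c).Coprime 6 := by
  have : Fintype F := Fintype.ofFinite F
  have h0 := Nat.cast_card_eq_zero F
  rw [← Nat.card_eq_fintype_card] at h0
  have h1 : 1 < Nat.card F := Finite.one_lt_card
  have hc2 : Nat.card F ≠ 2 := by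
    intro h
    rw [h] at h0
    exact h2 (by exact_mod_cast h0)
  have hc4 : Nat.card F ≠ 4 := by
    intro h
    rw [h] at h0
    have h5 : (2 : F) * 2 = 0 := by
      have h6 : ((4 : ℕ) : F) = 4 := by norm_num
      rw [h6] at h0
      linear_combination h0
    exact h2 (mul_self_eq_zero.1 h5)
  by_cases h3 : Nat.card F = 3
  · obtain ⟨c, hc, h4, h5, -⟩ := exists_class_three h3
    exact ⟨c, 1, -1, good_three (by rw [← Nat.card_eq_fintype_card, h3]), hc, hc ▸ h4, by rw [h5]; norm_num,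
      by rw [h5]; norm_num⟩
  · obtain ⟨z, hz, z1, z2, z3⟩ := exists_z (F := F) (by rw [← Nat.card_eq_fintype_card]; omega)
    obtain ⟨s', hs', h6', hs1'⟩ := exists_s (q := Nat.card F) (by omega)
    obtain ⟨s, hsp, hss⟩ := Nat.exists_prime_and_dvd hs1'
    obtain ⟨c, hc, ho, -⟩ := exists_class (by omega) (hss.trans hs') (Nat.Coprime.coprime_dvd_left hss h6')
      hsp.one_lt.ne'
    have e := Cfsg.Agent.H538.TC.charpoly_of c.2 rfl rfl
    exact ⟨c, _, _, good_of hz z1 z2 z3 _ _, e, e ▸ hc, by rw [ho]; exact hsp,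
      by rw [ho]; exact Nat.Coprime.coprime_dvd_left hss h6'⟩

/-- **from isometries to `PSp`**, one class -/
theorem sq_of_tt {F M : Type} [Field F] [Finite F] [AddCommGroup M] [Module F M] {m : ℕ} [FiniteDimensional F M]
    (η : M ≃ₗ[F] M) (hM : Module.finrank F M = m) (hηs : ∀ c : F, ¬ ∀ v, η v = c • v) {N : ℕ} (hη : η ^ N = 1)
    (hT : ∀ g : (Fin m ⊕ Fin m → F) ≃ₗ[F] (Fin m ⊕ Fin m → F), Iso (sympBilin m F) g →
      (∀ c : F, ¬ ∀ v, g v = c • v) → TT (sympBilin m F) η η g ∨ TT (sympBilin m F) η η (ng g)) :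
    ∃ x : PSp m F, x ^ N = 1 ∧ x ≠ 1 ∧
      ∀ g : PSp m F, g ≠ 1 → ∃ u v : PSp m F, g = (u * x * u⁻¹) * (v * x * v⁻¹) := by
  have hS := isSp_sympBilin m F
  have hV : Module.finrank F (Fin m ⊕ Fin m → F) = 2 * m := by
    rw [Module.finrank_fintype_fun_eq_card, Fintype.card_sum, Fintype.card_fin]
    ring
  have hB : Alt (sympBilin m F) := hS.alt
  have hN : Nond (sympBilin m F) := hS.nd
  obtain ⟨X₀, hX₀, hX₀N⟩ := exists_type hB hN η (by rw [hV, hM]) hη
  refine ⟨AH.pj m F ⟨X₀, hX₀.1⟩, ?_, ?_, fun t ht => ?_⟩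
  · rw [← map_pow]
    have : (⟨X₀, hX₀.1⟩ : AH.Gm m F) ^ N = 1 := Subtype.ext hX₀N
    rw [this, map_one]
  · rw [Ne, AH.pj_eq_one_iff]
    rintro ⟨c, hc⟩
    have hc' : ∀ v, X₀ v = c • v := hc
    obtain ⟨-, P, Q, -, -, -, -, φ, hφ⟩ := id hX₀
    refine hηs c fun v => ?_
    have h1 := hφ (φ.symm v)
    have h2 := hc' (φ.symm v : P)
    rw [h1, Cfsg.Agent.H144.War.tr_apply, φ.apply_symm_apply] at h2
    have h3 : φ.symm (η v) = c • φ.symm v := Subtype.ext h2
    rw [← map_smul] at h3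
    exact φ.symm.injective h3
  obtain ⟨g, rfl⟩ := AH.pj_surj t
  have key : ∀ g' : AH.Gm m F, TT (sympBilin m F) η η g'.1 → ∃ u v : PSp m F, AH.pj m F g' =
      (u * AH.pj m F ⟨X₀, hX₀.1⟩ * u⁻¹) * (v * AH.pj m F ⟨X₀, hX₀.1⟩ * v⁻¹) := by
    rintro g' ⟨X, Z, hX, hZ, hXZ⟩
    obtain ⟨u, hu, hXu⟩ := hX₀.unique hB hN hX
    obtain ⟨v, hv, hZv⟩ := hX₀.unique hB hN hZ
    refine ⟨AH.pj m F ⟨u, hu⟩, AH.pj m F ⟨v, hv⟩, ?_⟩
    rw [← map_inv, ← map_inv, ← map_mul, ← map_mul, ← map_mul, ← map_mul, ← map_mul]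
    congr 1
    apply Subtype.ext
    rw [hXZ, hXu, hZv]
    rfl
  rcases hT g.1 g.2 (fun c hc => ht (AH.pj_eq_one_iff.2 ⟨c, hc⟩)) with h | h
  · exact key g h
  · have h1 : AH.pj m F (⟨ng g.1, ng_iso g.2⟩ * g⁻¹) = 1 := by
      rw [AH.pj_eq_one_iff]
      refine ⟨-1, fun v => ?_⟩
      rw [neg_one_smul]
      change ng g.1 (g.1⁻¹ v) = -v
      rw [ng_apply, app_inv]
    rw [map_mul, map_inv, mul_inv_eq_one] at h1
    rw [← h1]
    exact key _ h

/-- **`PSp_8(q)`, `q` odd**: one class of prime order `≥ 5` -/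
theorem prime_psp_eight (F : Type) [Field F] [Finite F] (h2 : (2 : F) ≠ 0) :
    ∃ x : PSp 4 F, (orderOf x).Prime ∧ Nat.Coprime (orderOf x) 6 ∧
      ∀ g : PSp 4 F, g ≠ 1 → ∃ u v : PSp 4 F, g = (u * x * u⁻¹) * (v * x * v⁻¹) := by
  obtain ⟨c, s, r, hgood, hc, hirr, hop, ho⟩ := exists_cls_prime h2
  obtain ⟨ξ, hξ, hξN, hξ1⟩ : ∃ ξ : (Fin 3 → F) ≃ₗ[F] (Fin 3 → F),
      (LinearMap.toMatrix' (ξ : (Fin 3 → F) →ₗ[F] (Fin 3 → F))).charpoly = cu s r ∧ ξ ^ (orderOf c) = 1 ∧ ξ ≠ 1 := by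
    refine ⟨Matrix.SpecialLinearGroup.toLin' c, ?_, ?_, ?_⟩
    · rw [Matrix.SpecialLinearGroup.toLin'_to_linearMap, LinearMap.toMatrix'_toLin', hc]
    · rw [← map_pow, pow_orderOf_eq_one, map_one]
    · intro h
      rw [← map_one (Matrix.SpecialLinearGroup.toLin' (n := Fin 3) (R := F))] at h
      have h1 := Matrix.SpecialLinearGroup.toLin'_injective h
      rw [h1, orderOf_one] at hop
      exact Nat.not_prime_one hop
  have hM : Module.finrank F (Fin 3 → F) = 3 := by simp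
  have hS := isSp_sympBilin 4 F
  have hV : Module.finrank F (Fin 4 ⊕ Fin 4 → F) = 8 := by
    rw [Module.finrank_fintype_fun_eq_card, Fintype.card_sum, Fintype.card_fin]
  obtain ⟨x, hx, hx1, h⟩ := sq_of_tt (m := 4) (N := orderOf c) (s1 ξ)
    (by rw [Module.finrank_prod, Module.finrank_self, hM]) (fun a ha => hξ1 (by
      have e1 := ha (0, 1)
      rw [s1_apply] at e1
      have e2 : (1 : F) = a := by simpa using congrArg Prod.snd e1
      subst e2
      ext v : 1
      have e3 := ha (v, 0)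
      rw [s1_apply, one_smul] at e3
      exact congrArg Prod.fst e3)) (by rw [s1_pow, hξN]; rfl) fun g hg hns =>
    tt_eight h2 hS.alt hS.nd hV hM
      (fun _ _ _ _ _ hB hN h6 _ hg hns => Cfsg.Agent.H744.TC.sp_six h2 hB hN h6 hgood hirr hξ hg hns)
      (fun X hX => Cfsg.Agent.H930.TC.hasType_swap hS.alt hS.nd hirr hξ hX)
      (Cfsg.Agent.H930.TC.sing_three hirr hξ) (Cfsg.Agent.H930.TC.eval_one_ne hirr)
      (Cfsg.Agent.H930.TC.eval_one_ne' hirr) hg hns
  have hox : orderOf x = orderOf c := by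
    rcases (Nat.dvd_prime hop).1 (orderOf_dvd_of_pow_eq_one hx) with h1 | h1
    · exact absurd (orderOf_eq_one_iff.1 h1) hx1
    · exact h1
  exact ⟨x, by rw [hox]; exact hop, by rw [hox]; exact ho, h⟩

theorem pp_psp_eight (F : Type) [Field F] [Finite F] (h2 : (2 : F) ≠ 0) : H494.TC.PP (PSp 4 F) :=
  prime_psp_eight F h2

end Cfsg.Agent.H7.TC
end
end

-- part: H144/TC/RowFour
section
/-!
# S2452: the row `PSp_2m(q)`, `q` odd, `4 ∣ m`, `m ≥ 8`

* `tt_mixgp` : a good pair on `R`, a mixed corner on `S`, `V = R ⊥ S`.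
* `tt_of_plane` : `g = 1` on a plane.
* `tt_or` : `g` or `-g` is a product of two isometries of type `ξ ⊕ 1`.
* `pp_psp_four`, `row3_psp_four`; `pp_psp_odd`, `row3_psp_odd` (all `m ≥ 3`).
-/

set_option autoImplicit false
open Polynomial

noncomputable section

namespace Cfsg.Agent.H144.TC

open Cfsg Cfsg.Agent.H144 Cfsg.Agent.H144.War Cfsg.Agent.H843.TC6

section

variable {F V K : Type} [Field F] [AddCommGroup V] [Module F V] [FiniteDimensional F V] [Field K] [Algebra F K]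
  [FiniteDimensional F K]

theorem swap_tt {s : ℕ} {ξ : K} (hξ : Gx F s ξ) {B : LinearMap.BilinForm F V} (hB : Alt B) (hN : Nond B)
    {g : V ≃ₗ[F] V} (h : TT B (s1 (mu F ξ hξ.1)) (s1 (mu F ξ hξ.1)⁻¹) g) :
    TT B (s1 (mu F ξ hξ.1)) (s1 (mu F ξ hξ.1)) g := by
  obtain ⟨h0, hfr, hdeg, -, -⟩ := id hξ
  obtain ⟨X, Z, hX, hZ, e⟩ := h
  exact ⟨X, Z, hX, Cfsg.Agent.H930.TC.hasType_swap1_of hB hN
    (minpoly.irreducible (Algebra.IsIntegral.isIntegral (R := F) ξ)) (aeval_mu ξ h0) (hfr.trans hdeg.symm) hZ, e⟩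

theorem tt_mixgp (h2 : (2 : F) ≠ 0) {s c a b : ℕ} {ξ : K} (hξ : Gx F s ξ) (e1 : (minpoly F ξ).eval 1 ≠ 0)
    (e1' : (minpoly F ξ⁻¹).eval 1 ≠ 0) {B : LinearMap.BilinForm F V} (hB : Alt B) (hN : Nond B) {g : V ≃ₗ[F] V}
    (hg : Iso B g) {R S : Submodule F V} (hRS : Orth B R S) (hR : Nd B R) (htop : R ⊔ S = ⊤) (hGP : GP B g R)
    (hM : Mix B g a b S) (hb : Even b) (hRf : Module.finrank F R = 2 * c) (hc2 : 2 ≤ c) (hs : c + a + b = s + 1)
    (hV : Module.finrank F V = 2 * (s + 1)) : TT B (s1 (mu F ξ hξ.1)) (s1 (mu F ξ hξ.1)) g := by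
  obtain ⟨P, Q, ⟨hP, hQ, hPQ, hc⟩, p, hp, q, hq, hpq, hgp, hgq⟩ := hGP
  obtain ⟨U, W, Q', k1, k2, k3, k4, k5, k6, k7⟩ := hM
  have hPR : P ≤ R := by rw [← hPQ]; exact le_sup_left
  have hQR : Q ≤ R := by rw [← hPQ]; exact le_sup_right
  have hUWS : U ⊔ W ≤ S := by rw [← k3]; exact le_sup_left
  have hQS : Q' ≤ S := by rw [← k3]; exact le_sup_right
  have hPf := finrank_lag hB hR hP hQ hPQ
  apply swap_tt hξ hB hN
  refine tt_core h2 hξ e1 e1' hB hN hg (a := c + a - 1) (b := b) (by (clear * - hc2; omega)) hb (by (clear * - hc2 hs; omega)) (U := P ⊔ U) (W := W)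
    (Q := Q ⊔ Q') ?_ ?_ ?_ ?_ k5 ?_ ?_ hV (Submodule.mem_sup_left hp) (Submodule.mem_sup_left hq) hpq ?_ hgp hgq
  · rw [sup_assoc]
    exact isotropic_sup hB hP k1 (fun x hx y hy => hRS x (hPR hx) y (hUWS hy))
  · exact isotropic_sup hB hQ k2 (fun x hx y hy => hRS x (hQR hx) y (hQS hy))
  · rw [sup_assoc P U W, sup_sup_sup_comm, hPQ, k3, htop]
  · rw [finrank_sup_of_orth hB hRS hR hPR (le_sup_left.trans hUWS), k4]
    omega
  · intro v hv
    obtain ⟨x, hx, y, hy, rfl⟩ := Submodule.mem_sup.1 hv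
    have : g (x + y) - (x + y) = (g x - x) + (g y - y) := by rw [map_add]; abel
    rw [this]
    exact Submodule.add_mem_sup (hc x hx) (k6 y hy)
  · intro v hv
    exact Submodule.mem_sup_right (k7 v hv)
  · intro w hw
    exact hB.zero (hRS q (hQR hq) w (hUWS (Submodule.mem_sup_right hw)))

theorem gp_on [Finite F] (h2 : (2 : F) ≠ 0) {B : LinearMap.BilinForm F V} (hB : Alt B) {g : V ≃ₗ[F] V} (hg : Iso B g)
    {R : Submodule F V} (hR : Nd B R) (hI : Inv g R) {d : ℕ} (hd : 4 ≤ d) (hf : Module.finrank F R = 2 * d)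
    (hc : C1On B g R) : GP B g R := by
  obtain ⟨P, Q, h1, h3, h4, h5⟩ := hc
  have hPR : P ≤ R := by rw [← h4]; exact le_sup_left
  have hQR : Q ≤ R := by rw [← h4]; exact le_sup_right
  obtain ⟨P₁, Q₁, ⟨k1, k2, k3, k4⟩, p, hp, q, hq, k5, k6, k7⟩ := Cfsg.Agent.H930.SpE.good_pair (V := R) h2
    (restrict_alt hB R) (restrict_nond hR) (gr_iso hg R hI) hd hf
    ⟨P.comap R.subtype, Q.comap R.subtype, fun x hx y hy => h1 x hx y hy, fun x hx y hy => h3 x hx y hy, by
      rw [eq_top_iff]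
      intro v _
      have hv : (v : V) ∈ P ⊔ Q := by rw [h4]; exact v.2
      obtain ⟨x, hx, q, hq, hxq⟩ := Submodule.mem_sup.1 hv
      have e1 : v = (⟨x, hPR hx⟩ : R) + ⟨q, hQR hq⟩ := Subtype.ext hxq.symm
      rw [e1]
      exact Submodule.add_mem_sup hx hq, fun v hv => h5 v hv⟩
  refine ⟨P₁.map R.subtype, Q₁.map R.subtype, ⟨?_, ?_, ?_, ?_⟩, p, ⟨p, hp, rfl⟩, q, ⟨q, hq, rfl⟩, k5, k6, k7⟩
  · rintro _ ⟨x, hx, rfl⟩ _ ⟨y, hy, rfl⟩
    exact k1 x hx y hy
  · rintro _ ⟨x, hx, rfl⟩ _ ⟨y, hy, rfl⟩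
    exact k2 x hx y hy
  · rw [← Submodule.map_sup, k3, Submodule.map_subtype_top]
  · rintro _ ⟨x, hx, rfl⟩
    exact ⟨_, k4 x hx, rfl⟩

theorem type_of_lt {s : ℕ} {ξ : K} (hξ : Gx F s ξ) {B : LinearMap.BilinForm F V} (hB : Alt B) (hN : Nond B)
    (hV : Module.finrank F V = 2 * s) {X : V ≃ₗ[F] V} (hX : _root_.Cfsg.Agent.H843.TC6.LT B (minpoly F ξ) X) : HasType B (mu F ξ hξ.1) X := by
  obtain ⟨h0, hK, hdeg, -, -⟩ := id hξ
  obtain ⟨hI, P, Q, hP, hQ, hPQ, hXP, hXQ, hf⟩ := hX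
  have hPf := finrank_two hB hN hP hQ hPQ
  have h3 : aeval ((gr X P hXP : P ≃ₗ[F] P) : Module.End F P) (minpoly F ξ) = 0 := by
    ext v
    have h4 := aeval_restrict (X := (X : Module.End F V)) (x := ((gr X P hXP : P ≃ₗ[F] P) : Module.End F P))
      (fun v => rfl) (minpoly F ξ) v
    rw [← h4, hf v v.2]
    rfl
  obtain ⟨φ, hφ⟩ := exists_equiv (ξ := ξ) (hdeg.trans hK.symm) (P := P) (P' := K) (by omega) h3 (aeval_mu ξ h0)
  refine ⟨hI, P, Q, hP, hQ, hPQ, hXQ, φ, fun v => ?_⟩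
  have h5 : tr φ (mu F ξ h0) v = gr X P hXP v := by
    rw [tr_apply, LinearEquiv.symm_apply_eq]
    exact (hφ v).symm
  rw [h5]
  rfl

theorem tt_of_plane [Finite F] {s : ℕ} {ξ : K} (hξ : Gx F s ξ) {B : LinearMap.BilinForm F V} (hB : Alt B)
    {H T : Submodule F V} (hTH : Orth B T H) (hT : Nd B T) (hH : Nd B H) (htop : T ⊔ H = ⊤)
    (hH2 : Module.finrank F H = 2) (hTf : Module.finrank F T = 2 * s) {g : V ≃ₗ[F] V} (hI : Inv g T)
    (h1 : ∀ v ∈ H, g v = v) (h : _root_.Cfsg.Agent.H843.TC6.CC (B.restrict T) (minpoly F ξ) (gr g T hI)) :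
    TT B (s1 (mu F ξ hξ.1)) (s1 (mu F ξ hξ.1)) g := by
  obtain ⟨X, Z, hX, hZ, e⟩ := h
  have hc : IsCompl T H := ⟨disjoint_of_orth hB hTH hT, codisjoint_iff.2 htop⟩
  exact Cfsg.Agent.H7.TC.tt_plane hB hTH hc hH hH2 hI h1
    ⟨X, Z, type_of_lt hξ (restrict_alt hB T) (restrict_nond hT) hTf hX,
      type_of_lt hξ (restrict_alt hB T) (restrict_nond hT) hTf hZ, e⟩

/-- the plane in `R` -/
theorem plane_of {B : LinearMap.BilinForm F V} (hB : Alt B) {R S : Submodule F V} (hRS : Orth B R S) (hR : Nd B R)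
    (hS : Nd B S) (htop : R ⊔ S = ⊤) {a b : ℕ} (ha : 1 ≤ a) (hRf : Module.finrank F R = 2 * a)
    (hSf : Module.finrank F S = 2 * b) :
    ∃ H R0 : Submodule F V, H ≤ R ∧ R0 ≤ R ∧ Nd B H ∧ Nd B R0 ∧ Module.finrank F H = 2 ∧
      Module.finrank F R0 = 2 * (a - 1) ∧ Orth B (R0 ⊔ S) H ∧ Nd B (R0 ⊔ S) ∧ R0 ⊔ S ⊔ H = ⊤ ∧ Orth B R0 S ∧
      Module.finrank F ↥(R0 ⊔ S) = 2 * (a - 1 + b) := by
  obtain ⟨H, hHR, hHN, hHf⟩ := exists_sub hB hR hRf 1 ha
  obtain ⟨R0, hR0, o, hsup, hR0N, hf, -⟩ := split_off hB hHR hHN hR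
  have o1 : Orth B R0 S := fun x hx y hy => hRS x (hR0 hx) y hy
  have o2 : Orth B (R0 ⊔ S) H := by
    intro x hx y hy
    obtain ⟨a, ha, b, hb, rfl⟩ := Submodule.mem_sup.1 hx
    rw [map_add, LinearMap.add_apply, hB.zero (o y hy a ha), hB.zero (hRS y (hHR hy) b hb), add_zero]
  have hR0f : Module.finrank F R0 = 2 * (a - 1) := by omega
  refine ⟨H, R0, hHR, hR0, hHN, hR0N, by omega, hR0f, o2, Nd.sup hB o1 hR0N hS, ?_, o1, ?_⟩
  · rw [sup_comm (R0 ⊔ S) H, ← sup_assoc, hsup, htop]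
  · rw [finrank_sup_of_orth hB o1 hR0N le_rfl le_rfl, hR0f, hSf]
    ring

variable [Finite F]

theorem L_two (h2 : (2 : F) ≠ 0) {s a b : ℕ} {ξ : K} (hξ : Gx F s ξ) {B : LinearMap.BilinForm F V} (hB : Alt B)
    {g : V ≃ₗ[F] V} (hg : Iso B g) {R S : Submodule F V} (hRS : Orth B R S) (hR : Nd B R)
    (hS : Nd B S) (htop : R ⊔ S = ⊤) (ha : 1 ≤ a) (hb : Odd b) (hRf : Module.finrank F R = 2 * a)
    (hSf : Module.finrank F S = 2 * b) (hIS : Inv g S) (hab : a + b = s + 1) (h1 : ∀ v ∈ R, g v = v)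
    (hcS : C1On B (ng g) S) (h3 : ¬ ∀ v ∈ S, ng g v = v) : TT B (s1 (mu F ξ hξ.1)) (s1 (mu F ξ hξ.1)) g := by
  obtain ⟨H, R0, hHR, hR0, hHN, hR0N, hH2, hR0f, o2, hTN, htopT, o1, hTf⟩ := plane_of hB hRS hR hS htop ha hRf hSf
  obtain ⟨d, rfl⟩ := hb
  have hIT : Inv g (R0 ⊔ S) := Inv.sup (fun v hv => by rw [h1 v (hR0 hv)]; exact hv) hIS
  have m1 : Mix B g (a - 1) 0 R0 := mix_of_c1On hB hR0N hR0f (exists_lag hB hR0N hg (fun v hv => h1 v (hR0 hv)))
  have m3 := (H140.War.reflection h2 hB (ng_iso hg) hS (inv_ng hIS) hSf hcS h3).ng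
  rw [ng_ng] at m3
  have m4 := mix_restrict hIT (Mix.sup hB o1 hR0N m1 m3)
  refine tt_of_plane hξ hB o2 hTN hHN htopT hH2 (by rw [hTf]; omega) hIT (fun v hv => h1 v (hHR hv)) ?_
  exact cc_mix h2 hξ (n := s) (Or.inl rfl) (restrict_alt hB _) (restrict_nond hTN) (by omega)
    (by rw [zero_add]; exact even_two_mul d) (by omega) (by rw [hTf]; (clear * - ha hab; omega)) (gr_iso hg _ hIT) m4

theorem L_three (h2 : (2 : F) ≠ 0) {s a b : ℕ} {ξ : K} (hξ : Gx F s ξ) {B : LinearMap.BilinForm F V} (hB : Alt B)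
    {g : V ≃ₗ[F] V} (hg : Iso B g) {R S : Submodule F V} (hRS : Orth B R S) (hR : Nd B R)
    (hS : Nd B S) (htop : R ⊔ S = ⊤) (hb : Odd b) (hba : b + 2 ≤ a) (hRf : Module.finrank F R = 2 * a)
    (hSf : Module.finrank F S = 2 * b) (hab : a + b = s + 1) (h1 : ∀ v ∈ R, g v = v)
    (h3 : ∀ v ∈ S, g v = -v) : TT B (s1 (mu F ξ hξ.1)) (s1 (mu F ξ hξ.1)) g := by
  obtain ⟨H, R0, hHR, hR0, hHN, hR0N, hH2, hR0f, o2, hTN, htopT, o1, hTf⟩ :=
    plane_of hB hRS hR hS htop (by omega) hRf hSf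
  obtain ⟨d, rfl⟩ := hb
  have hIS : Inv g S := fun v hv => by rw [h3 v hv]; exact S.neg_mem hv
  have hIT : Inv g (R0 ⊔ S) := Inv.sup (fun v hv => by rw [h1 v (hR0 hv)]; exact hv) hIS
  refine tt_of_plane hξ hB o2 hTN hHN htopT hH2 (by rw [hTf]; (clear * - hba hab; omega)) hIT (fun v hv => h1 v (hHR hv)) ?_
  refine cc_j h2 hξ (r := a - 2) (d := 2 * d) (even_two_mul d) (by omega) (by omega) (restrict_alt hB _)
    (restrict_nond hTN) (gr_iso hg _ hIT) (R' := R0.comap (R0 ⊔ S).subtype) (R₁ := S.comap (R0 ⊔ S).subtype)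
    ?_ ?_ ?_ ?_ (fun x hx y hy => o1 x hx y hy) ?_ ?_ ?_
  · rw [(Submodule.comapSubtypeEquivOfLe le_sup_left).finrank_eq, hR0f]; (clear * - hba; omega)
  · rw [(Submodule.comapSubtypeEquivOfLe le_sup_right).finrank_eq, hSf]
  · intro v hv h0
    exact Subtype.ext (hR0N v hv fun w hw => h0 ⟨w, Submodule.mem_sup_left hw⟩ hw)
  · intro v hv h0
    exact Subtype.ext (hS v hv fun w hw => h0 ⟨w, Submodule.mem_sup_right hw⟩ hw)
  · rw [eq_top_iff]
    intro v _
    obtain ⟨x, hx, y, hy, hxy⟩ := Submodule.mem_sup.1 v.2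
    have e1 : v = (⟨x, Submodule.mem_sup_left hx⟩ : ↥(R0 ⊔ S)) + ⟨y, Submodule.mem_sup_right hy⟩ :=
      Subtype.ext hxy.symm
    rw [e1]
    exact Submodule.add_mem_sup hx hy
  · intro v hv
    exact Subtype.ext (h1 v (hR0 hv))
  · intro v hv
    exact Subtype.ext (h3 v hv)

/-- **the isometries** -/
theorem tt_or (h2 : (2 : F) ≠ 0) {s : ℕ} {ξ : K} (hξ : Gx F s ξ) (h4 : 4 ∣ s + 1) (h7 : 7 ≤ s)
    (e1 : (minpoly F ξ).eval 1 ≠ 0) (e1' : (minpoly F ξ⁻¹).eval 1 ≠ 0) {B : LinearMap.BilinForm F V} (hB : Alt B)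
    (hN : Nond B) (hV : Module.finrank F V = 2 * (s + 1)) {g : V ≃ₗ[F] V} (hg : Iso B g) :
    TT B (s1 (mu F ξ hξ.1)) (s1 (mu F ξ hξ.1)) g ∨ TT B (s1 (mu F ξ hξ.1)) (s1 (mu F ξ hξ.1)) (ng g) := by
  have hTN : Nd B ⊤ := fun v _ h => hN v (fun w => h w trivial)
  obtain ⟨R, S, o, iR, iS, nR, nS, hsup, hcR, hcS, -⟩ := exists_split hB hg _ ⊤ (fun v _ => trivial) hTN rfl
  obtain ⟨a, ha⟩ : ∃ a, Module.finrank F R = 2 * a := by
    obtain ⟨P, Q, k1, k2, k3, k4⟩ := hcR
    exact ⟨_, finrank_lag hB nR k1 k2 k3⟩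
  obtain ⟨b, hb⟩ : ∃ b, Module.finrank F S = 2 * b := by
    obtain ⟨P, Q, k1, k2, k3, k4⟩ := hcS
    exact ⟨_, finrank_lag hB nS k1 k2 k3⟩
  have hab : a + b = s + 1 := by
    have h3 := finrank_sup_of_orth hB o nR le_rfl le_rfl
    rw [hsup, finrank_top, hV, ha, hb] at h3
    omega
  have hgn := ng_iso hg
  have o' : Orth B S R := o.symm hB
  have hsup' : S ⊔ R = ⊤ := by rw [sup_comm]; exact hsup
  have hcR' : C1On B (ng (ng g)) R := by rw [ng_ng]; exact hcR
  have m1 : Mix B g a 0 R := mix_of_c1On hB nR ha hcR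
  have m2 : Mix B (ng g) b 0 S := mix_of_c1On hB nS hb hcS
  have m1' : Mix B (ng g) 0 a R := m1.ng
  have m2' : Mix B g 0 b S := by
    have := m2.ng
    rwa [ng_ng] at this
  rcases Nat.even_or_odd b with hev | hob
  · -- even
    have hea : Even a := by
      rcases Nat.even_or_odd a with h | h
      · exact h
      · exfalso
        obtain ⟨c, hc⟩ := h
        obtain ⟨d, hd⟩ := hev
        omega
    rcases le_total b a with h | h
    · left
      exact tt_mixgp h2 hξ e1 e1' hB hN hg o nR hsup (gp_on h2 hB hg nR iR (by omega) ha hcR) m2' hev ha (by omega)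
        (by omega) hV
    · right
      exact tt_mixgp h2 hξ e1 e1' hB hN hgn o' nS hsup' (gp_on h2 hB hgn nS (inv_ng iS) (by omega) hb hcS) m1' hea hb
        (by omega) (by omega) hV
  have hoa : Odd a := by
    rcases Nat.even_or_odd a with h | h
    · exfalso
      obtain ⟨c, hc⟩ := h
      obtain ⟨d, hd⟩ := hob
      omega
    · exact h
  have hne : a ≠ b := by
    rintro rfl
    obtain ⟨c, rfl⟩ := hoa
    omega
  by_cases hS1 : ∀ v ∈ S, ng g v = v
  · by_cases hR1 : ∀ v ∈ R, g v = v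
    · have hS1' : ∀ v ∈ S, g v = -v := by
        intro v hv
        have := hS1 v hv
        rw [ng_apply] at this
        rw [← this, neg_neg, this]
      have hR1' : ∀ v ∈ R, ng g v = -v := by
        intro v hv
        rw [ng_apply, hR1 v hv]
      obtain ⟨c, hc⟩ := id hoa
      obtain ⟨d, hd⟩ := id hob
      rcases Nat.lt_or_ge b a with h | h
      · left
        exact L_three h2 hξ hB hg o nR nS hsup hob (by (clear * - hc hd h; omega)) ha hb hab hR1 hS1'
      · right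
        exact L_three h2 hξ hB hgn o' nS nR hsup' hoa (by (clear * - h4 hab hd h; omega)) hb ha (by omega) hS1 hR1'
    · right
      exact L_two h2 hξ hB hgn o' nS nR hsup' hob.pos hoa hb ha (inv_ng iR) (by omega) hS1 hcR'
        (by rw [ng_ng]; exact hR1)
  · obtain ⟨d, hd⟩ := id hob
    obtain ⟨c, hc⟩ := id hoa
    rcases Nat.lt_or_ge a 4 with h | h
    · by_cases hR1 : ∀ v ∈ R, g v = v
      · left
        exact L_two h2 hξ hB hg o nR nS hsup (by (clear * - hc; omega)) hob ha hb iS hab hR1 hcS hS1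
      · right
        subst hc
        have m3 := (H140.War.reflection h2 hB hg nR iR ha hcR hR1).ng
        exact tt_mixgp h2 hξ e1 e1' hB hN hgn o' nS hsup' (gp_on h2 hB hgn nS (inv_ng iS) (by (clear * - h7 hab h; omega)) hb hcS) m3
          (even_two_mul c) hb (by (clear * - h7 hab h; omega)) (by (clear * - hab; omega)) hV
    · left
      subst hd
      have m3 := (H140.War.reflection h2 hB hgn nS (inv_ng iS) hb hcS hS1).ng
      rw [ng_ng] at m3
      exact tt_mixgp h2 hξ e1 e1' hB hN hg o nR hsup (gp_on h2 hB hg nR iR h ha hcR) m3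
        (even_two_mul d) ha (by omega) (by (clear * - hab; omega)) hV

end

theorem eval_ne {F K : Type} [Field F] [Field K] [Algebra F K] [FiniteDimensional F K] {η : K} (h : η ≠ 1) :
    (minpoly F η).eval 1 ≠ 0 := by
  intro h0
  have h1 := minpoly.root (Algebra.IsIntegral.isIntegral (R := F) η) (y := 1) h0
  rw [map_one] at h1
  exact h h1.symm

theorem mu_pow {F K : Type} [Field F] [Field K] [Algebra F K] {ξ : K} (h0 : ξ ≠ 0) {r : ℕ} (h : ξ ^ r = 1) :
    (mu F ξ h0) ^ r = 1 := by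
  have h1 : ∀ (k : ℕ) (v : K), ((mu F ξ h0) ^ k) v = ξ ^ k * v := by
    intro k
    induction k with
    | zero => intro v; rw [pow_zero, pow_zero, one_mul]; rfl
    | succ k ih =>
      intro v
      rw [pow_succ, LinearEquiv.mul_apply, ih, mu_apply, pow_succ, mul_assoc]
  ext v
  rw [h1, h, one_mul]
  rfl

open Cfsg.Agent.H955 Cfsg.Agent.ClassicalGeometry.SympBasic in
theorem psp_prime_four {m : ℕ} (h4 : 4 ∣ m) (h8 : 8 ≤ m) (F : Type) [Field F] [Finite F] (h2 : (2 : F) ≠ 0) :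
    ∃ x : PSp m F, (orderOf x).Prime ∧ Nat.Coprime (orderOf x) 6 ∧
      ∀ g : PSp m F, g ≠ 1 → ∃ u v : PSp m F, g = (u * x * u⁻¹) * (v * x * v⁻¹) := by
  obtain ⟨s, rfl⟩ : ∃ s, m = s + 1 := ⟨m - 1, by omega⟩
  have hso : Odd s := by
    obtain ⟨c, hc⟩ := h4
    exact ⟨2 * c - 1, by omega⟩
  obtain ⟨r, hr, hr6, K, _, _, _, ξ, hξ, hξr⟩ := H311.TC6.xi_odd F (s := s) (by omega) hso
  have hG : Gx F s ξ := hξ
  have hξ1 : ξ ≠ 1 := by
    rintro rfl
    have h1 := hG.2.2.1
    rw [minpoly.one, show (X - 1 : F[X]) = X - C 1 by simp, natDegree_X_sub_C] at h1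
    omega
  have hξ1' : ξ⁻¹ ≠ 1 := fun h => hξ1 (inv_eq_one.1 h)
  have hS := isSp_sympBilin (s + 1) F
  have hV : Module.finrank F (Fin (s + 1) ⊕ Fin (s + 1) → F) = 2 * (s + 1) := by
    rw [Module.finrank_fintype_fun_eq_card, Fintype.card_sum, Fintype.card_fin]
    ring
  obtain ⟨x, hx, hx1, h⟩ := Cfsg.Agent.H7.TC.sq_of_tt (m := s + 1) (N := r) (s1 (mu F ξ hG.1))
    (by rw [Module.finrank_prod, Module.finrank_self, hG.2.1]) (fun a ha => hξ1 (by
      have e1 := ha (0, 1)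
      rw [s1_apply] at e1
      have e2 : (1 : F) = a := by simpa using congrArg Prod.snd e1
      subst e2
      have e3 := ha (1, 0)
      rw [s1_apply, one_smul, mu_apply, mul_one] at e3
      exact congrArg Prod.fst e3)) (by
        rw [Cfsg.Agent.H7.TC.s1_pow, mu_pow hG.1 hξr]; rfl) fun g hg _ =>
    tt_or h2 hG h4 (by omega) (eval_ne hξ1) (eval_ne hξ1') hS.alt hS.nd hV hg
  have hox : orderOf x = r := by
    rcases (Nat.dvd_prime hr).1 (orderOf_dvd_of_pow_eq_one hx) with h1 | h1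
    · exact absurd (orderOf_eq_one_iff.1 h1) hx1
    · exact h1
  exact ⟨x, by rw [hox]; exact hr, by rw [hox]; exact hr6, h⟩

theorem pp_psp_four {m : ℕ} (h4 : 4 ∣ m) (h8 : 8 ≤ m) (F : Type) [Field F] [Finite F] (h2 : (2 : F) ≠ 0) :
    H494.TC.PP (PSp m F) := psp_prime_four h4 h8 F h2

/-- **`PSp_2m(q)`, `q` odd, `m ≥ 3`** -/
theorem pp_psp_odd {m : ℕ} (hm : 3 ≤ m) (F : Type) [Field F] [Finite F] (h2 : (2 : F) ≠ 0) :
    H494.TC.PP (PSp m F) := by
  by_cases h4 : m % 4 = 0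
  · rcases Nat.lt_or_ge m 8 with h8 | h8
    · obtain rfl : m = 4 := by omega
      exact Cfsg.Agent.H7.TC.pp_psp_eight F h2
    · exact pp_psp_four (Nat.dvd_of_mod_eq_zero h4) h8 F h2
  · exact pp_psp hm h4 F h2

theorem row3_psp_odd {m : ℕ} (hm : 3 ≤ m) (F : Type) [Field F] [Finite F] (h2 : (2 : F) ≠ 0) :
    H210.TC.Row3 (PSp m F) := by
  obtain ⟨x, hx, hx6, h⟩ := pp_psp_odd hm F h2
  exact H210.TC.Row3.of_sq hx hx6 h

end Cfsg.Agent.H144.TC
end
end

-- part: H140/TL/Seven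
section
/-!
# S2464, `Ω₇(q)`, `q` odd: the cubic polynomial and the factorisation theorem (helper140)

`gf_three` : a good cubic `f` with `TLf 3 f`, from helper538's theorem on `SL₃(q)`.
-/

set_option autoImplicit false

namespace Cfsg.Agent.H140.TL

open Matrix Polynomial
open Cfsg.Agent.H126.M3 (cu charpoly_three)
open Cfsg.Agent.H538.TC Cfsg.Agent.H781.TC6

variable {F : Type*} [Field F]

theorem no_root {s r : F} (hirr : Irreducible (cu s r)) (x : F) : (cu s r).eval x ≠ 0 := by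
  intro hx
  have h1 := Polynomial.degree_eq_one_of_irreducible_of_root hirr hx
  have h2 : (cu s r).degree = 3 := by
    have hc := CoS_charpoly s r
    rw [← hc, Matrix.charpoly_degree_eq_dim]
    rfl
  rw [h2] at h1
  exact absurd h1 (by norm_num)

theorem cu_eval (s r x : F) : (cu s r).eval x = x ^ 3 - s * x ^ 2 + r * x - 1 := by
  simp only [cu, _root_.map_one, _root_.Polynomial.eval_sub, _root_.Polynomial.eval_add, _root_.Polynomial.eval_pow, _root_.Polynomial.eval_X, _root_.Polynomial.eval_mul, _root_.Polynomial.eval_C, _root_.Polynomial.eval_one]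

theorem cu_coeff_zero (s r : F) : (cu s r).coeff 0 = -1 := by
  simp only [cu, _root_.map_one, _root_.Polynomial.coeff_sub, _root_.Polynomial.coeff_add, _root_.Polynomial.coeff_X_pow, _root_.OfNat.zero_ne_ofNat, ↓ _root_.reduceIte, _root_.Polynomial.mul_coeff_zero, _root_.Polynomial.coeff_C_zero, _root_.MulZeroClass.mul_zero, _root_.sub_self, _root_.Polynomial.coeff_X_zero, _root_.add_zero, _root_.Polynomial.coeff_one_zero, _root_.zero_sub]

theorem cu_natDegree (s r : F) : (cu s r).natDegree = 3 := by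
  have hc := CoS_charpoly s r
  rw [← hc, Matrix.charpoly_natDegree_eq_dim]
  rfl

/-- a reciprocal relation gives a root -/
theorem cu_cop {s r : F} (hirr : Irreducible (cu s r)) : IsCoprime (cu s r) (cu s r).reverse := by
  rw [hirr.coprime_iff_not_dvd]
  rintro ⟨g, hg⟩
  have hd := cu_natDegree s r
  have h0 := cu_coeff_zero s r
  have hne : cu s r ≠ 0 := hirr.ne_zero
  have hrd : (cu s r).reverse.natDegree = 3 := by
    rw [reverse_natDegree, hd]
    have : (cu s r).natTrailingDegree = 0 := by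
      rw [natTrailingDegree_eq_zero]
      right
      rw [h0]
      exact neg_ne_zero.2 one_ne_zero
    rw [this]
  have hg0 : g ≠ 0 := by
    rintro rfl
    rw [mul_zero] at hg
    rw [hg, natDegree_zero] at hrd
    omega
  have hgd : g.natDegree = 0 := by
    have := natDegree_mul hne hg0
    rw [← hg, hrd, hd] at this
    omega
  obtain ⟨u, rfl⟩ : ∃ u, g = C u := ⟨_, eq_C_of_natDegree_eq_zero hgd⟩
  have hc : ∀ i, (cu s r).reverse.coeff i = (cu s r).coeff i * u := fun i => by rw [hg, coeff_mul_C]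
  have h3 := hc 0
  rw [coeff_zero_reverse, h0] at h3
  have hm : (cu s r).Monic := by rw [← CoS_charpoly s r]; exact Matrix.charpoly_monic _
  rw [hm.leadingCoeff] at h3
  have hu : u = -1 := by linear_combination h3
  have h4 := hc 1
  rw [coeff_reverse, hd, revAt_le (by norm_num)] at h4
  norm_num at h4
  have h5 : (cu s r).coeff 2 = -s := by rw [cu, c3_two]
  have h6 : (cu s r).coeff 1 = r := by rw [cu, c3_one]
  rw [h5, h6, hu] at h4
  apply no_root hirr 1
  rw [cu_eval]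
  linear_combination h4

/-- a scalar of nonsquare determinant -/
theorem exists_scalar {n : ℕ} (hn : Odd n) {ν : F} (hν : ¬ IsSquare ν) (X : Matrix (Fin n) (Fin n) F) :
    ∃ Z : GL (Fin n) F, (Z : Matrix (Fin n) (Fin n) F) * X = X * (Z : Matrix (Fin n) (Fin n) F) ∧
      ¬ IsSquare (Z : Matrix (Fin n) (Fin n) F).det := by
  have hν0 : ν ≠ 0 := by rintro rfl; exact hν (IsSquare.zero)
  have hdet : (ν • (1 : Matrix (Fin n) (Fin n) F)).det = ν ^ n := by
    rw [det_smul, det_one, mul_one, Fintype.card_fin]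
  refine ⟨Matrix.GeneralLinearGroup.mkOfDetNeZero (ν • 1) (by rw [hdet]; exact pow_ne_zero _ hν0), ?_, ?_⟩
  · show (ν • (1 : Matrix (Fin n) (Fin n) F)) * X = X * (ν • (1 : Matrix (Fin n) (Fin n) F))
    rw [smul_mul_assoc, one_mul, mul_smul_comm, mul_one]
  · show ¬ IsSquare (ν • (1 : Matrix (Fin n) (Fin n) F)).det
    rw [hdet]
    rintro ⟨t, ht⟩
    obtain ⟨k, rfl⟩ := hn
    apply hν
    refine ⟨t / ν ^ k, ?_⟩
    have h1 : ν ^ k ≠ 0 := pow_ne_zero _ hν0
    field_simp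
    linear_combination ht

end Cfsg.Agent.H140.TL
end

private theorem dce_6f62e53d4fd7 : _root_.True := by
  try have : _root_.True := by simp only [_root_.Cfsg.Agent.H144.War.mu.congr_simp]
  exact _root_.True.intro
end

-- part: H210/F43/TabAll
section
prune_inst 0x4250004107162000000000096332000000c0004200000000090a00902004e502200c220405e101c0202888001480d002000100080404000000e000400000001000080020421000000000016000000000000000000000000000000000000041004000000000
set_option linter.all false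
open scoped Cfsg.Agent.FastGrp

-- part: H210/F43/Avg
section
/-!
# Averages of an invariant kernel over orbits (S2464, F₄(3); helper210)

`G` acts on the finite set `V`, `κ : V → V → ℝ` invariant, `K G κ μ v` = mean of `κ` over the orbit of `μ`.

* `sq_le` : `K² |orbit μ| |orbit v| ≤ C` if `∑ v, (∑ ν, a ν κ ν v)² ≤ C ∑ ν, a ν²` for `0 ≤ a` (Parseval);
* `abs_sum_le` : `|∑ D μ κ μ v| ≤ ρ ∑ D μ` for an invariant `0 ≤ D` if `|K μ v| ≤ ρ`.
-/

set_option autoImplicit false
set_option linter.unusedSectionVars false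

namespace Cfsg.Agent.H210.F43.Avg

open Finset

variable (G : Type*) {V : Type*} [Group G] [Fintype G] [Fintype V] [DecidableEq V] [MulAction G V]

/-- the mean of `κ` over the orbit of `μ` -/
noncomputable def K (κ : V → V → ℝ) (μ v : V) : ℝ := (∑ g : G, κ (g • μ) v) / Fintype.card G

/-- the uniform distribution on the orbit of `μ` -/
noncomputable def un (μ ν : V) : ℝ := ((univ.filter fun g : G => g • μ = ν).card : ℝ) / Fintype.card G

theorem card_pos' : (0 : ℝ) < Fintype.card G := by exact_mod_cast Fintype.card_pos (α := G)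

theorem un_nonneg (μ ν : V) : 0 ≤ un G μ ν := div_nonneg (Nat.cast_nonneg _) (Nat.cast_nonneg _)

theorem un_sum (μ : V) : ∑ ν : V, un G μ ν = 1 := by
  have h := card_pos' G
  unfold un
  rw [← Finset.sum_div, div_eq_one_iff_eq h.ne']
  have h1 := Finset.card_eq_sum_card_fiberwise (s := (univ : Finset G)) (t := (univ : Finset V)) (f := fun g => g • μ)
    (fun _ _ => Finset.mem_coe.2 (Finset.mem_univ _))
  rw [Finset.card_univ] at h1
  exact_mod_cast h1.symm

theorem un_le (μ ν : V) : un G μ ν * Nat.card (MulAction.orbit G μ) ≤ 1 := by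
  classical
  have h := card_pos' G
  rw [un, div_mul_eq_mul_div, div_le_one h]
  have hos : Nat.card (MulAction.orbit G μ) * Nat.card (MulAction.stabilizer G μ) = Fintype.card G := by
    rw [← Nat.card_eq_fintype_card, Nat.card_congr (MulAction.orbitEquivQuotientStabilizer G μ),
      ← Subgroup.index_mul_card (MulAction.stabilizer G μ)]
    rfl
  by_cases hν : ∃ g₀ : G, g₀ • μ = ν
  · obtain ⟨g₀, rfl⟩ := hν
    have h1 : (univ.filter fun g : G => g • μ = g₀ • μ).card = Nat.card (MulAction.stabilizer G μ) := by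
      rw [← Fintype.card_subtype, ← Nat.card_eq_fintype_card]
      refine Nat.card_congr ⟨fun x => ⟨g₀⁻¹ * x.1, ?_⟩, fun y => ⟨g₀ * y.1, ?_⟩, ?_, ?_⟩
      · rw [MulAction.mem_stabilizer_iff, mul_smul, x.2, inv_smul_smul]
      · rw [mul_smul, MulAction.mem_stabilizer_iff.1 y.2]
      · intro x
        apply Subtype.ext
        simp
      · intro y
        apply Subtype.ext
        simp
    rw [h1, ← hos]
    push_cast
    rw [mul_comm]
  · have h1 : (univ.filter fun g : G => g • μ = ν) = ∅ := by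
      rw [Finset.filter_eq_empty_iff]
      exact fun g _ hg => hν ⟨g, hg⟩
    rw [h1]
    simp

theorem un_eq {μ ν : V} (hν : ∃ g₀ : G, g₀ • μ = ν) : un G μ ν * Nat.card (MulAction.orbit G μ) = 1 := by
  have h0 : ∀ ν', un G μ ν' * Nat.card (MulAction.orbit G μ) ≤ 1 := un_le G μ
  classical
  have hs := un_sum G μ
  have h1 : ∑ ν' ∈ univ.filter (fun w => w ∈ MulAction.orbit G μ), un G μ ν' = 1 := by
    rw [← hs]
    refine Finset.sum_subset (Finset.filter_subset _ _) fun x _ hx => ?_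
    have hx' : (univ.filter fun g : G => g • μ = x) = ∅ := by
      rw [Finset.filter_eq_empty_iff]
      exact fun g _ hg => hx (Finset.mem_filter.2 ⟨Finset.mem_univ _, ⟨g, hg⟩⟩)
    rw [un, hx']
    simp
  have h2 : (univ.filter (fun w => w ∈ MulAction.orbit G μ)).card = Nat.card (MulAction.orbit G μ) := by
    rw [Nat.card_eq_fintype_card, Fintype.card_subtype]
  have h3 : ∑ ν' ∈ univ.filter (fun w => w ∈ MulAction.orbit G μ), (1 - un G μ ν' * Nat.card (MulAction.orbit G μ)) = 0 := by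
    rw [Finset.sum_sub_distrib, ← Finset.sum_mul, h1, Finset.sum_const, h2]
    simp
  have h4 := (Finset.sum_eq_zero_iff_of_nonneg fun i _ => sub_nonneg.2 (h0 i)).1 h3 ν (by
    rw [Finset.mem_filter]
    exact ⟨Finset.mem_univ _, hν⟩)
  linarith

theorem un_zero {μ ν : V} (hν : ¬ ∃ g₀ : G, g₀ • μ = ν) : un G μ ν = 0 := by
  have hx' : (univ.filter fun g : G => g • μ = ν) = ∅ := by
    rw [Finset.filter_eq_empty_iff]
    exact fun g _ hg => hν ⟨g, hg⟩
  rw [un, hx']
  simp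

theorem K_eq (κ : V → V → ℝ) (μ v : V) : K G κ μ v = ∑ ν : V, un G μ ν * κ ν v := by
  unfold K un
  rw [← Finset.sum_fiberwise (univ : Finset G) (fun g => g • μ) (fun g => κ (g • μ) v), Finset.sum_div]
  refine Finset.sum_congr rfl fun ν _ => ?_
  rw [Finset.sum_congr rfl (g := fun _ => κ ν v) (fun g hg => by rw [(Finset.mem_filter.1 hg).2]), Finset.sum_const,
    nsmul_eq_mul]
  ring

/-- the mean over the orbit -/
theorem K_orb (κ : V → V → ℝ) {μ : V} (O : Finset V) (hO : ∀ ν, ν ∈ O ↔ ∃ g : G, g • μ = ν) (v : V) :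
    K G κ μ v * O.card = ∑ ν ∈ O, κ ν v := by
  classical
  have h2 : O.card = Nat.card (MulAction.orbit G μ) := by
    rw [Nat.card_eq_fintype_card, Fintype.card_subtype]
    congr 1
    ext ν
    rw [hO, Finset.mem_filter]
    exact ⟨fun h => ⟨Finset.mem_univ _, h⟩, fun h => h.2⟩
  rw [K_eq, Finset.sum_mul, ← Finset.sum_subset (Finset.subset_univ O)]
  · refine Finset.sum_congr rfl fun ν hν => ?_
    have h3 := un_eq G ((hO ν).1 hν)
    rw [h2, mul_right_comm, h3, one_mul]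
  · intro ν _ hν
    rw [un_zero G fun h => hν ((hO ν).2 h), zero_mul, zero_mul]

theorem K_smul_right {κ : V → V → ℝ} (hκ : ∀ (g : G) (u v : V), κ (g • u) (g • v) = κ u v) (h : G) (μ v : V) :
    K G κ μ (h • v) = K G κ μ v := by
  unfold K
  congr 1
  refine Fintype.sum_equiv (Equiv.mulLeft h⁻¹) _ _ fun g => ?_
  rw [Equiv.coe_mulLeft, mul_smul, ← hκ h (h⁻¹ • g • μ) v, smul_inv_smul]

theorem K_symm {κ : V → V → ℝ} (hκ : ∀ (g : G) (u v : V), κ (g • u) (g • v) = κ u v) (hs : ∀ u v, κ u v = κ v u)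
    (μ v : V) : K G κ μ v = K G κ v μ := by
  unfold K
  congr 1
  refine Fintype.sum_equiv (Equiv.inv G) _ _ fun g => ?_
  rw [Equiv.inv_apply, hs (g⁻¹ • v) μ, ← hκ g μ (g⁻¹ • v), smul_inv_smul]

/-- **Parseval.** -/
theorem sq_le {κ : V → V → ℝ} (hκ : ∀ (g : G) (u v : V), κ (g • u) (g • v) = κ u v) {C : ℝ} (hC : 0 ≤ C)
    (hP : ∀ a : V → ℝ, (∀ ν, 0 ≤ a ν) → ∑ v : V, (∑ ν : V, a ν * κ ν v) ^ 2 ≤ C * ∑ ν : V, a ν ^ 2) (μ v : V) :
    K G κ μ v ^ 2 * ((Nat.card (MulAction.orbit G μ) : ℝ) * (Nat.card (MulAction.orbit G v) : ℝ)) ≤ C := by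
  classical
  set n : ℝ := (Nat.card (MulAction.orbit G μ) : ℝ) with hn
  have hn0 : 0 < n := by
    rw [hn]
    have : Nonempty (MulAction.orbit G μ) := ⟨⟨μ, MulAction.mem_orbit_self μ⟩⟩
    exact_mod_cast Nat.card_pos (α := MulAction.orbit G μ)
  have h1 : ∑ w : V, K G κ μ w ^ 2 ≤ C * (1 / n) := by
    have h2 := hP (un G μ) (un_nonneg G μ)
    have h3 : ∑ w : V, K G κ μ w ^ 2 = ∑ w : V, (∑ ν : V, un G μ ν * κ ν w) ^ 2 :=
      Finset.sum_congr rfl fun w _ => by rw [K_eq]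
    rw [h3]
    refine h2.trans (mul_le_mul_of_nonneg_left ?_ hC)
    calc ∑ ν : V, un G μ ν ^ 2 ≤ ∑ ν : V, (1 / n) * un G μ ν := by
          refine Finset.sum_le_sum fun ν _ => ?_
          rw [pow_two]
          refine mul_le_mul_of_nonneg_right ?_ (un_nonneg G μ ν)
          rw [le_div_iff₀ hn0]
          exact un_le G μ ν
      _ = 1 / n := by rw [← Finset.mul_sum, un_sum, mul_one]
  have h2 : K G κ μ v ^ 2 * Nat.card (MulAction.orbit G v) ≤ ∑ w : V, K G κ μ w ^ 2 := by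
    have h3 : ∑ w ∈ univ.filter (fun w => w ∈ MulAction.orbit G v), K G κ μ w ^ 2 =
        K G κ μ v ^ 2 * Nat.card (MulAction.orbit G v) := by
      rw [Finset.sum_congr rfl (g := fun _ => K G κ μ v ^ 2) (fun w hw => ?_), Finset.sum_const, nsmul_eq_mul, mul_comm]
      · congr 2
        rw [Nat.card_eq_fintype_card, Fintype.card_subtype]
      · obtain ⟨g, hg⟩ := (Finset.mem_filter.1 hw).2
        have hg' : g • v = w := hg
        rw [← hg', K_smul_right G hκ]
    rw [← h3]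
    exact Finset.sum_le_sum_of_subset_of_nonneg (Finset.filter_subset _ _) fun _ _ _ => sq_nonneg _
  have h4 := h2.trans h1
  calc K G κ μ v ^ 2 * (n * Nat.card (MulAction.orbit G v)) = n * (K G κ μ v ^ 2 * Nat.card (MulAction.orbit G v)) := by
        ring
    _ ≤ n * (C * (1 / n)) := mul_le_mul_of_nonneg_left h4 hn0.le
    _ = C := by field_simp

theorem sum_eq {κ : V → V → ℝ} {D : V → ℝ} (hD : ∀ (g : G) (μ : V), D (g • μ) = D μ) {S : Finset V}
    (hS : ∀ (g : G) (μ : V), μ ∈ S → g • μ ∈ S) (v : V) :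
    ∑ μ ∈ S, D μ * κ μ v = ∑ μ ∈ S, D μ * K G κ μ v := by
  have hc := card_pos' G
  have h1 : ∀ g : G, ∑ μ ∈ S, D μ * κ μ v = ∑ μ ∈ S, D μ * κ (g • μ) v := by
    intro g
    refine Finset.sum_bij' (fun μ _ => g⁻¹ • μ) (fun μ _ => g • μ) (fun μ hμ => hS _ _ hμ) (fun μ hμ => hS _ _ hμ)
      (fun μ _ => smul_inv_smul g μ) (fun μ _ => inv_smul_smul g μ) fun μ _ => ?_
    rw [hD, smul_inv_smul]
  have h2 : (Fintype.card G : ℝ) * ∑ μ ∈ S, D μ * κ μ v = (Fintype.card G : ℝ) * ∑ μ ∈ S, D μ * K G κ μ v := by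
    calc (Fintype.card G : ℝ) * ∑ μ ∈ S, D μ * κ μ v = ∑ _g : G, ∑ μ ∈ S, D μ * κ μ v := by
          rw [Finset.sum_const, nsmul_eq_mul, Finset.card_univ]
      _ = ∑ g : G, ∑ μ ∈ S, D μ * κ (g • μ) v := Finset.sum_congr rfl fun g _ => h1 g
      _ = ∑ μ ∈ S, D μ * ∑ g : G, κ (g • μ) v := by
          rw [Finset.sum_comm]
          exact Finset.sum_congr rfl fun μ _ => by rw [Finset.mul_sum]
      _ = (Fintype.card G : ℝ) * ∑ μ ∈ S, D μ * K G κ μ v := by
          rw [Finset.mul_sum]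
          refine Finset.sum_congr rfl fun μ _ => ?_
          unfold K
          field_simp
  exact mul_left_cancel₀ hc.ne' h2

theorem abs_sum_le {κ : V → V → ℝ} {D : V → ℝ} (hD0 : ∀ μ, 0 ≤ D μ) (hD : ∀ (g : G) (μ : V), D (g • μ) = D μ)
    {S : Finset V} (hS : ∀ (g : G) (μ : V), μ ∈ S → g • μ ∈ S) {v : V} {ρ : ℝ} (h : ∀ μ ∈ S, |K G κ μ v| ≤ ρ) :
    |∑ μ ∈ S, D μ * κ μ v| ≤ ρ * ∑ μ ∈ S, D μ := by
  rw [sum_eq G hD hS, Finset.mul_sum]
  refine (Finset.abs_sum_le_sum_abs _ _).trans (Finset.sum_le_sum fun μ hμ => ?_)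
  rw [abs_mul, abs_of_nonneg (hD0 μ), mul_comm]
  exact mul_le_mul_of_nonneg_right (h μ hμ) (hD0 μ)

end Cfsg.Agent.H210.F43.Avg
end

-- part: H210/F43/Orb
section
/-!
# The orbits of `Sp₆(3)` on `V₁₄` which are not the long root orbit are large (S2464, F₄(3); helper210)

`orb_ge` : if `μ ≠ 0` is not equivalent to `e₀` then `18954 ≤ |orbit of μ|`.
-/

set_option autoImplicit false

namespace Cfsg.Agent.H210.F43

open Cfsg.Agent.H700.F43 Cfsg.Agent.H675.F43 Cfsg.Agent.H69.F43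

/-- thirteen nodes of each type -/
def LL : List (List ℕ) := [[], [1, 3, 9, 39, 66, 91, 172, 247, 364, 472, 490, 634, 688], [2, 6, 18, 51, 78, 101, 182, 251, 404, 458, 494, 620, 728], [4, 5, 7, 8, 10, 11, 12, 15, 19, 20, 21, 24, 27], [13, 17, 23, 25, 29, 32, 35, 38, 43, 47, 49, 56, 59], [14, 16, 22, 26, 28, 31, 34, 37, 44, 46, 50, 55, 58]]

/-- the `i`-th node of type `t` -/
def nd (t i : ℕ) : ℕ := (LL.getD t []).getD i 0

theorem nd_spec : ∀ t : Fin 6, t ≠ 0 → ∀ i : Fin 13, nd t i < 2187 ∧ typ (nd t i) = t := by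
  decide +kernel

theorem nd_inj : ∀ t : Fin 6, t ≠ 0 → ∀ i j : Fin 13, nd t i = nd t j → i = j := by
  decide +kernel

/-- the symmetric matrix with the entries `X` -/
def MX (X : Fin 6 → F3) : Matrix (Fin 3) (Fin 3) F3 := !![X 0, X 5, X 4; X 5, X 1, X 3; X 4, X 3, X 2]

theorem MX_sym (X : Fin 6 → F3) : (MX X).transpose = MX X := by
  ext i j
  fin_cases i <;> fin_cases j <;> rfl

theorem nc_zero (n : ℕ) : vec (nc n) 0 = 1 := by
  rw [nc, vec_ofl]
  simp

theorem nc_mid (n : ℕ) (i : Fin 6) : vec (nc n) ⟨i + 1, by omega⟩ = 0 := by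
  rw [nc, vec_ofl]
  fin_cases i <;> simp

theorem nc_inj {m n : ℕ} (hm : m < 2187) (hn : n < 2187) (h : vec (nc m) = vec (nc n)) : m = n := by
  have key : ∀ k : Fin 14, dg (nc m) k = dg (nc n) k := by
    intro k
    have h1 := congrFun h k
    unfold vec at h1
    have h2 : ∀ c, c = m ∨ c = n → dg (nc c) k < 3 := by
      intro c _
      unfold nc
      exact dg_ofl_lt _ _
    have h3 := (ZMod.natCast_eq_natCast_iff' _ _ 3).1 h1
    rwa [Nat.mod_eq_of_lt (h2 m (Or.inl rfl)), Nat.mod_eq_of_lt (h2 n (Or.inr rfl))] at h3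
  have h7 := key 7
  have h8 := key 8
  have h9 := key 9
  have h10 := key 10
  have h11 := key 11
  have h12 := key 12
  have h13 := key 13
  unfold nc at h7 h8 h9 h10 h11 h12 h13
  rw [dg_ofl, dg_ofl] at h7 h8 h9 h10 h11 h12 h13
  simp at h7 h8 h9 h10 h11 h12 h13
  omega

/-- the translates -/
noncomputable def tr (t : ℕ) (p : Bool × (Fin 6 → F3) × Fin 13) : V14 :=
  (if p.1 then (-1 : Module.End F3 V14) else 1) (Xuu (MX p.2.1) (vec (nc (nd t p.2.2))))

theorem tr_eqv (t : Fin 6) (ht : t ≠ 0) (p : Bool × (Fin 6 → F3) × Fin 13) : Eqv (vec (nc (rp t))) (tr t p) := by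
  obtain ⟨h1, h2⟩ := nd_spec t ht p.2.2
  have h3 := node_eqv _ h1
  rw [h2] at h3
  have h4 : Eqv (vec (nc (nd t p.2.2))) (Xuu (MX p.2.1) (vec (nc (nd t p.2.2)))) :=
    ⟨uu (MX p.2.1) (MX_sym _), by rw [act_uu]⟩
  have h5 := h3.symm.trans h4
  unfold tr
  split_ifs
  · exact h5.trans ⟨ng, by rw [act_ng]⟩
  · exact h5.trans (Eqv.refl _)

theorem xuu_zero (X : Fin 6 → F3) (n : ℕ) : Xuu (MX X) (vec (nc n)) 0 = 1 := by
  rw [← nc_zero n]
  rfl

theorem xuu_mid (X : Fin 6 → F3) (n : ℕ) (i : Fin 6) : Xuu (MX X) (vec (nc n)) ⟨i + 1, by omega⟩ = X i := by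
  have h0 := nc_zero n
  have h := nc_mid n
  have h1 := h 0
  have h2 := h 1
  have h3 := h 2
  have h4 := h 3
  have h5 := h 4
  have h6 := h 5
  have two : ∀ x : F3, -2 * x = x := by decide
  fin_cases i
  · change X 0 * vec (nc n) 0 + vec (nc n) 1 = X 0
    rw [h0, show vec (nc n) 1 = 0 from h1]
    ring
  · change X 1 * vec (nc n) 0 + vec (nc n) 2 = X 1
    rw [h0, show vec (nc n) 2 = 0 from h2]
    ring
  · change X 2 * vec (nc n) 0 + vec (nc n) 3 = X 2
    rw [h0, show vec (nc n) 3 = 0 from h3]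
    ring
  · change (-2 * X 3) * vec (nc n) 0 + vec (nc n) 4 = X 3
    rw [h0, show vec (nc n) 4 = 0 from h4, two]
    ring
  · change (-2 * X 4) * vec (nc n) 0 + vec (nc n) 5 = X 4
    rw [h0, show vec (nc n) 5 = 0 from h5, two]
    ring
  · change (-2 * X 5) * vec (nc n) 0 + vec (nc n) 6 = X 5
    rw [h0, show vec (nc n) 6 = 0 from h6, two]
    ring

theorem xuu_inj (X : Fin 6 → F3) {u v : V14} (h : Xuu (MX X) u = Xuu (MX X) v) : u = v := by
  rw [← act_uu (MX X) (MX_sym X)] at h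
  have h1 := congrArg (act (uu (MX X) (MX_sym X))⁻¹) h
  have h2 := LinearMap.congr_fun (act_inv_mul (uu (MX X) (MX_sym X)))
  exact ((h2 u).symm.trans h1).trans (h2 v)

theorem tr_inj (t : Fin 6) (ht : t ≠ 0) : Function.Injective (tr t) := by
  rintro ⟨s, X, i⟩ ⟨s', X', i'⟩ h
  have hne : (-1 : F3) ≠ 1 := by decide
  have hs : s = s' := by
    have h0 := congrFun h 0
    unfold tr at h0
    by_contra hss
    rcases s with _ | _ <;> rcases s' with _ | _
    · exact hss rfl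
    · simp only [Bool.false_eq_true, if_false, if_true] at h0
      change Xuu (MX X) (vec (nc (nd t i))) 0 = -(Xuu (MX X') (vec (nc (nd t i'))) 0) at h0
      rw [xuu_zero, xuu_zero] at h0
      exact hne h0.symm
    · simp only [Bool.false_eq_true, if_false, if_true] at h0
      change -(Xuu (MX X) (vec (nc (nd t i))) 0) = Xuu (MX X') (vec (nc (nd t i'))) 0 at h0
      rw [xuu_zero, xuu_zero] at h0
      exact hne h0
    · exact hss rfl
  subst hs
  have h1 : Xuu (MX X) (vec (nc (nd t i))) = Xuu (MX X') (vec (nc (nd t i'))) := by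
    unfold tr at h
    rcases s with _ | _
    · exact h
    · exact neg_injective h
  have hX : X = X' := by
    ext k
    have h2 := congrFun h1 ⟨k + 1, by omega⟩
    rw [xuu_mid, xuu_mid] at h2
    rw [h2]
  subst hX
  have h3 := nc_inj (nd_spec t ht i).1 (nd_spec t ht i').1 (xuu_inj X h1)
  have h4 := nd_inj t ht i i' h3
  rw [h4]

theorem e0_eq : vec (nc (rp 0)) = (Pi.single 0 1 : V14) := by
  ext k
  rw [nc, vec_ofl]
  fin_cases k <;> simp [rp]

/-- **The other orbits are large.** -/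
theorem orb_ge {μ : V14} (h : μ ≠ 0) (h' : ¬ Eqv (Pi.single 0 1) μ) : 18954 ≤ Nat.card {ν : V14 // Eqv μ ν} := by
  obtain ⟨n, hn, h1⟩ := exists_rep h
  have h2 := h1.trans (node_eqv n hn)
  have h3 := typ_le hn
  obtain ⟨t, ht⟩ : ∃ t : Fin 6, (t : ℕ) = typ n := ⟨⟨typ n, by omega⟩, rfl⟩
  rw [← ht] at h2
  have ht0 : t ≠ 0 := by
    rintro rfl
    refine h' ?_
    have h4 := h2.symm
    rwa [show ((0 : Fin 6) : ℕ) = 0 from rfl, e0_eq] at h4
  have hc : Nat.card (Bool × (Fin 6 → F3) × Fin 13) = 18954 := by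
    simp [Nat.card_eq_fintype_card, ZMod.card]
  rw [← hc]
  refine Nat.card_le_card_of_injective (fun p => (⟨tr t p, h2.trans (tr_eqv t ht0 p)⟩ : {ν : V14 // Eqv μ ν})) ?_
  intro p q hpq
  exact tr_inj t ht0 (Subtype.ext_iff.1 hpq)

end Cfsg.Agent.H210.F43
end

-- part: H69/F43/Bf
section
/-!
# The invariant alternating form on `V₁₄` (S2464, F₄(3); helper69)

* `bf u v` : the form; `bf_add_left`, …; `bfl` : the bilinear map;
* `bf_act` : it is invariant; `bf_nondeg`; `exists_bf` : every functional is `bf μ`.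
-/

set_option autoImplicit false

namespace Cfsg.Agent.H69.F43

open Cfsg.Agent.H700.F43 Cfsg.Agent.H675.F43

/-- the alternating form -/
def bf (u v : V14) : F3 := u 0 * v 13 - u 13 * v 0 - u 1 * v 7 - u 2 * v 8 - u 3 * v 9 + u 7 * v 1 + u 8 * v 2 + u 9 * v 3 +
  u 4 * v 10 + u 5 * v 11 + u 6 * v 12 - u 10 * v 4 - u 11 * v 5 - u 12 * v 6

theorem bf_add_left (u u' v : V14) : bf (u + u') v = bf u v + bf u' v := by
  simp only [bf, Pi.add_apply]
  ring

theorem bf_add_right (u v v' : V14) : bf u (v + v') = bf u v + bf u v' := by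
  simp only [bf, Pi.add_apply]
  ring

theorem bf_neg_left (u v : V14) : bf (-u) v = -bf u v := by
  simp only [bf, Pi.neg_apply]
  ring

theorem bf_neg_right (u v : V14) : bf u (-v) = -bf u v := by
  simp only [bf, Pi.neg_apply]
  ring

theorem bf_swap (u v : V14) : bf v u = -bf u v := by
  simp only [bf]
  ring

theorem bf_zero_left (v : V14) : bf 0 v = 0 := by
  simp only [bf, Pi.zero_apply]
  ring

set_option maxHeartbeats 4000000 in
theorem bf_uu {T : Matrix (Fin 3) (Fin 3) F3} (u v : V14) : bf (Xuu T u) (Xuu T v) = bf u v := by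
  have h3 : (3 : F3) = 0 := rfl
  have e0 : ∀ v : V14, Xuu T v 0 = v 0 := fun _ => rfl
  have e1 : ∀ v : V14, Xuu T v 1 = (T 0 0) * v 0 + v 1 := fun _ => rfl
  have e2 : ∀ v : V14, Xuu T v 2 = (T 1 1) * v 0 + v 2 := fun _ => rfl
  have e3 : ∀ v : V14, Xuu T v 3 = (T 2 2) * v 0 + v 3 := fun _ => rfl
  have e4 : ∀ v : V14, Xuu T v 4 = (-2 * T 1 2) * v 0 + v 4 := fun _ => rfl
  have e5 : ∀ v : V14, Xuu T v 5 = (-2 * T 0 2) * v 0 + v 5 := fun _ => rfl
  have e6 : ∀ v : V14, Xuu T v 6 = (-2 * T 0 1) * v 0 + v 6 := fun _ => rfl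
  have e7 : ∀ v : V14, Xuu T v 7 = (T 1 1 * T 2 2 -T 1 2 * T 1 2) * v 0 + (T 2 2) * v 2 + (T 1 1) * v 3 + (T 1 2) * v 4 + v 7 := fun _ => rfl
  have e8 : ∀ v : V14, Xuu T v 8 = (T 0 0 * T 2 2 -T 0 2 * T 0 2) * v 0 + (T 2 2) * v 1 + (T 0 0) * v 3 + (T 0 2) * v 5 + v 8 := fun _ => rfl
  have e9 : ∀ v : V14, Xuu T v 9 = (T 0 0 * T 1 1 -T 0 1 * T 0 1) * v 0 + (T 1 1) * v 1 + (T 0 0) * v 2 + (T 0 1) * v 6 + v 9 := fun _ => rfl
  have e10 : ∀ v : V14, Xuu T v 10 = (2 * T 0 0 * T 1 2 -2 * T 0 1 * T 0 2) * v 0 + (2 * T 1 2) * v 1 + (-T 0 0) * v 4 + (T 0 1) * v 5 + (T 0 2) * v 6 + v 10 := fun _ => rfl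
  have e11 : ∀ v : V14, Xuu T v 11 = (-2 * T 0 1 * T 1 2 +2 * T 0 2 * T 1 1) * v 0 + (2 * T 0 2) * v 2 + (T 0 1) * v 4 + (-T 1 1) * v 5 + (T 1 2) * v 6 + v 11 := fun _ => rfl
  have e12 : ∀ v : V14, Xuu T v 12 = (2 * T 0 1 * T 2 2 -2 * T 0 2 * T 1 2) * v 0 + (2 * T 0 1) * v 3 + (T 0 2) * v 4 + (T 1 2) * v 5 + (-T 2 2) * v 6 + v 12 := fun _ => rfl
  have e13 : ∀ v : V14, Xuu T v 13 = (T 0 0 * T 1 1 * T 2 2 -T 0 0 * T 1 2 * T 1 2 -T 0 1 * T 0 1 * T 2 2 +2 * T 0 1 * T 0 2 * T 1 2 -T 0 2 * T 0 2 * T 1 1) * v 0 + (T 1 1 * T 2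
      2 -T 1 2 * T 1 2) * v 1 + (T 0 0 * T 2 2 -T 0 2 * T 0 2) * v 2 + (T 0 0 * T 1 1 -T 0 1 * T 0 1) * v 3 + (T 0 0 * T 1 2 -T 0 1 * T 0 2) * v 4
      + (-T 0 1 * T 1 2 +T 0 2 * T 1 1) * v 5 + (T 0 1 * T 2 2 -T 0 2 * T 1 2) * v 6 + (T 0 0) * v 7 + (T 1 1) * v 8 + (T 2 2) * v 9 + (-T 1 2) *
      v 10 + (-T 0 2) * v 11 + (-T 0 1) * v 12 + v 13 := fun _ => rfl
  simp only [bf, e0, e1, e2, e3, e4, e5, e6, e7, e8, e9, e10, e11, e12, e13]
  linear_combination ((-2) * T 0 1 * T 0 1 * u 0 * v 3 + (2) * T 0 1 * T 0 1 * u 3 * v 0 + (-1) * T 0 1 * T 0 2 * u 0 * v 4 + (1) * T 0 1 * T 0 2 * u 4 * v 0 + (-1) * T 0 1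
    * T 1 2 * u 0 * v 5 + (1) * T 0 1 * T 1 2 * u 5 * v 0 + (-1) * T 0 1 * u 0 * v 12 + (1) * T 0 1 * u 12 * v 0 + (-1) * T 0 1 * u 3 * v 6 + (1) * T 0 1
    * u 6 * v 3 + (-2) * T 0 2 * T 0 2 * u 0 * v 2 + (2) * T 0 2 * T 0 2 * u 2 * v 0 + (-1) * T 0 2 * T 1 2 * u 0 * v 6 + (1) * T 0 2 * T 1 2 * u 6 * v 0
    + (-1) * T 0 2 * u 0 * v 11 + (1) * T 0 2 * u 11 * v 0 + (-1) * T 0 2 * u 2 * v 5 + (1) * T 0 2 * u 5 * v 2 + (-2) * T 1 2 * T 1 2 * u 0 * v 1 + (2) *
    T 1 2 * T 1 2 * u 1 * v 0 + (-1) * T 1 2 * u 0 * v 10 + (-1) * T 1 2 * u 1 * v 4 + (1) * T 1 2 * u 10 * v 0 + (1) * T 1 2 * u 4 * v 1) * h3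

set_option maxHeartbeats 4000000 in
theorem bf_vv {T : Matrix (Fin 3) (Fin 3) F3} (u v : V14) : bf (Xvv T u) (Xvv T v) = bf u v := by
  have h3 : (3 : F3) = 0 := rfl
  have e0 : ∀ v : V14, Xvv T v 0 = v 0 + (T 0 0) * v 1 + (T 1 1) * v 2 + (T 2 2) * v 3 + (-T 1 2) * v 4 + (-T 0 2) * v 5 + (-T 0 1) * v 6 + (T 1 1 * T 2 2 -T 1 2 * T 1 2) * v
      7 + (T 0 0 * T 2 2 -T 0 2 * T 0 2) * v 8 + (T 0 0 * T 1 1 -T 0 1 * T 0 1) * v 9 + (T 0 0 * T 1 2 -T 0 1 * T 0 2) * v 10 + (-T 0 1 * T 1 2 +T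
      0 2 * T 1 1) * v 11 + (T 0 1 * T 2 2 -T 0 2 * T 1 2) * v 12 + (T 0 0 * T 1 1 * T 2 2 -T 0 0 * T 1 2 * T 1 2 -T 0 1 * T 0 1 * T 2 2 +2 * T 0
      1 * T 0 2 * T 1 2 -T 0 2 * T 0 2 * T 1 1) * v 13 := fun _ => rfl
  have e1 : ∀ v : V14, Xvv T v 1 = v 1 + (T 2 2) * v 8 + (T 1 1) * v 9 + (T 1 2) * v 10 + (T 1 1 * T 2 2 -T 1 2 * T 1 2) * v 13 := fun _ => rfl
  have e2 : ∀ v : V14, Xvv T v 2 = v 2 + (T 2 2) * v 7 + (T 0 0) * v 9 + (T 0 2) * v 11 + (T 0 0 * T 2 2 -T 0 2 * T 0 2) * v 13 := fun _ => rfl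
  have e3 : ∀ v : V14, Xvv T v 3 = v 3 + (T 1 1) * v 7 + (T 0 0) * v 8 + (T 0 1) * v 12 + (T 0 0 * T 1 1 -T 0 1 * T 0 1) * v 13 := fun _ => rfl
  have e4 : ∀ v : V14, Xvv T v 4 = v 4 + (2 * T 1 2) * v 7 + (-T 0 0) * v 10 + (T 0 1) * v 11 + (T 0 2) * v 12 + (2 * T 0 0 * T 1 2 -2 * T 0 1 * T 0 2) * v 13 := fun _ => rfl
  have e5 : ∀ v : V14, Xvv T v 5 = v 5 + (2 * T 0 2) * v 8 + (T 0 1) * v 10 + (-T 1 1) * v 11 + (T 1 2) * v 12 + (-2 * T 0 1 * T 1 2 +2 * T 0 2 * T 1 1) * v 13 := fun _ => rfl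
  have e6 : ∀ v : V14, Xvv T v 6 = v 6 + (2 * T 0 1) * v 9 + (T 0 2) * v 10 + (T 1 2) * v 11 + (-T 2 2) * v 12 + (2 * T 0 1 * T 2 2 -2 * T 0 2 * T 1 2) * v 13 := fun _ => rfl
  have e7 : ∀ v : V14, Xvv T v 7 = v 7 + (T 0 0) * v 13 := fun _ => rfl
  have e8 : ∀ v : V14, Xvv T v 8 = v 8 + (T 1 1) * v 13 := fun _ => rfl
  have e9 : ∀ v : V14, Xvv T v 9 = v 9 + (T 2 2) * v 13 := fun _ => rfl
  have e10 : ∀ v : V14, Xvv T v 10 = v 10 + (-2 * T 1 2) * v 13 := fun _ => rfl
  have e11 : ∀ v : V14, Xvv T v 11 = v 11 + (-2 * T 0 2) * v 13 := fun _ => rfl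
  have e12 : ∀ v : V14, Xvv T v 12 = v 12 + (-2 * T 0 1) * v 13 := fun _ => rfl
  have e13 : ∀ v : V14, Xvv T v 13 = v 13 := fun _ => rfl
  simp only [bf, e0, e1, e2, e3, e4, e5, e6, e7, e8, e9, e10, e11, e12, e13]
  linear_combination ((2) * T 0 1 * T 0 1 * u 13 * v 9 + (-2) * T 0 1 * T 0 1 * u 9 * v 13 + (-1) * T 0 1 * T 0 2 * u 10 * v 13 + (1) * T 0 1 * T 0 2 * u 13 * v 10 + (-1) *
    T 0 1 * T 1 2 * u 11 * v 13 + (1) * T 0 1 * T 1 2 * u 13 * v 11 + (-1) * T 0 1 * u 12 * v 9 + (1) * T 0 1 * u 13 * v 6 + (-1) * T 0 1 * u 6 * v 13 +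
    (1) * T 0 1 * u 9 * v 12 + (2) * T 0 2 * T 0 2 * u 13 * v 8 + (-2) * T 0 2 * T 0 2 * u 8 * v 13 + (-1) * T 0 2 * T 1 2 * u 12 * v 13 + (1) * T 0 2 * T
    1 2 * u 13 * v 12 + (-1) * T 0 2 * u 11 * v 8 + (1) * T 0 2 * u 13 * v 5 + (-1) * T 0 2 * u 5 * v 13 + (1) * T 0 2 * u 8 * v 11 + (2) * T 1 2 * T 1 2
    * u 13 * v 7 + (-2) * T 1 2 * T 1 2 * u 7 * v 13 + (-1) * T 1 2 * u 10 * v 7 + (1) * T 1 2 * u 13 * v 4 + (-1) * T 1 2 * u 4 * v 13 + (1) * T 1 2 * u
    7 * v 10) * h3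

/-- **The form is invariant.** -/
theorem bf_act (A : Sp) (u v : V14) : bf (act A u) (act A v) = bf u v := by
  have h : A ∈ Subgroup.closure {A : Sp | (∃ T, ∃ hT : T.transpose = T, A = uu T hT) ∨
      ∃ S, ∃ hS : S.transpose = S, A = vv S hS} := by
    rw [H980.F43.gen_sp]
    trivial
  induction h using Subgroup.closure_induction'' generalizing u v with
  | mem x hx =>
    rcases hx with ⟨T, hT, rfl⟩ | ⟨T, hT, rfl⟩
    · rw [act_uu, bf_uu]
    · rw [act_vv, bf_vv]
  | inv_mem x hx =>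
    rcases hx with ⟨T, hT, rfl⟩ | ⟨T, hT, rfl⟩
    · rw [H675.F43.uu_inv, act_uu, bf_uu]
    · rw [H675.F43.vv_inv, act_vv, bf_vv]
  | one => rw [map_one]; rfl
  | mul x y _ _ hx hy =>
    rw [map_mul]
    exact (hx _ _).trans (hy _ _)

theorem bf_nondeg {v : V14} (h : ∀ u, bf v u = 0) : v = 0 := by
  have hs := fun k : Fin 14 => h (Pi.single k 1)
  ext k
  have h0 := hs 0
  have h1 := hs 1
  have h2 := hs 2
  have h3 := hs 3
  have h4 := hs 4
  have h5 := hs 5
  have h6 := hs 6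
  have h7 := hs 7
  have h8 := hs 8
  have h9 := hs 9
  have h10 := hs 10
  have h11 := hs 11
  have h12 := hs 12
  have h13 := hs 13
  simp [bf, Pi.single_apply, Fin.ext_iff] at h0 h1 h2 h3 h4 h5 h6 h7 h8 h9 h10 h11 h12 h13
  fin_cases k <;> simp <;> assumption

end Cfsg.Agent.H69.F43
end

-- part: H69/F43/Lag
section
/-!
# The 1120 Lagrangian points of `V₁₄` (S2464, F₄(3); helper69): the table

`lg i`, `i < 1120` : codes of the long root vectors up to sign, increasing; `col g i` : the image of the point `i` under the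
generator `g`.
-/

set_option autoImplicit false

namespace Cfsg.Agent.H69.F43

open Cfsg.Agent.H700.F43 Cfsg.Agent.H675.F43

/-- the points: code, parent, generator, distance -/
def LB : ℕ := 0x2db4faaa02502d402aa906592db4daa8884428c28aa849652db4baa612592db4aaa498652db49aa41a542d3fcaa2a014293caaa261952db46aa1a4952d3f9aa126542d9b9aa06954293cdaa02a552188ea9aa90129893a9a68a125b40a9a2a512ab9ba99a1892db3ea98a5452843aa9826542a398a96892934a32a9540002d216a9502502ca2da94444420436a9406552d3eda9299152db38a921a542ca27a9150142043ca9112552db35a9095542a8cda9054552d9b2a8a96092d1faa899a85253e5a891a5422840a889241253e3a8852611d3e2a8812512d9b6a86a62525b2ea8626542d9b7a852a592203ea82861125b29a8246911db28a8206512a041a80825022030a8042502db25a800250220c4a6aa6012ab9da6a64a12db22a6a25512a0c9a69a28925b20a68aa4528bfea68295429b98a66862935232a6540002d230a6501502ca45a64484420bf8a6409552a335a6296152db1aa6215542d227a6150142a897a6111552db17a609a5420c00a6058552db13a5a015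02b25aa5909592db11a5884442ba5aa58466529a66a5611592a265a5494652cc28a54155435447a52a01432345a52629531b45a51a89529b46a5129542a348a5066542a3caa50255523c11a4a99092ab73a4995852d43fa4915541a83aa48914123411a4851612280ba4811512d9daa46a9252db01a4629542921ea452559223b1a4289112dafca42499125afba4209512a83ba4081502d434a4041502a80aa4001502d99aa2a99212c9f9a2a5a912285ba2a184124be5a29184924be3a285a541cbe2a2818452d99fa26a91925af0a24a9542d99da246a6522375a2289052985ca22084425aeca2189852184ba2108441daeaa2089452dae9a200844233f4a1a96212abb0a1a55911a855a1a144123bf4a1914492cc01a18555422811a1814452d9aba16a6192dae1a14a6542d25ba146565222dba1286052a856a1204442dadda1186852cbf9a11044425adba1086452a810a1004441bbe2a0a10492b1faa0950141a846a0910451b3e2a0890611a82ba08505112808a0810412dad5a06a0142b9fda0660a52b1ffa05a0992d989a0200402d23fa0140002c1ffa0100402d988a0080402c1fda004040241fba000040228f49aa9a012a39d9aa58a12ac099aa195129b9b9a992892abe99a896452d3799a815542a8ff9a68a2935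a329a540002da309a501502da2d9a444442a0979a40555253759a2aa15293469a229542ca879a16014213449a121552d3719a0a654213479a064552dc5099a0150299da999055935c4e998884432bfd9984a652b2a5996215931bfd994a86529bfe99429542d36699290142c2a599252952a9d799194952cbca99115542ac019905a542ac289901955243b198aa5092c286989a9852d35e989295422c11988a1412d35c98861612535b98821512a31d98695252dc3a986155428a2298519591a0389828511233b198245912200b98205512ba8698081502dc3498041502a00a980015035c3096a025032c399690a592dc2e96884442a1ab96845653243996622592bac1964a4652a43a96426542d3cd96290142a9a896251952c2c196198952ac3f9611a542d3c896055542ac4896016551a8f195a95012339e95a54a122c3695a165123b9e959918922bf895899452a43f9581a542439e95685292cac295540002d2a695502502cabd954484429c289540a5522344952a5152ac3a95226542cab7951601429bca95122552abfe950a9542a3c8950685524b9e94aaa092cb9b949a6853244d949265425c11948a2412ac3d948626122c3c94822512cb989469a2535c0d9461a543245b9451659253b19428a112a4379424a9122436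9420a5134b8f94082502a434940425034ac394002502437592aa5212c26e92a669122bf492a24412cb5e92924492cb5c928665424b5b92824452c37e92695192dbfe92495542d2bd92456651a2ea92285052b26e922044423b7592185852dbf99210444222ec92085452981092004442539e91aaa212d39d91a699125bf491a28412ac02919284932c54918695422c0091828452d3989169a1935bef9149a5431c5a914596524b759128a0535392912084429bfa9118a8529bf9911084421bf89108a4531bf7910084423b5b90a2049281f8909601422be590920452335b908a06122be390860511abe2908204135be19069014281fc90650a5289fe90590992d38290200402a8e590140003426b90100402cb62900804034a7990040402c26790000402d19a8aaa5812c9b38aa666122b408aa24112d19c8a9a94922b208a8a105298778a8201424b2e8a62419252f08a4a125218668a4201424b298a266541cb288a22415252ec8a1a9542d1978a16a951d2ea8a0a1152d2e98a020142334089a96812b34289a55611ab2889a14112d1a88999a4922adb89892052a07189810142434089614192d2e189492252cb4989410142cb48892555422b2e89214152d2dd8919a542da9d8915995252db89092152a01689010141c32888a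04192d2d888988442c1af88948a52c32588800102b1b688644441a06188604152b1b788588692da8d88440002b9b788400101b32888284911a02b88244511200588204112d18888080102b9af8804010239ad880001023b2086a99812b9e086a5a6122afb86a18112bb2486995491aaea86891052b1e086810142cb0186618192432086491252d34986410142cafc8625a5424afb86218152d34686195542dab7861569522af0860911529816860101425b9e85aaa812db9d85a69612534085a28112db9b859a64924b20858a20531b4c85820142a34b856281929b4a854a22529b498542014339e9852695422347852281535337851a65431c56851659521b44850a21531b438502014242fb84a0819353328498444281ae84944a52db888480010281b284648442232e8460815291b484584692a0af8444000339db8440010232fb84288912232984248511a32884208112cb088408010349e984040102b9d184000102cad982a42502c19782942991c2ea82881252c2e982800042b99d82642692b99f82581502da7682500001986182481152b19d82400041baea82281852bae982200041984682181452b197821000411802820810523195820000434af781a4150289968194199242db81882252db6a818000429198816416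92899a815825029879815000021af08148215331a9814000423adb81282852d30b812000421aec8118245331a3811000419aea81082052b1a181000042106b80a40592106c80980652db5e80900042db5c80840102118f80680952d30180600043119080540a92cae180480102da6780400002d2fc80240402cadd80180402d1d180100002c9a180040002cac16aa42502d2a56a988442aa1c6a909a52aa046a846992da5a6a6a0142a21c6a621a529a046a4a4992a1ba6a25269299ba6a1986929a256a015a92294269a960122b2969a54512aa1969a15a12aadd6999245323e66995014218c36989a892a2e1696861532b2f6964444322e369582502cb8d69540002a22869409a9218fe692a6292aa2669121a935c2369068a92988f68aa90530c0d68a6954293ba689a54922a21688a1812da4468861912aa1f68821a128c1468699192cb9d68595542c38268515a52221b68289212d28668249612a21968209a12294566a99012aafc66a58512208d66a1aa122aec6699145333c366950142aa0166895892a25a666891531b02666484432af266581502d36f66540002d36a66406a9220fe662a92935c4666122a92aa2566064a934a8f65a415035275659844433bce65906a53224f658499931ac8656a0142c3ca65622a52c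3c8654a899291b965251692d26e6519469291ba6501aa92da2464aa60528c3a64a66542caa5649aa4925a21648a2812c3b764862912d26764822a12c28764696192c3b06459a542c3af6451aa52203f642862123bb1642466129a1964206a12a0c562aa6112937e62a656122a0a62a2481303ef629a6542da1462924852aa076282489283f662696252d39b62655542c362624559921a036228609283e9621864929a0162086892da0c61aa9112d2c161a6a6125a0a61a2881283fe619a9542c37c61928852ca6761828892c26f61699252c3736165a542c3716145a992185a61289092337561189492a2016108989303e160aa0142a9ff60a20852ba6760920892a9fd608a0912b26760860a1229fb608208120be76065059203e460590652d9f8605501434b64602404032acf60180402cb66601400022b9e5aaa5012aac15aa64512288d5aa26a12aaa55a9a14531b5f5a96014228c35a8a989222f05a68515334205a6444433c1e5a581502db155a5400033c205a40aa92a1b95a295292db0b5a112a92db085a058a934a4759a415031acb59988442bc285990aa528a01598459934a4259690143442459612a52d9e0594949932a9359261692bc22591a86928a0459026a92d22458a9a052943f58a5a542ba45589964922842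58892812441158852912c40f58812a12ca5a586aa192d9d7585a6542bc0f58526a52521b5828a212bc0b5824a612d9d15820aa1322cc56a4250359cd56984442821956905a52b4485684a993521256690142d9c956611a53444256498992b444562626933c42561a4692821c56029a92ca2455aaa012931355a68512520a55a29a129311559a245359c0559601424a21558a68928b665568a1535b4e556484434457555825035b5155540002540055405a924a1b5529a2925b4755111a925b4455054a922b7554a950535b2d54a555423a2154999491a83c54891812282f5485191251fb54811a12421b546a5192d9b3545a95425b3354529a51a03954285212202e5424561259ad54205a12ca0c52a9a112b21652a59612285d52a188129c3f5299a54243f452918852c3f152818892d25a526aa252d9a852669542b3f1524699924a035228a092b3ed5218a492d9a15208a8922bb151a95112320a51a56611a85751a148135af351995542284a5191485249fb518148924203516a5252d99c516665425af55146699198545128509218495118549259955108589333df50a90142285150a1085239fb5091089228365089091231fb50850a11a8095081081233e5506605923be3505a0652598f5056014343df502404034a0e501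80402cbed50140002a8f54aa9a4128b244aa5991221c24aa1821283424a996852db984a95554219bf4a8920935ac84a69a5428b1a4a61825283354a492192a1bb4a218292bb084a15569299b94a092292d1c449aa9412dac149a6a91251c249a28212b9e3499a5852c324499665421875498a1092a3fe496a9542bb22496282523320494a1192c9d149228292bb1749166692a9b9490a1293033248a88442a1b748a082521333489445934b0e48840102c1d148608292032a48584952d1b24854444322d248480102cb1148440002a1af48288612b1d148248a1221ad48208212c9c446aa6412b1ce46a65912207846a24212daa5469aa852d1ab4696954249bf468a20929c3a466a65423b4046624252b33e464a2192bb3846224292b33846169692d1a1460a229228f245a9541231c245a56911a07245a1421239bf45999852d19f4595a541986f4589109352f64569554220654561425218644549119249ad4521429252ee4515a692519545091293332d44a84442206c44a04252332e449485933b2d4484010241ad44604292432944588952518f4454844349c844480102cb3e4444000220354428461231ad44244a11a006442042130af742a8250212f54294165312f442900042999d428821920aee426419530aed426000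42c99a42541502d31342500002c1a142482292999742282492b9a1421828921995420820933af341a815023af0419426533aef41900042186b4188119242ec4164295342eb41600042498f41542502d3224150000241954148129218504128149239954118189198034108109292d840a40a5351db40a0004292d94098099349a940880102906240680691906140540552b2d940500042bad8404401025b5b4040000349a340280402c2d54014040252fb401000024adb400400034ada40000002a3ba2aaa90929b7e2aaa6212a9c42aaa5412a9212aaa4912a9102aaa185302c82aaa01429b242aa9a812ac0b2aa99112a1562aa98612abed2aa9605349062aa9554299552aa92492a10d2aa8925302cb2aa88442991c2aa861930acc2aa82502989c29569543391229568a52b11029561992933c29554592a99f29552653226429550142d11029549692a19c2954695329d629544442a19a29542503591829540002b92226566542b92126564a53312026562992a9b626558592931d265516531a64265501428bfa2654995299b226548442c9212654669329a626541503592926540002d15625aaa412a37e25aa9212d15725aa89129bba25aa6092c95725aa2853413325aa014311c025a9a542abfc25a99052ac3825a961122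8f325a9581223e425a946121be725a914929b0625a89192a2e625a86253413125a84443493125a815030275202a9542a393202a91530a8f202a6542a308202a615328f8202a09532be1202a014241452029929241422029629282652029069231452028981220f220289411a0f120289012314220286812204020286411a03d20286012c94320280402a9ba2016a69210fe2016569330f820160a9240f22015a95240f32015a542c93d20155952c93c20155542298f20150552d93920150142c8f62014040248f420140002934b1a564592934a1a56165299f81a560142c1571a55a542c1561a558a52c9561a55299331531a54a6928b731a54595319d61a54444321a61a541503515f1a540002d92119aaa112ab2419aa9812d92219aa8613316819aa6542aa2419aa50529b6019aa1492d11c19a9a092b12119a9641220c019a952122b2a19a94912aadf19a92853396a19a90142c92219a8a253396419a884421b3319a85193496a19a81502d91016aaa053397216aa9542c91016aa6812c10d16aa5112a35d16aa4612d91116aa2492c90d16a9a212b91016a99412aafd16a98912188a16a950922aee16a91853317416a90142d11116a8a19222f516a85253517416a84443316d16a825031c391556859323fd155626531933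15560143398515555542839d15554a528b9b155519932b451554a953196415548442939815545693216d15542503497d1554000248fe102aa291c0f1102a5292b139102a0692913c1029a542913d1029a152c13d1029554240fe10295152aad51029095358f81029014248f31028a81248f21028a411c8f11028a011b0f110285811a03a10285411203710285012c8f510280402c14310169952c14410169542c14610166952c14710166542a93910160552a9f810160142914a10159692914910156693225310150a92c944101404024942101400032275088a9542ab9a088a945238df088a589230df088a121228bf088a1111a8be088a101312470889a542ab620889a45238d90889689230d908892212283e08892111a83d0889201320bc0888865323320888844281d708884992c8da08880102a2040846a99238bf0846665238c00846654208c308459992c8d308455652c8d20845554330bc08448a92218f08444552d0cd08444442c8c60844010248c40844000248c3048aa89288d2048a654288d3048a645248c0048a221248bf048a2111c8be048a2011b8be04899892b8d30489554238c304895451b0be04891211a83804891111283704891012b0cd04888992a2d80488465350bc04884442c8c504880102b8da044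69652b8db0446954288e204465992b8e00445a652b8e10445a54288dc04456992a0cd04448552a1b2044484432a9b04444a92c8db0444010248d9044400031a8f02a26542ab9c02a2651230a902a25a1238a902a24092288902a24051a88802a240131a4702a1a542ab8202a1a51230a302a19a1238a302a18092285902a18051a85802a18013188602a025931af702a0250289a802a01a52d0a402a000429a1c0252aa52308902529592388d02529542008d02516a52d09d02515592d09c02515543388602502a92198f02501552c89702501502d09002500042508e02500002508d01a2aa12b89b01a29542809d01a29512508a01a28092508901a28051d08801a28011b08801a16a12b09d01a15542308d01a15511b88801a14091a85301a14051285201a14012b89701a02a529ad901a01593488601a01502d08f01a00042b0a401526592b8a60152654280ac01525a52b0aa0151a592b8ac0151a54280a601519a52989701502552999a015025030ae701501a92d0a50150004250a301500001b07300820212006600820141a87000820111b87300820091a86e00820051286d00820011306d00810212306700810141280500810111386d00810091280200810050a800008100118861008002518803008001925876008001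02587400800041b87000420251b06e00420191d86100420141807200410251886f00410192586600410142086b00400291080200400152386c00400102306b00400041d87300400001b05800208812004b00208441a05500208411c05800208091a05300208051205200208011305200204812304c00204441200800204411405200204091200200204050a00000204011904600200851900300200492505b00200402505900200041c05500108851b05300108491d04600108441805700104851905400104492504b00104442105000100891100200100452405100100402305000100041d05800100001b83d00082812083000082501983a00082411c03d00082211983800082111183700082011383700081812383100081501180800081411403700081211180500081110980000081011902b00080911900600080612484000080402483e00080101c03a00042911b83800042611c82b00042501883c00041911903900041612483000041502103500040a11100500040512403600040402383500040101c83d000400032a910002aa932415000295532bc1000295432390000265532ba500026542913f00025a923017000202922817000201522866000201432b940001a5532b990001a54288d100019a92809b00016a9290f9000155531c4300015542006500010291a86100010152581700010142301100008892201100008452204b00008442004a00004891a04600004452501100004442380b00002a12180b00002512183000002502082f00001a11982b00001512480b00001501100800000810900000000411c00900000401080500000210880000000111b80600000101000200000090800000000051b0030000004000000000001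

/-- entry -/
def lent (i : ℕ) : ℕ := (LB >>> (48 * i)) % 281474976710656
/-- code of the point -/
def lg (i : ℕ) : ℕ := lent i % 268435456
/-- parent -/
def lpa (i : ℕ) : ℕ := lent i / 268435456 % 2048
/-- generator -/
def lge (i : ℕ) : ℕ := lent i / 549755813888 % 16
/-- distance -/
def ldi (i : ℕ) : ℕ := lent i / 8796093022208 % 8

/-- images under the generator -/
def LC0 : ℕ := 0x4334362cb17043c2c443f2c81742c643a1764392b41754532b12b24552ab16c45f16e45e2ae45917145b2ad1732c22bd4462bf1724442b744d4502bc16f4482ba16d44a29016a41528d28e41728716142116442028a41b16641d28916840640929916340f29241229616929440d16b40c2a82a34262a516742429d42d4302a21654282a016242a27213d40040313c40227827514026f3f726d3fb26e3f927e13b3f13f413a3f328428113f27b3e82793ec27a3ea3e21383e72651393e526c13e2693d91363de2621373dc2481313bb2452463bd23f12b3c712d3c62423c11333c32411353ac3af25112f3b524a3b824e13024c3b31323b226025b3cc25d1343ca2553d33d625a12e3ce25812c3d037f38223b10238823438b2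3810523638610738522410639f2212223a121b1003ab1033aa21e3a51083a721d10a23222d39222f10939022739939c22c10439422a1013962060ed37937c0ec37b20c2090e82033702013742023722120ef36a36d0ee36c2182150e920f36120d36520e36335b0ea3601f90eb35e2000e71fd3520e53571f60e63551e50d33471e81e334334f1dd34c0d234b1e20d41e03491f10d03381f41ef3343401e933d0cf33c1ee0d11ec33a3281dc0ce3250cc3331d30ca3301d70cd32e1d50cb32b1c10b631a1c41bf3163221b931f0b531e1be0b41bc31c1cd0b930b1d01cb3073131c53100b830f1ca0b71c830d2fb1b80b12f80b23061af0af3031b30b33011b10b02fe0300321982f40311a02f119d2ef1962ed1972eb1952e902d02f1a42e502e1ac2e21a92e01a22de1a32dc1a12da02b1902d70291922d402c1912d102a18b2ce0284341792b84371812b618343d17e2c017d4422ac17b44518017844917744b2a91852af4511864541841824572c717f17c2c317a45c2ca15942228815542515715442915142b28515f28b43140715229e40a15b29c15e4101562a615d41616015c41929515815a29115341e29814d3ee28014e27f2821493f23f514214314414f3fd27415027327614a40140414514614714b26a26714c3e02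6b3e31483e63da1413dd1263c82401253cb12911c3cf11b3d123d1222433d73ad11d2563b011f2541213b612825e1243bc1231203bf24d12a12724911e3c425038010c22838310f22611238911623011a38e21c11539111810e39510b39721911421f39d1113a01131103a323711711923310d3a823a0fb3672140fc2132160ff36b36e0f40f50f60f93762080fa20720a0fe37a37d0f10f20f30f71fe1fb0f83591ff35c0fd35f3530f03560dd3361ed0dc3390d90de1eb0da1f23410db0e33451e10e23480df0e41df0e01e63500e10d71d83293261d10d632f0d532c0d83311db0c73091c90c930c0c40c81c70c51ce3140c60c13181bd0c331b0be0c21bb0bf1c23230c00bb1b42fc2f91ad0bd3020ba2ff0bc3041b70412e41aa03e2e71a72e81a503f04004203d03b2f319e0382f619b2f719903903a03c0372d31930360330352d918e2d618c0342d01892cd18745243b44e45644f45844044745a44144343e44c45d4384352b32b52b02c12c52be2aa2c92bb2cc2b928f29b28c2a72932a42972a128629a29f42e40e41843242f41a42341442741341c41140b42c41f4083fe3ff3ef3f03df3e14053f63e43fa3f83fc3eb3e93ed3db27728326827027127c27d26626426326125f24b25c24725324423e24f2592522573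cd3b93c23c93ba3b73d83d43b43be3d53c03d23c53b13ae38d38f38c3933a638a38739a3a239e39b3a43843983a938123123522e22322522023922b21a23c22936f37e35d36836937737835835a3643623663733713753542102112042051fa1f821720b1fc1f71f534634e35134a34434d33733f34233b33533e32d33232a3271e71de1e41f31ea1f01d21da1d61d91d431530a31230e30831132431932131d3173202fd3003052fa1c61cc1cf1ba1c01c31b61b21ae1b51b00230240810a90ab0aa01d01e07e0a30a50a400e00d07b09f02709109201b08b08c00f08608509509409e02502608e09008f09b01901a08808a08909800b00a0840ad0ae0220a70a801c0a20a100c07a07906801f02007307507406501601706d06f06e06200500406902107607701807007100606b06a05f05e04d01301405805a05904a01001105205405304700800704e01505b05c01205505600905004f0440432df2e32dd2e62e12db2ee2f22ec2f52f02ea2d52d82cf2d219c19f19a1a81ab1a619418f18a18d18809309d09c0830820ac07806706608007f0a608d09a09907206406305d04c04b05704904808707d07c0a009709605104604506c061060000003001002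

/-- images under the generator -/
def LC1 : ℕ := 0x2cc1633f73f82c54004012c82c716a16b3fe3fd27827627717441541626f16c16d41f41e27227117117241b41c28a13d13c43c43e43d29028f14028728528643343543428428228316945345427b16116245d45c27e27d16616745945a29a1703e83e92933f13f22962951751763ef3ee2ae13b13a40f4114102b42b313f2ab2a92aa4064084072a82a62a716842342229d42d42e2a22a11651644284292c22c02c11734434422b744d44e2bc2bb16f16e4484492661381393e23e43e326c26b13e2631361373d93db3da21821621713039f3a020f12b12c3a93a82122111331343a53a625210236136224b36a36b24e24d10610736836721e0ef0ee3b53b73b62242230e921b21921a3ac3ae3ad23c12f37037123537937a23823713113237737620c20a20b1053bb3bc2031001013c53c42062051081093c13c22420ed0ec38838a3892482470e823f23d23e37f38138026025e25f1353c93c82553d33d425a25912e12d3ce3cf23223023110a38f38e22739939a22c22b1041033943951fa0ea0eb35b35d35c2001ff0e71f70e50e63523543531cf1d01ce09d3443431c734d34c1ca1c909c09e34a3491c31c41c20803353341bb33e33d1be1bd07f07e33b3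3a1b404b04d3301b81b704c32c32b1ae1af1ad3273263251f31f41f209a3173161eb32031f1ee1ed09909b31d31c1e71e81e60833083071df3113101e21e108208130e30d1d804804a3031dc1db0492ff2fe1d21d31d12fa2f92f81ac0982ea2e91a30960942f52f41a81a70970952f02ef1a007b2db2da19707c0792e62e519c19b07d07a2e12e01900460442d61941930472d22d118b0450432cd1773f93fa29e18118229b17b4022a315815615744444527015315244a44b26d15d44f27314f15040c2b02af2b114a41241314514614717f17e18042442527c17a17942a42b27918642f27f1513ea3eb2b815b15c2b51553f32bd14d14e43928c28b28d14943f4401421431441851841834554562c617d17c2c317845e2c915f16015e41741829415915a29115442029714b14c3df2682672691483e53e61413dc3dd1171161183ca3cb21010d10c3d03d120d1113d521311b36336422811f12022512536c22d0fb0fc3852442432450ff38b38c0f40f50f610b37237325610f11025311537b25b12a12812939039120411e11d39639720112439b2070f90fa3b222021f2210fe3b83b90f10f20f31141131123a13a223611a11923310e3aa2391221231213bd3be24c12612724911c3c624f0f70f83581fc1fb1fd0fd35e35f0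f03553560a70a60a33183191ec0a80a41e90a53211ef09109308e30930a1e009208f1dd0903121e305c0593001d905a3043051d51d405b05d0580ad0ac0a93453461c80ae0aa1c50ab34e1cb08b08d0883363371bc08c0891b908a33f1bf05605332d1b50543313321b11b00550570520a12ec2eb1a40a009f2f22f11a10a22f61a90852dd2dc1980870842e32e21950862e719d05104e2d31910502d82d718d18c04f2cf2ce1881873ff43243043145745840440540342742645b3fc3fb42c45f2752742b62922bf2be26e2982992ba2b928128029c2c42a52a42ca2cb27a2a029f4504524513f041941a4464473f63f53f441d44c3ed3ec42140d40e43a43b3e03e14144413e740a40940b4374364383de28e2b226a2882892ac2ad26526426226123425d25c21521425420e23a23b25825736f36e36d3923933c336939c39e39d3bf3c03663653983c73cd3cc37d37e37c3a73d83d63d73783a33a43d23753743ab24a22f22e20920822625025120222a22938d3ba3603863873b33b435935a3833823843b03af3b135721c21d2402411f91f82222461fe1f61f50250260b70df0e10e001d01e0b40d90db0da0140130b10d50270c70c801c0c10c20150bc0bb0cb0ca0d40230240c40c60c50d101901a0be0c00bf0ce0110100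ba0e30e40220dd0de01b0d80d70120b00af34835035134b34734f31b32332431e31a3222f32f72ee2ed1cd1c61cc1f11ea1f01a21ab1a61aa1a531530c31430f30b31334233934133c3383402df2e42e82de1de1e41e51ba1c01c119f19a19619e19907301f07806702007606d01607206401707000206206a00107402107706e01807100306c06006905e2fd3022fc3063012fb32a32f32933332e3282d52d92d02d41b31b61b21d71da1d619218f18a18e18903200d00e03d03f03e02f00a00b03703903802c00800703300f04004100c03a03b0090350340290280c90b90b80d30d20e20750680660b60b50c30dc0d00cf06f0650630bd0b30b20d60cd0cc04203103003c02e02d03602b02a00000600406b06105f005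

/-- images under the generator -/
def LC2 : ℕ := 0x2cc2c92cb2ca1301311323433443473483463451e81e61e71e31e51e417016c16d16e16f3bb3bc3c03bf3bd3be2462482472452432440d30d20d44364384374334354341d01ce1cf1cb1cd1cc16316116216416539f3a03a43a33a13a229a29729929810510610730730830b30c30a30922222422322121f2200b90b80b740940b40a40640840721721821621321521409d09c09e3f83f73fc3fb3fa3f920b20c20a2072092080830820813e93e83ed3ec3eb3ea1fe2001ff1fc1fd1fb0660680673de3dd3dc3db3da3d91f41f21f31ef1f11f012f12b12c12d12e45345445845745545625224f2512501741751763343353383393373362b22b42b32b12af2b00d00cf0d13af3b13b03ac3ae3ad23c23923b23a16916a16b31631731a31b3193181c41c21c31bf1c11c010210010110310441541641a41941741828e29028f28d28b28c0b60b50b438238438337f38138028328428227f28128009a09909b37137037537437337227727827627327527408007f07e36236136636536436326a26c26b26826926706306506435735635535435335226025e25f25b25d25c1351341333c93c83cc3cd3ca3cb2c22c02c12bd2bf2be1731721714434424464474444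451da1dc1db1d90cc0cd0ce0ca0cb32832a3293253273262a82a62a72a32a52a416816716642342242642742442523223023122d22f22e10a10910838f38e3923933903911b61b81b71b50b20b30b10af0b02fb2fd2fc2f82fa2f91ac1a91ab1aa0980960940970952ea2e92ee2ed2ec2eb1a019d19f19e07b07c07907d07a2db2da2df2de2dd2dc19219419319106105f06206005e2d02cf2ce2cd17717917a17834934a34b25425325512312112212011f12444844944a44b44c1de1dd1df0e30e40e20df0e00e13b23b33b42aa2a92ab11311211411010f11142842942a42b42c1c61c51c715115215315430d30e30f2262252270c70c80c90c40c50c63853863872862852870ad0ac0a90ae0aa0ab37637737827a27927b09109308e09208f09036736836926e26d26f07707407507607807335835935a2632622611841831851821811863ce3cf3d03d13d21ea1e91eb11b11d11e11c33a33b33c2b62b52b70dd0de0dc0d90da0db43943a43b23e23d23f10b10c10d10e31c31d31e29c29b29d16015e15f15c15b15d3943953963973981ba1b91bb0c10c20c30be0bf0c040c40d40e21a21921b0a70a60a30a80a40a53fd3fe3ff20e20d20f08b08d08808c08908a3ee3ef3f020220120307106e06f07007206d3df3e03e11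f71f61f518017f17e17d17c17b45945a45b2c42c32c512912a1281261271253c13c23c324a24924b0d70d80d60d532d32e32f32b32c1d21d11d311811711611a1191153a53a63a723423323515715815615915a15541b41c41d2922912930bb0bc0bd0ba3003013022fe2ff1ae1ad1af0a10a009f0a22f02ef2f22f12f31a21a11a30850870840862e12e02e32e22e419619519706c06906b06a2d32d52d42d22d118b18a18918818734e35035134f34d34c3d83d63d73d43d33d545c45d45e45f1e21e11e024c24d24e2b82bc2bb2ba2b91ca1c91c82362372382a22a129e2a029f31531431331231131039939a39c39e39d39b42041e41f42102502602302402001f0e90e80e71451471461421441431410270220210fb0fc0f90fa0f80f71371362c62c72c81ee1ed1ec25625a25925825745045245144d44e44f33f34234134033e33d3c43c53c63c742e42d43243043142f32332432232132031f3aa3a83a93ab2942952961be1bd1bc22c22b22822a22914013f13e01d01e01901a0170160f40f60f50f10f30f20f014f15014d14e14c14b01c01b0180e60e53b83b93ba3b63b53b743f44044143d43c43e3313323333302422402412ae2ac2ad1d81d71d61d51d438d38b38c38938838a41441241341040f4113063043053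0321c21d21e28828928a1b31b21b41b11b037a37d37e37b37937c4014044054024004032f62f72f52f421221021127e27c27d1a41a81a61a71a536f36b36e36c36a36d3f63f23f53f33f13f42e62e72e82e520420520627027127219c19a19819b19935d35f35c36035e35b3e43e63e33e73e53e22d82d92d62d71f91fa1f826526626419018f18d18e18c05801305d04c01405b05201005704901105500204704f00105901505c05301205600305104504e04303d00d04203100e04003700a03c02e00b03a00502c03400403e00f04103800c03b00603602a0330280ff0ef0ee0ed0ec0fe0fd0eb0ea13d13c14a14913b13a14813913805a04d04b05404a04803f03203003902f02d00000900703502b029050046044008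

/-- images under the generator -/
def LC3 : ℕ := 0x1771da3c53c426636736841a41930930a38f38e23223023142f0c70c83d22b92ba0cc0cd0fb0fc13813901901a08a2142153e23e43e31c91ca10a32832a3294344334350a90ac0ad26a36a36b1b41611623953943383394454443bc3bb29a3aa0bb0bc45b0d00cf14b14c0ef0ee0230241241f11f043e43d43c21221108338438338240640840711411211322239939a2423c13c23663653643633623611c21c31c43210c20c134b0d20d305305604a0480110101552a42a541040f4112c82c71743de3dd3dc3db3da3d90a30a60a71fe3f13f21d812b12c44944830b30c39139041641525245e0d70d83a70b90b80f70f813b13a01d01e15d1cd1cc38a38938827e27d0804384374363ac3ae3ad10b1b641f41e1fa3ee3ef3c03bf3363374434422c22c02c13d50dd0de42c22922a0b20b314d14e0ea0eb02502609028028135b35d35c1ed1ee1732fb2fd2fc38037f3811851831842b244d44e28a41b41c3ed3ec3eb3ea3e93e81e61e71e834e0e40e331e0b50b605905c04d04b01401312525c25d3b63b53b723823710535735635535435335211811611728e31131021e30e30d39239341741830830720a20b20c40206e0713780650630fa0f913c13d0170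1611c2cb2ca33025925a17032c32b3b03af3b132732632518017e17f24633e33d2ae33b33a4464473bd3be33533427627727837b0740773ff06806615014f0ec0ed02001f15423b23a3032a12a21022ff2fe40a40940b2fa2f92f80a11922e62e51900960942e12e02df2de2dd2dc2db2da1a02f606c0692f319a19906105f05104e0460440020010861ab1aa2d61a81a707b2d22d12d02cf2ce2cd45f2512500d62962950b71480e901b08808b08d3e53e621332e32f16d16c2561c729c23311a11931228d28c28b36909909b23f23e23d3d83d63d72bf2be0dc22c22b42a42b0b10ff13e0221513053042393e13e02102c51ea2530aa0ae36c26726926833c1321311ad1af1ae34f3503511e41e50e21bd1be0b405404901212a1281293b83b925b38738623620f20e20d18118244f2b02af2b141d16716626326226143243043122f22e0c92bc2bb3d03d10ce1490e701c11b3323312c935a35927c2351c629b0a40a83f31fb1fd1fc30f16b16a1d11d31d23ab2992980bd24e24d0d10fd13f02708e09109335e35f27f30130210110029e1eb2542c317d17c33f2452442433f009c09e2872862853223233241c01c10c31e11e20d405a04c0151581561574124132a343b43a2c627b27a27910f11039b22021f2213c31341331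f71f61f540340440520820906f27127206414a0e801816015e15f38c38b1cb40d40e1c829d2341c517917a3c61d944c12e12d1d51d42aa2a92ab37c37d37e2742750752052060670fe14002112312112244043f1ef3b33b41ec2552c41e910c10d4201b53981651641b11b021a21921b2f719f19e06b19c19b2f22f10620500470030852d82d71a92d52d407c0791a41a31a21a10a009f2e71912e409709518d18c18b18a18918818738d1ce1d01cf15c15b21621821708908c3e711e11d3332cc21d21c16909a26526412f1d71d644a44b0820813df3b21721711041033002a029f36d36f36e0ab26b26c24724834034234117b10e1b71b84213cc3cd3483474574582271bb2930f60f50f405705505214124a1de2b63a23a131831942442513713640c10910807f07e35832d16f16e25825731331531428f2901150a53f43f63f51ff2001db1dc1783c708f0922822842833601f21f41f344112011f30615315223c09d1f91f82ad2ac1301b31b21633963971df2b724b31b31a4264273a33a405d05b0581441431420f03453464564553ca3cb1ba2922260e60e542d42e22d0c60c50c440140020707207006d45c45d24f0d52943a63a52703763772b83ce3cf0cb0ca27337a3790780760732bd3d33d40db0da0d92973a83a90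ba3fd3fe20445a45924c4284292280b00af12725f25e3ba12626015a2a72a64141592a82d91ac0870841754391761063851072d307d1a607a1a54512b34501862b445239d22339c11122439e1940a22e819313524124016828928818f2e309818e2e20e134c0e01e334d0df0c031f0bf1bf3200be2f519d06a2f434a1e034931d1bc31c1982f00602ef05e1473fb14626f3fc1450f33740f22033750f12ee19704f2ed3fa26e3f93732023721962ec0452eb04300903000800600500004200a04003f03e03d02f02e03403303603500d03203103b00c00b02a0290282b54534543c83c92491dd34434342242329122539f3a01b931731626d3f83f720137137002c02b04100f00e02d03c03a0070390380041952ea2e9037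

/-- images under the generator -/
def LC4 : ℕ := 0x3ab3aa1791ab38526538641a30941839230c3900df2683880e20e338b19816c39616e3943173a142539f31942212412039912320b39c2123a53a738438338238138037f23245109122d22f0923d229f0962a10970fb01913801a0fc1390850862993c409a45a09914b0ed14c0250ec0261bf1c108c1c434108b34a09c09d03802f00b03b02d00a0c02443e23e72473e51e01e21092ea3f92ee3f72ec3fb1141f34034021f04002422410b93663e83643ec3623ea3f32be3f11562c13f42c816a2c63de3dd3dc3db3da3d90d91fc40f0dc0dd4121a412b42a12d42830841739141530a38e42142011d19f40c1f940d3a43183a242631b42418618242d18428343027241b41d40b40a4094084074060a10a223b45c0833c20820f713b0f801d13a01e2a83d70a72a32a50a844c22907c22b07d14f0230ea0241500eb1cb1cd0ae1d03500ad33b07f08003e03200e04103000d15f1e736d36c1e436a2ae2ad0b63fc3703fa3743f83720c62b035b3602b335e1ec1ee1672db3632df3612dd36537b25c37911625f37c24e10624c35735635535435335212927731312512631030f20630d41630b38f41939330718021732217b17d31f31e27e31c3a031a4233a34273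163060d71943030cc3011900ca2fe2fd2fc2fb2fa2f92f822143d0702222240710643b406313c0170fa13d0f901628d3b607628e29007706743b0660ee02014e0ef14d01f06b1b833106a1b206132d1b006003602b0050330290042cc2c910d2f41632582f125a2ef3732ed3712eb3752e925224f1532e51022ba2e22bc2e03eb2de3e92dc3ed2da1da0bc2d71d91d72d40b11d52d12d02cf2ce2cd23c45d0a02392960812940e814801c3d82a70a63d42a43d522c44922a44b07b0ff02213e34d1cc34e3511cf0ac1bc1be07e03902e00c0be3e32430c13e60c32f01642f21612561dd2492b52e81522502e73e12403df1ea2c425411a37a11511837d25e36936824d23f23e23d12a3142761272742733870cf0d120f20e20d0e03892670e426b26a31d13213019519719618128027f18343128217341c17126326226145223109344e22e44f2a23cf2a03d109814a01b0e729a3c508729723809b23613f0fd02733e1c033f3421c308d1c81ca09e03f03100f2f710c2ca2f635a2ac3581de24a2b60c435c2af0c735f0c92e11032e31002b81e92c32531593f21551573f52c03ff3fe2c72ab2aa2a90da4101fb0de1ff1fe30e1761741a11a31a217f32321617c21421340e0d20d426f26e26d11f20820712139d20a1353a61331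f71f61f543e22007244022344128906528a0180e91493b728c0783b928f3ba21d06821e0211400fe33206c1b61b50621b332f1b132c03502c00616036e1e615c36b15d3ef1e13f01df24b2b71134041f21104011113771ed3781eb2c52550bb1db2d92d61d82d50b22d20af1d31d21d11773a81aa17812e1a712c1a542c27a27927b11b41e19e11c16f19b16d1993982022012033041930d60d53000cd18e0cb18c18b18a1891881871e336f1e815e1e515b2450bf3e42480c22462f52cb10e10b0b83e00b71683761662e41042bb1012b92051752042660d02641a842912f1a642b38a0e126938d38c26c21532021832417e32119d11e41f1a03463443c93cd4564581b922729203c03a0370f60f50f41412351c629b3bf3bc33633944244513713610a3ee1080b53590b42f31652591622570c52b135d0c82b42b21ef1f44051121f110f2e62511541513112753152781283120db4111fd4144132001a917a3a91ac1fa0d31f827d13127c19c39517019a3971c529d2343373354434473be3c004204003d1471461450f04574543453483c83cb2931ba2250e60e511925d25b37e11726015a2bf2bd3f61582c22d81dc0bd0ba1693fd16b1053671072d30b31d60b01d442f28142e18528443239b20939a12220c39e1920d83051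9113421121017227127018f3020ce18d2ff44d45023009008f08e43f43c21f06f06e06d45e45f23a09f2953c33c12883b23b329e3ce3d009509428b3b83b50750740732a63d33d60a50a40a32983c63c708443943a21c45b45923744844a22807a0791ce34c34f0ab0aa0a91c233d34008a0890881b73333300691c934b3491bd33c33a1b432e32b05f05e00904b00800300200005d01005b05a05905804a04904f04e05105001304d04c0560120110450440431444351432874381420f33ae0f221b3b10f132a1af0343274372864343b021a3ad1ae32902a32602829c3ca3cc4534552331c73473434444462262913bb3bd1bb33833404704605c0150140482854364332193af3ac0570550071ad328325054053001052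

/-- images under the generator -/
def LC5 : ℕ := 0x3ab3853c53673a73c23991811a81d738b36b3941451d23821963713a514a16c3963cf39f14f3861713903773c815d1cd3a138a3893881533923aa1581c339c38138037f1421ae3af1a23623c11491613d03953bb14d3b31663ca36838e3c73b23a93763c33a63d315b19c1b33b837a3ce1861e53bd3b73b63b517a3cc3c617f1f33d63ae3ad3ac15f1e736d36c3bc36a15438f3c41593651c136339a3611851cf37c37b3a03791783c93a817d3741f13723d437036013835e35d35c35b14b19419235713635535435335223245109142f0c70192272570960cc01a22c09225c0970c80cd08509a0d70b60860d802524e4194560990b50262033fa09c03a02e00b20608c09d20c3f508b03b02d00a0a10800bb0d00a20bc02323845741807f0cf0242604310ad44f0e301d25522907c0b201e25a0ae22e07d0e40b320f3eb08204003100e2120a80832184040a704103000d21b4370550490d201121e0c20d32240564130480c101023f40a05b04c0b80142420de0b924805c44004b0dd0130501f804603502b0082003e03df04f1f504503402a0070f328632826e2ea3493332f534328f32e2751042f034c11828334f28e31133434b30e33d27d3472890ef3083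3a33c2cb1313302bb3382c432c32b1212c13403273263251292773132b234d31630f34a31f27130b2ad0ed34431c0f62aa2fb27a2db30d3062e63072b330128112e2e131031e2991063032a131a2922ff2fe1122a73222fa2f92f82cc13031d2f42c52a02f13172ef1102ed2a52eb3202e929a10533b2e52932ba2e23352e01202de2bf2dc33e2da2662652d72d60f82d40e72d22d12632622ce2cd23c25107e0b44580a00d623524a02243225f0ac22f4450c942725922a44b01c42c07b0ce3fc21120203c02f00c3ff2090814052170a645223109325d4250e244722b25842b01b44c0980b125223b09b0d141a0870bd24b2340273ed20520e04203200f3f021509e3f620b08d43821a05724104a01243b2230b74412460dc40b23e05d21d04d01540e2470d44142220c33e105104703602c0091fa1f93e61f71f63dd0f13292852ec13326d0f932f2f212b2910fe29c2b52e833228827c11f2952c62e432d29e11a31b31228d28c28b10e30a2981143232a62f73052ac27010f2c72942f33002b80f42fc2a92dd1082790fb3022e31002c30ff2b629b12633934e2b12b02af11c3462ca1223412c012a31427633727427311e30c29712433f2bd11735028231928027f10d3482c91113212a30f726b26a2692682672d92d80ea2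d02cf0e516036e1e638c13a1cb15a1e11c81df13f1c51463831d137316b1951501db19d1d81631981791ed1731d91eb3be16e1d51d417e3d71f21433b01ad3641761a114e1b71a91b41701a418437d1ce3b913c1e317c1c91e01c71401dd1521bd1681b51bb3a21641b11b015639d1c21771671aa1ec3a31a71621a51e917b3d51ef15117219e1bc3bf19b16d1991b915539b1bf35919335819114813918e18d18c14113718918818726f2870f232a2ee2c83152781282900fa11527211d28a10b0ee3312e71351092be0e931812d1012b90ec3042f610a1342a43361030e812c29f0f52ab2fd27b2df2960fc2b42843511161252ae27e10c11b1192a21272bc2d526c29d2b70fd3241132a83421232c20f012f1022d33451323091070eb2640e62611da1ab3cb1c01751691ba13b1d61a63d13841471d31ca37519738d1d037e18315c3c03871dc3781a03661e21443b11af1a336f1e815e3ba1823a43693b41b81ac1b619f3911f016a17413d1b21ea19a3973d23981901ee3cd1be39314c35a1801f43d81571c439e18b1651cc16f1e418f35f1c61de13e18a3563fe3f820103903803742342e22d0c60c50c445a45d24c0d523941e4162103ee3f22534424490cb0ca20d3ef3e903f03e03d25b44344e0e10e00df23641c41f0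ba45c45424f3fd4012044224292250b00af43a43621905405305244645023009008f08e45b45f23709f25042041724040c41225442442a09509423d40d40905a05905825e4264300ab0aa0a924d41d42108445e45523a43943f21c44444a22607a07900606600500300200007801607607507407306506406a06906c06b01f06806707101801706005f05e2163fb4030a50a40a320a3ec3f408a0890881ff3e73de04e2144023f92083f33ea1fe3e53dc04404324543543e0db0da0d92214084110c00bf0be1fd3e43db03324443d4342204104071fc3e33da02902825642842d44844d22806206107745345923324941541b0210200632134003f72073f13e824343c43321f40f4061fb3e23d907207000406f06e00106d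

/-- images under the generator -/
def LC6 : ℕ := 0x22922b45c22822e22d45a45722622745645322545145045223823644e23b44a23c44823923444744423544223321d21e44043d43c43e22243b22343743643843443343543143043224e24c42e25142a25242824f24a42742424b42224925725941e25625c25b41c41925425541841525324124241341040f41124640e24740a40940b4074064084044034052054002042093fd2072023fc2033fa2013f83f53f43f62113f12102153ee21320e3ed20f3eb20d3e91f83e51fa3e33e23e43e01fe2001f53dc1f73da3d93db3d73d63d82962943d42993d029a3ce2972923cd3ca2933c829129f2a13c429e2a42a33c23bf29c29d3be3bb29b28928a3b93b63b53b728e3b428f3b03af3b13ad3ac3ae2b92bb3a82b82be2bd3a63a32b62b73a239f2b539d39c39e2c82c639a2cb3962cc3942c92c43933902c538e2c32ad2ae38c38938838a2b23872b338338238438037f38137d37c37e27137927027537627326e37526f37326d37136e36d36f27d36a27c28136727f27a36627b36427936226435e26635c35b35d35926a26c26135526335335235435034f3511be1bc34d1c01bf34a3471ba3451bb1b93443413403421ca1c833e1cc1cb33b3381c63361c71c53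351b23311b41b032e1b61b832b1b532932832a3263253273233223241e21e03201e41e331d31a1de3181df1dd3173143133151ee1ec3111f01ef30e30b1ea3091eb1e93081d63041d81d43011da1dc2fe1d92fc2fb2fd2f92f82fa19919b1982f519e1a02f219d2f01962ee1972ec1952ea1a51a71a42e61aa1ac2e31a92e11a22df1a32dd1a12db18e1902d818c1922d51931912d218918b2cf1873972ca3983952c739b39939139238f2c02c22c13a72bf3a53aa2bc3ab2ba3a93a13a43a03852b43862af2b12b038b2ac38d2a92ab2aa2a62a82a73c32a53c13c62a23c72a03c53bd3c03bc3d12983d23cf2953d53d33cb3cc3c93b22903b328b28d28c3b82883ba28528728628228428328036936836c27e36b36336536127627827727437837737b27237a37237437026b35835a26726926835f36026535635726225e26025f41d25d41b42025a42125841f41741a41642b25042c42924d42f42d42542642340c24840d24324524441224041423d23f23e44b23a44c44923744f44d44544644323023223145b22f45945e22c45f22a45d45545845443922443a21f22122043f21c44121921b21a2162182172143f03ef3f32123f23ea3ec3e820a20c20b2083ff3fe4022064013f93fb3f71ff3df3e11fb1fd1fc3e63e71f93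dd3de1f61f21f41f330f1f130d1ed31231030a30c3071e61e81e731e1e531c1e132131f31931b3161db3003022ff3053061d73031d51d11d31d21ce1d01cf33c1cd33a1c933f33d3373393341c21c41c334b1c13491bd34e34c3463483431b732d32f32c3323331b33301b11ad1af1ae2e22e41ab2e02e71a82e81a62e52dc2de2da2f12f319f2ef2f619c2f719a2f42eb2ed2e92d31942d42d12d72d918f2d618d2ce2d018a2cd18810718318518410518217e18017f10a17d10810217a10310017511110f11911517210c10e16f10b16d16a12411f12712516711c16511d11b16215f15e16013213015c15913515715615813312d12f15312b14f0e814d0e90e714c0ec0ee0ea1461451471431421440e50fa0fc0f70fe13d0ff13b0fd1390f013715a15513413115d15b15215412e15112c12912812a12616816616b12212112316912016311e16416117311a11611811717111211411317617411016e17010d16c17c17b10910618618117810417917710113a13c1380fb13f0f914013e0f80f50f40f60f20f10f31361490ef14a0ed1480eb14e15014b1410e60e30b40b50e00df0e10dd0b70b80da0d90db0b10d80b20af0c20c30d30c80c90d00bb0bd0cd0ba0cb0cf0c70d10c50c40c60d20c10d40bf0be0c00cc0ce0bc0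ca0dc0b90de0e20b60e40d60b30d70d50b00aa0a90ad07f0800ac0a40a30a70820830a607a07907b0a008a08c09e09009209b08408608509709609108f08e09909a09308b08908809c09d08d0980950940870a80810a50ae07e0ab0a20a109f07d07c07607407306306407807006e06d06606707206205f05e06c06f07106807507706506906b06a06106005b05905804804905d05505305204b04c05704704404305105405604d05a05c04a04e05004f04604504204104003f03e03d03c03b03a03903803703603503403303203103002f02e02d02c02b02a02902801901b02601c02401d01601802002201e02302502701a01f02101701001201401301501100f00e00d00c00b00a009008007006005004001003002000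

/-- images under the generator -/
def LC7 : ℕ := 0x45e22822922a23022e45b45622722545345722644f23823744e45245023c44944823b23a23544444223344723444043e43c44121d21c22343921f21a21b21943843743642f24e24d42e43243025242942825125024b42442224942724a42025625725825e25c41d41825525341541925441341140f41424124024740c24323e23f23d40b40a40920520640240040440320b3ff2093fa3f93f83f73fc3fb2112123f33f13f53f42173f02153eb3ea3e93e83ed3ec3e53e33e21f81f93e73df2001fc3dc3da3d91f51f63de3d52962953d43d83d629a3cf3ce2992982933ca3c82913cd2923c629e29f2a02a62a43c33be29d29b3bb3bf29c3b93b73b53ba28928828f3b228b2862872853b13b03af3aa2b82b92ba2c02be3a73a22b72b539f3a32b639b2c82c739a39e39c2cc3953942cb2ca2c539038e2c33932c438c38a38838d2ad2ac2b33852af2aa2ab2a938438338227127237b37937d37c27737827537337237137037537427d27e36c36a36e36d28336928136436336236136636535e35c35b26426536035826c26835535335226126235734e1be1bd34d35134f1c21c034b3451bb3441b91ba34733f1ca1c933e3423401ce1cc33c3361c73351c51c63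381b41b01b13331b81b71b532f32e1ae1af1ad32a3293283211e21e13203243221e61e431e3181df3171dd1de31a3121ee1ed3113153131f21f030f3091eb3081e91ea30b1d81d41d53061dc1db1d93023011d21d31d12fd2fc2fb2f619819a1991a02f02ef19f19e2ec2eb2ea2e92ee2ed2e71a41a61a51ac2e12e01ab1aa2dd2dc2db2da2df2de19018d18c2d91941931912d52d418b1881872d02c93973963982c639939d38f3913922bd3a63a52c22c12bf3a83a92bc2bb3ab3a03a13a42b12b02b42b23873863892ae38b38038137f2a33c23c12a82a72a53c43c52a22a13c73bc3bd3c02973d13d03d22943d33d73c93cb3cc28d28c29028e3b43b33b628a3b83ad3ae3ac36736827f28428228036b27c36f27927b27a37637727327827627437a27037e26d26f26e26926726b35935a26a35d35f26635435626325b41c41b26025f25d41e41f25a25942141641741a24f42b42a42c24c42d43142342542624524424824640e40d41024241240740840623944b44a44c23644d45144344544622d45a45923223122f45c45d22c22b45f45445545822122022422243b43a43d21e43f4344354333ee3ef2132182162143f22103f620d20f20e3fd3fe20720c20a2084012044052012032021fd1fb1ff3e03e11fe3e43e61fa3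db3dd1f71ef30e30d1f41f31f11ec31031430730a30c1e331d31c1e81e71e51e031f32331631931b2ff2fe3001da3033043051d71d62f92fa2f81cb33b33a1d01cf1cd1c833d3413343373391bf34a3491c41c31c11bc34c35034334634832c32b32d1b63303313321b31b23263273251a92e32e22e42e62e51a81a72e81a11a31a219d2f22f12f32f52f419c19b2f71951971962d22d12d31922d62d82d718f18e2cd2cf2ce18a18918210718610618418317b10910818017f17d10110010217817410f11411611917310b10d10c16f16e16911f12212812716811e11d11b16516415d13213115c16015e15815713415513315912f12c12b15414f0e814d0e90e714c0ec0ee0ea1461451471431421440e50fa0fc0f70fe13d0ff13b0fd1390f013715615a13513015b15f15115315212e12d16712516612a12912612012416b16a12312116216116311c11811711517217111a17611117511011311217016d16c10e17e17c10a10518118517a17917710410313a13c1380fb13f0f914013e0f80f50f40f60f20f10f31361490ef14a0ed1480eb14e15014b1410e60e00df0e30b50b60e20da0d90dd0b80b90dc0b00af0b10d60c00c20d40c60c80d10ba0bc0bb0cd0cc0c70c50c40cf0d00c90c10bf0be0d20d30c30ce0cb0ca0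bd0de0b70db0e40b40e10d80d70d50b30b20ad07e07f0aa0a90ab0a70810820a40a30a507b0a207c07908c08d09d09209309a08508709708409509909109b08f08e09009c08b09e08908808a0960980860940a60830a80ac0800ae0a007d0a109f07a06307606507407307506607006806e06d06f06006206b05e07107206707707806406a06c06106905f05d05c05b05a05905805705605505405305205105004f04e04d04c04b04a04904804704604504404304003e03d02d02e04203a03803703003103c02c02902803603903b03203f04102f03303503402b02a01901b02601c02401d01601802002201e02302502701a01f02101701501401301201101000a00c00e00d00f00b009008007004006005003002001000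

/-- images under the generator -/
def LC8 : ℕ := 0x45b23045a22d22622545322922a22b45e45c22844c23b23a23c23944844744544444223345245023823744e23643b22343922022121f43843621944121d21c43e43d43c42c25125025224f42842742542442224943243024e24d42e24c41d25e41c25b25425341525725825942041e25640e24740c24424524340b40923d41424124041141040f3ff20920820a3fd2073fc3f82014054032054022044003f02152142163ee2133ed3e920d3f63f42113f32103f11fe2001ff1fc1fd1fb1f51f61f73e73e63e53e43e33e23d229929829a2973ce3cd3cb3ca3c82913d83d62962953d42943c32a63c22a329c29b3bb29f2a02a13c63c429e3b428f3b228c28d28b3b13af2853ba2892883b73b63b53a72c03a62bd2b62b539f2b92ba2bb3aa3a82b83982cb2ca2cc2c939439339139038e2c339e39c2c82c739a2c63872b33852b02b12af3843822a938d2ad2ac38a38938837827527427637627337537126d37e37c27137b27037936928128028236727f36636227936f36d27d36c27c36a26a26c26b26826926726126226336035f35e35d35c35b1c01c134b1c334a34934734434335034f34e1be34d34c1cc1cd33c1cf33b33a33833533434134033f1ca33e3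3d32e32d1b832b3293281ae3263251b21b33331b01b13301e41e531e1e731d31c31a3173163233223211e232031f1f01f130f1f330e30d30b3083073143133121ee3113103013001dc2fe2fc2fb1d22f92f81d61d73061d41d53032f31a02f02ef1962ec2eb2ea2e919a19919c19b2f52f42e41ac2e12e01a22dd2dc2db2da1a61a51a81a72e62e519219419319118a18918b1881872d92d82d72d62c52c439238f39739639539b39d3992b73a23a13a33a43a02c22c12bf2be3a52bc3ab3a92ab2aa38338038137f2b42b23862ae38c38b29d3be3bd3bf3c03bc2a82a72a52a43c12a23c73c52932923cc3c93d13d03cf3d53d73d32872863b03ad3ae3ac29028e3b328a3b93b827b36436327a36536128428336827e36e36b26f37337226e37437027827737727237d37a35635535735335435235835935a26626526425541841741941a41626025f25d25c41b25a42141f24b24a42642342b42a42942f43142d23f23e40a40740840624824640d24241341223523444644344b44a44944f45144d22745645545745845423223122f22e45922c45f45d21b21a43743443543322422243a21e44043f20f3eb3ea20e3ec3e82182173ef2123f53f22033fa3f92023fb3f720c20b3fe2064044013dd3dc3de3da3db3d93df3e03e11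fa1f91f830930a1eb30c1ea1e91f41f21ef1ed3151ec3183191df31b1de1dd1e81e61e31e13241e01d31d12fd2fa1db3021da2ff1d93043051d83363371c73391c61c51d01ce1cb1c93421c83453461bb3481ba1b91c41c21bf1bd3511bc1af1ad32a3271b732f1b632c1b53313321b41a32df2de1a12e32e21ab1aa1a92e72e81a41972ee2ed1952f22f119f19e19d2f62f71982cf2ce2d02cd2d32d52d42d22d119018f18e18d18c17a17810410310110010718610618518410517f17e17d17b17010c10b11211010f11811917317217116311d11b12112011f12716812916716612e15412d15312c12b16015f15d1321311301591581561551461451431420e60e514f14d0e70ec0ed14a0ee0ef1491480f30f60f00fa1400fc13f0f80f713913815e15c15b12f15215115715a13513413312416b16a12312216911e16511c16416216112a12812612511411317611117517410e16f16e10d16d16c11a11711611518318218110217917717c10a1801091080fb0f913e0f50f40f20f113713613a13b0ff13c13d0fe0fd14e0e91500e814c14b1441471410eb0ea0e30b40b50e00df0e10dd0b70b80da0d90db0b10d80b20af0c20c30d30c80c90d00bb0bd0cd0ba0cb0cf0c70d10c50c40c60d20c10d40bf0be0c00cc0ce0bc0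ca0dc0b90de0e20b60e40d60b30d70d50b00ad07e07f0aa0a90ab0a70810820a40a30a507b0a207c07908c08d09d09209309a08508709708409509909109b08f08e09009c08b09e08908808a0960980860940a60830a80ac0800ae0a007d0a109f07a07807707607507407307207107006f06e06d06c06b06a06906806706606506406306206106005f05e04805b04a05905805a04b05504d05305205404504705004305605704c05c05d04904f05104604e04402d04002f03e03d03f03003a03203803703902a02c03502803b03c03104104202e03403602b03302901901b02601c02401d02102001f02201e02302502701a01801701601001201401301501100a00c00e00d00f00b007009008006005004003002001000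

/-- images under the generator -/
def LC9 : ℕ := 0x45023744e23623a23944844723423544444223344121d21c44043e43c43b22443922121f43843621b21943543422922b45e45d45c22822e45b23045845722622545445325725842125941f25625c26025e25b41b41a25425541725341624041241141040d24424340b40a23e23d40740643242f24d42e24c42d42c25042a42724a4264234222493f63f53f43f33f23f13f03ef3ee3ed3ec3eb3ea3e93e81f81f93e73e53e33e23e11fc1fd1f53de1f73dc3db3d94032064022044014003ff20920b3fb2033f93f82013f729f2a03c72a13c529e2a42a82a62a33c13c029c29d3bd29b3bc2883b83b73b63b328c28b3b13b02862853ad3ac3d83d52953d42943d33d22983d03cd2923cc3c93c829139c2c739a2c62ca2c93943932c42c539038e2c338d2ad2ac38c38a3883872b43852b12af3843822ab2a93813802b92bb3aa3a93a82b82be3a72c03a43a32b62b53a039f36f36e36d36c36b36a36936836736636536436336236126426536035e35c35b35a26826926135726335535435237c27237b27037a37937827527737426f37237126d37034234134033f33e33d33c33b33a3393383373363353341b21b33333321b033032e1b532b3293281ae1af3273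2534f34e1be34c1c134b1c31bf3491ba3483473441b934331531431331231131030f30e30d30c30b30a3093083071d61d73063051d43033011d92fe2fc2fb1d21d32fa2f83223211e231f1e531e1e71e331c1de31b31a3171dd3162e82e72e62e52e42e32e22e12e02df2de2dd2dc2db2da2d919018d18c1921941932d22d118a1892cf2ce1881872f719c19b19819f19e1a02f02ef1962ec2eb1952b32b23862b02ae38b3892aa38337f3972cc3962cb3983952c839b39d39e39939139238f2c22c12bf2bd3a63a52bc2ba3ab2b73a23a129028f3b228e3b428d28a3b92893ba3b52873af3ae2a72a53c33c22a23c63c43be3bf3bb3d129a2993cf2973ce2963d73d63cb2933ca26c35826b35926a26735f26635d35626235328428328228128027f27e27d27c27b27a27927827627437637727327137d37e37326e37524824740c24640e24524241324141440f23f40940825f25d41d41c25a42041e41841941542b25225142924f42824e43143042524b42422322243a22021e43f43d21a43743344b23c44a23b44c44923844f45145244d44544644323223122f22d45a45922c22a45f2274564552003df1ff3e01fe1fb3e61fa3e43dd1f63da21821721621521421321221121020f20e20d20c20a2083fd3fe2072054044053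fa2023fc1dc3001db3021da2ff3041d81d51d12fd2f91f41f31f21f11f01ef1ee1ed1ec1eb1ea1e91e81e61e431d1e13233241e03203183191df1b832d1b732f1b632c3311b41b11ad32a3261d01cf1ce1cd1cc1cb1ca1c91c81c71c61c51c41c21c034a1bd3503511bc34d3453461bb2d32d52d41912d82d718f18e2d618b2d02cd1ac1ab1aa1a91a81a71a61a51a41a31a21a12f22f12f319d2f619a1992f52f41972ee2ed2ea2e917d10817b10918017f10317810410017717918518418110617311911616d17010d11217411017611116211b16516b12112212812916716812615215312f12b12d15413115d15b15c13016015813315515a14e14d0e714b0e814f1490ea0ed1441431420e61410e514613f0f80fa13b13a0fd13913c0fe0f30f113215e15f12c15112e13415615713515911f12016916a12412316111d11e16316411c16612512a12716c10b16e10e16f10c17111517211a11811710f11411317510110217a10a17c17e1051821831071861380ff13d13e0f70fc0fb1400f91370f01360f60f50f40f21480eb0ef0ee0ec14a14c0e91501471450de0dd0dc0db0da0d90b10d70b20b00d50af0b40e30b60e00d10d00cf0bc0bd0cd0c20d20c30c00be0cc0ce0bb0cb0ba0ca0c90c80c70c60c50c40d30d40c10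bf0d60b30d80b90b80b70b50e20e40e10df0ad07e07f0aa0a90ab0a70810820a40a30a507b0a207c07908b09c08d09109909308609608709408409a09b09208e09008f09d09e08c08808a0890970850980950a60830a80ac0800ae0a007d0a109f07a07807707607507407307207107006f06e06d06c06b06a06906806706606506406306206106005f05e05d05c05b05a05905805705605505405305205105004f04e04d04c04b04a04904804704604504404302a02c03402903302804204104003f03e03d03103203a03802f02e02d03503602b03b03003c03903701a02501b01c02401d02102001f02201e02302601902701801701601501401301201101000b00c00e00d00a00f009008007006005004003002001000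

/-- images under the generator -/
def LC10 : ℕ := 0x43024d42e24c25024f42842724a24b42442224925725842125941f25625c26025e25b41b41a25425541725341641441341241141040f40e40d40c40b40a4094084074064054044032052044003ff20c20a3fd2073fc3fb2033f93f82013f43f32103f22143ef2133ed20e3eb3ea20d3e81f81fa3e53e43e33e23e11fe1ff1f51f63de3db3da3d922922a45f45e45c22822e45a22d45822645645522545345245145023723644d44c23944944744623544444323321c21e43f43e43d43c43b22222343621b2194354344332b92ba3ab2bb3a92b82be2c22c02bd3a53a42b62b73a12b53a039c2c739a2c62ca2c93943932c42c539038e2c338d38c38b38a38938838738638538438338238138037f37c37b27037a27437727337526e37337226d37036f36e36d27d27c36a36928428236727f36636527b36336227926426635e35d35c35b35a26a26b2612623573543533523d83d73d62952943d33d22973cf3cd3cc2933ca3c929129f2a03c73c63c429e2a43c22a33c029c3be3bd29b3bb28828a3b83b73b63b53b428e28f3af2872853ae3ad3ac32432332232132031f31e31d31c31b31a31931831731631531431331231131030f30e30d30c30b30a309308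3073063053043033023013002ff2fe2fd2fc2fb2fa2f92f819a2f719919c2f52f419e2f02ef1962ed2ec1972ea2e91a62e81a51a82e62e51aa2e12e01a22de2dd1a32db2da18e2d819018c1922d41941912d118a2d01891882cd1873501be34d34c1c11c31c234a3491ba3473461bb3443433411ca33e33d1cd1cf1ce33b33a1c63383371c73353341b33321b41b11b632e1b81b532b3291ae1ad32628328128036827e36c36b36427a36127827727627537837627227137d37e37926f37437126c35835926926826735f2653603562633553972cc3962cb3983952c839b39d39e39939139238f2c12bf3a73a62bc3aa3a83a23a339f2b42b32b22b12b02af2ae2ad2ac2ab2aa2a92a82a72a62a53c33c12a22a13c529d3bf3bc3d129a3d02992983ce2963d53d43cb2923c82903b23b328d28c28b3b92893ba2863b03b12182172162153f03ee2122113f53f63f120f3ec3e920b2092083fe2064024013fa2023f72003df3e01fd1fc1fb3e61f93e73dd1f73dc25f25d41d41c25a42041e41841941542b25242a25142c42924e42f43143242d42542642324824724624524424324224124023f23e23d44b23c44a23b23a44823844f44e44523444223223123022f45b45922c22b45d22745745422443943a22122021f44021d441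21a4374381ac2e32e22e41ab1a92e71a71a42dc2df1a11a02f22f12f319f19d2f619b1982eb2ee1952d31932d52d22d72d918f2d618d18b2cf2ce1f41f31f21f11f01ef1ee1ed1ec1eb1ea1e91e81e71e61e51e41e31e21e11e01df1de1dd1dc1db1da1d91d81d71d61d51d41d31d21d11d01cc33c1cb33f1c93423401c83363391c51c41c034b1bf34e1bd35134f1bc3453481b932d1b732f32c3311b23331b03301af32a32832732510817f17e18010a17d10110017717a17910418110518618416e16f10c11017611117311517211811716712512716316411c16a16b12012112215112b12c15412f15313015b15f15e16013113315915a1560e714b15014f0e914d0ea14a0ef0e61410e514714614514313f0f80fa13b13a0fd13913c0fe0f30f115c13215d12d12e15213515513415715816116211b11d11e16516612812a12916812611f16912412310f17411211411317516c10b16d10e17010d17111a11911610210317810917b17c1061071821831851380ff13d13e0f70fc0fb1400f91370f01360f60f50f40f20ed0ec1480eb0ee1490e814c14e1441420e30b40b50e00df0e10dd0b70b80da0d90db0b10d80b20af0c10d20c30c70cf0c90bc0cc0bd0ca0ba0d00d10c80c40c60c50d30d40c20be0c00bf0cd0bb0ce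0cb0dc0b90de0e20b60e40d60b30d70d50b00a80a70a60a50a40a307b0a107c07a09f07907e0ad0800aa09b09a09908608709708c09c08d08a08809609808509508409409309209109008f08e09d09e08b0890a007d0a208308208107f0ac0ae0ab0a907807707607507407307207107006f06e06d06c06b06a06906806706606506406306206106005f05e04504704f04404e04305d05c05b05a05905804c04d05505304a04904805005104605604b05705405204204104003f03e03d03c03b03a03903803703603503403303203103002f02e02d02c02b02a02902801a01b02602301c01d02102001f02201e02402501902701801701601101201401301001500f00e00d00c00b00a009008007006005004003002001000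

/-- images under the generator -/
def LC11 : ℕ := 0x3d62953d42942982973ce3cd2922933ca3c829129f2a03c72a13c529e2a42a82a62a33c13c029c29d3bd29b3bc3ba3b93b83b73b63b53b43b33b23b13b03af3ae3ad3ac2b92ba3ab2bb3a92b82be2c22c02bd3a53a42b62b73a12b53a039c2c739a2c62ca2c93943932c42c539038e2c338d38c38b38a38938838738638538438338238138037f37e37d37c37b37a37937837737637537437337237137036f36e36d36c36b36a36936836736636536436336236136035f35e35d35c35b35a35935835735635535435335235135034f34e34d34c1c01c41c21bf3491ba3473451bb3441b93401c933e1c833c33b33a1c63393371c71c53341b23321b41b01b13301b632e1b732a3293283273263253221e13201e031e31d31c1de31b3191df1dd3163153143133123113101f01f41f21ef30d1ea30b3091eb3081e91d63051d81d41d53031da3011db2fd2fc2fb2fa2f92f819a2f719919b1982f419f2f019d2ee2ed2ec2eb2ea2e91a62e81a51a71a42e51ab2e11a92df2de2dd2dc2db2da18e1902d718d2d618c2d519219418918b2ce1882cd18722922a45f22b45d22845b45a45945722645622722545345245145044f44e44d23a239448234446235445443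23321c44021e43c22243a22322121f43843743643543443343243143042f42e42d25024f42824a42624b42542324925725842125941f25641d41c41b41925441825525341524041324240f24640d24724524340b40a40940840740640420620440020920b20a3fe2073fc3fb3fa3f93f83f73f52122103f12152172163ef2133ed3ec3eb3ea3e93e81f91fa3e53e33e11fe2001fc1fb1f61f73dc3da1f31f130f30e1ee1ed1ec30a30c3071e81e71e61e51e41e31e232132332431f31831a3171dc3003022ff1d92fe3041d73061d31d21d11d01cf1ce1cd1cc1cb1ca33f34134233d3363383351c31c134b34a1be1bd1bc3463483431b832d32f32c1b532b3311b33331af1ae1ad1ac2e32e22e41aa2e02e71a82e61a31a21a11a02f22f12f319e2ef2f619c2f51971961952d31932d41912d22d12d82d918f2cf2d018a3972cc3962cb3983952c839b39d39e39939139238f2c12bf3a73a62bc3aa3a83a23a339f2b42b32b22b12b02af2ae2ad2ac2ab2aa2a92a72a53c33c22a23c63c43be3bf3bb3d129a3d02993d23cf2963d53d73d83d33cb3cc3c929028f28e28d28c28b28a28928828728628528428328228128027f27e27d27c27b27a27927827727627527427327227127026f26e26d26c26b26a269268267266265264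26326226126025f25e25d25c25b25a42041e41741a41642b25242a25142c42924e24d24c42442742224840c40e24441224141441041123f23e23d44b23c44a23b44c44923823723644444744223223123022f22e22d22c45e45c45545845422443943b22043f21d44143d43e21b21a2192183f02143ee2113f33f63f43f220f20e20d20c3ff2083fd2054024054034012032022013df1ff3e01fd3e61f83e73e43e23dd1f53de3db3d910310110017717910218418318518218118610a17d10917f17117217310d10e16f10f17611111411316616716811e11c16516b12411f12212312b12c15112d15212f15b15c15e16015f15d13413515915814f0e814d0e90e714c0ec0ee0ea1461451471431421440e50f90fb0f813c0fe13a0ff1380fd1360f013013113212e15415315a13315515615711b16116216311d16412512912812a12612716912016a12110c17016c10b16d16e11611811711511a11917517411011210510610710417817a10817b17c17e18013b13d13913f0fc1400fa0f713e0f40f60f50f10f30f21371490ef14a0ed1480eb14e15014b1410e60b10d70b20b00d50af0e40e30e20e10e00df0b70dd0b90da0d10d00cf0bc0bd0cd0c20d20c30c00be0cc0ce0bb0cb0ba0ca0c90c80c70c60c50c40d30d40c1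0bf0b60b50b40d60b30d80b80dc0de0db0d907b0a107c07a09f0790ae0ad0ac0ab0aa0a90810a70830a409b09a09908608709708c09c08d08a08809609808509508409409309209109008f08e09d09e08b08908007f07e0a007d0a20820a60a80a50a306006206a05f06905e07807707607507407306706807006e06506406306b06c06107106607206f06d05d05c05b05a05905805705605505405305205105004f04e04d04c04b04a04904804704604504404304204104003f03e03d03c03b03a03903803703603503403303203103002f02e02d02c02b02a02902801a01b02601c02401e01701802001d02202302501902701f01602101501401301201101000f00e00d00c00b00a009008007006005004003002001000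

/-- the tables -/
def LCs : List ℕ := [LC0, LC1, LC2, LC3, LC4, LC5, LC6, LC7, LC8, LC9, LC10, LC11]

/-- the image of a point -/
def col (g i : ℕ) : ℕ := (LCs.getD g 0 >>> (12 * i)) % 4096

/-- the generators on codes -/
def gn (g v : ℕ) : ℕ := if g < 6 then nuu (4 ^ g) v else nvv (4 ^ (g - 6)) v

/-- digits -/
def dl (c : ℕ) : List ℕ := [dg c 0, dg c 1, dg c 2, dg c 3, dg c 4, dg c 5, dg c 6, dg c 7, dg c 8, dg c 9, dg c 10, dg c 11,
  dg c 12, dg c 13]

/-- first nonzero entry -/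
def fst3 : List ℕ → ℕ
  | [] => 0
  | a :: l => if a % 3 = 0 then fst3 l else a % 3

/-- the images of the point `i` -/
def chkc (g i : ℕ) : Bool :=
  Nat.blt (col g i) 1120 && (Nat.beq (gn g (lg i)) (lg (col g i)) || Nat.beq (gn g (lg i)) (nneg (lg (col g i))))

/-- normal form, order and parent -/
def chkn (i : ℕ) : Bool :=
  Nat.beq (ofl (dl (lg i))) (lg i) && Nat.beq (fst3 (dl (lg i))) 1 &&
    (Nat.beq i 0 || (Nat.blt (lg (i - 1)) (lg i) && Nat.blt (lpa i) 1120 && Nat.blt (lge i) 12 &&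
      Nat.beq (col (lge i) (lpa i)) i && Nat.blt (ldi (lpa i)) (ldi i)))

theorem lg_zero : lg 0 = 1 := by decide +kernel

private noncomputable def _root_.Cfsg.Agent.LsF.fba70c7_0 : {f // @Cfsg.Agent.H69.F43.allb = f} := ⟨_, by first | (delta Cfsg.Agent.H69.F43.allb Nat.brecOn.go Nat.brecOn Cfsg.Agent.H69.F43.allb._f; rewrite [Cfsg.Agent.LsF.and_eq]; (try delta Cfsg.Agent.H69.F43.allb.match_1); (try delta Nat.casesOn); first | dsimp -zeta only | exact rfl) | exact rfl⟩
private noncomputable def _root_.Cfsg.Agent.LsF.fba70c7_1 : {f // @Cfsg.Agent.H69.F43.ofl = f} := ⟨_, by first | (delta Cfsg.Agent.H69.F43.ofl List.brecOn List.brecOn.go Cfsg.Agent.H69.F43.ofl._f; rewrite [Cfsg.Agent.LsF.nadd_pat, Cfsg.Agent.LsF.nmul_pat, Cfsg.Agent.LsF.nmod_pat]; (try delta Cfsg.Agent.H69.F43.ofl.match_1); (try delta List.casesOn); first | dsimp -zeta only | exact rfl) | exact rfl⟩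
private noncomputable def _root_.Cfsg.Agent.LsF.fba70c7_2 : {f // @Cfsg.Agent.H69.F43.dg = f} := ⟨_, by first | (delta Cfsg.Agent.H69.F43.dg; rewrite [Cfsg.Agent.LsF.ndiv_pat, Cfsg.Agent.LsF.nmod_pat, Cfsg.Agent.LsF.npow_pat]; exact rfl) | exact rfl⟩
private noncomputable def _root_.Cfsg.Agent.LsF.fba70c7_3 : {f // @Cfsg.Agent.H69.F43.dl = f} := ⟨_, by first | (delta Cfsg.Agent.H69.F43.dl; rewrite [Cfsg.Agent.LsF.fba70c7_2.2]; exact rfl) | exact rfl⟩
private noncomputable def _root_.Cfsg.Agent.LsF.fba70c7_4 : {f // @Cfsg.Agent.H69.F43.lent = f} := ⟨_, by first | (delta Cfsg.Agent.H69.F43.lent; rewrite [Cfsg.Agent.LsF.nmul_pat, Cfsg.Agent.LsF.nmod_pat, Cfsg.Agent.LsF.nshr_pat]; exact rfl) | exact rfl⟩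
private noncomputable def _root_.Cfsg.Agent.LsF.fba70c7_5 : {f // @Cfsg.Agent.H69.F43.lg = f} := ⟨_, by first | (delta Cfsg.Agent.H69.F43.lg; rewrite [Cfsg.Agent.LsF.fba70c7_4.2, Cfsg.Agent.LsF.nmod_pat]; exact rfl) | exact rfl⟩
private noncomputable def _root_.Cfsg.Agent.LsF.fba70c7_6 : {f // @Cfsg.Agent.H69.F43.fst3 = f} := ⟨_, by first | (delta Cfsg.Agent.H69.F43.fst3 List.brecOn List.brecOn.go Cfsg.Agent.H69.F43.fst3._f; rewrite [Cfsg.Agent.LsF.nmod_pat, Cfsg.Agent.LsF.instDecEq_eq, Cfsg.Agent.LsF.ite_eq]; (try delta Cfsg.Agent.H69.F43.fst3.match_1); (try delta List.casesOn); first | dsimp -zeta only | exact rfl) | exact rfl⟩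
private noncomputable def _root_.Cfsg.Agent.LsF.fba70c7_7 : {f // @Cfsg.Agent.H69.F43.lpa = f} := ⟨_, by first | (delta Cfsg.Agent.H69.F43.lpa; rewrite [Cfsg.Agent.LsF.fba70c7_4.2, Cfsg.Agent.LsF.ndiv_pat, Cfsg.Agent.LsF.nmod_pat]; exact rfl) | exact rfl⟩
private noncomputable def _root_.Cfsg.Agent.LsF.fba70c7_8 : {f // @Cfsg.Agent.H69.F43.lge = f} := ⟨_, by first | (delta Cfsg.Agent.H69.F43.lge; rewrite [Cfsg.Agent.LsF.fba70c7_4.2, Cfsg.Agent.LsF.ndiv_pat, Cfsg.Agent.LsF.nmod_pat]; exact rfl) | exact rfl⟩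
private noncomputable def _root_.Cfsg.Agent.LsF.fba70c7_9 : {f // @Cfsg.Agent.H69.F43.col = f} := ⟨_, by first | (delta Cfsg.Agent.H69.F43.col; rewrite [Cfsg.Agent.LsF.nmul_pat, Cfsg.Agent.LsF.nmod_pat, Cfsg.Agent.LsF.nshr_pat, Cfsg.Agent.LsF.getD_eq]; exact rfl) | exact rfl⟩
private noncomputable def _root_.Cfsg.Agent.LsF.fba70c7_10 : {f // @Cfsg.Agent.H69.F43.ldi = f} := ⟨_, by first | (delta Cfsg.Agent.H69.F43.ldi; rewrite [Cfsg.Agent.LsF.fba70c7_4.2, Cfsg.Agent.LsF.ndiv_pat, Cfsg.Agent.LsF.nmod_pat]; exact rfl) | exact rfl⟩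
private noncomputable def _root_.Cfsg.Agent.LsF.fba70c7_11 : {f // @Cfsg.Agent.H69.F43.chkn = f} := ⟨_, by first | (delta Cfsg.Agent.H69.F43.chkn; rewrite [Cfsg.Agent.LsF.fba70c7_1.2, Cfsg.Agent.LsF.fba70c7_3.2, Cfsg.Agent.LsF.fba70c7_5.2, Cfsg.Agent.LsF.fba70c7_6.2, Cfsg.Agent.LsF.fba70c7_7.2, Cfsg.Agent.LsF.fba70c7_8.2, Cfsg.Agent.LsF.fba70c7_9.2, Cfsg.Agent.LsF.fba70c7_10.2, Cfsg.Agent.LsF.nsub_pat, Cfsg.Agent.LsF.and_eq, Cfsg.Agent.LsF.or_eq]; exact rfl) | exact rfl⟩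
theorem chkn_0 : allb (fun j => chkn (280 * 0 + j)) 280 = true := by ((try (rewrite [Cfsg.Agent.LsF.fba70c7_0.2, Cfsg.Agent.LsF.fba70c7_11.2, Cfsg.Agent.LsF.nadd_pat, Cfsg.Agent.LsF.nmul_pat])); decide +kernel)

theorem chkn_1 : allb (fun j => chkn (280 * 1 + j)) 280 = true := by ((try (rewrite [Cfsg.Agent.LsF.fba70c7_0.2, Cfsg.Agent.LsF.fba70c7_11.2, Cfsg.Agent.LsF.nadd_pat, Cfsg.Agent.LsF.nmul_pat])); decide +kernel)

theorem chkn_2 : allb (fun j => chkn (280 * 2 + j)) 280 = true := by ((try (rewrite [Cfsg.Agent.LsF.fba70c7_0.2, Cfsg.Agent.LsF.fba70c7_11.2, Cfsg.Agent.LsF.nadd_pat, Cfsg.Agent.LsF.nmul_pat])); decide +kernel)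

theorem chkn_3 : allb (fun j => chkn (280 * 3 + j)) 280 = true := by ((try (rewrite [Cfsg.Agent.LsF.fba70c7_0.2, Cfsg.Agent.LsF.fba70c7_11.2, Cfsg.Agent.LsF.nadd_pat, Cfsg.Agent.LsF.nmul_pat])); decide +kernel)

private def d4 (v p : ℕ) : ℕ := Nat.mod (Nat.div v p) 4

private def G0 (v : ℕ) : ℕ :=
  (Nat.add (Nat.mod (d4 v 1) 3) (Nat.mul 4 (Nat.add (Nat.mod (Nat.add (d4 v 1) (d4 v 4)) 3) (Nat.mul 4 (Nat.add (Nat.mod (d4 v 16) 3) (Nat.mul 4 (Nat.add (Nat.mod (d4 v 64) 3) (Nat.mul 4 (Nat.add (Nat.mod (d4 v 256) 3) (Nat.mul 4 (Nat.add (Nat.mod (d4 v 1024) 3) (Nat.mul 4 (Nat.add (Nat.mod (d4 v 4096) 3) (Nat.mul 4 (Nat.add (Nat.mod (d4 v 16384) 3) (Nat.mul 4 (Nat.add (Nat.mod (Nat.add (d4 v 64) (d4 v 65536)) 3) (Nat.mul 4 (Nat.add (Nat.mod (Nat.add (d4 v 16) (d4 v 262144)) 3) (Nat.mul 4 (Nat.add (Nat.mod (Nat.add (Nat.mul 2 (d4 v 256)) (d4 v 1048576)) 3) (Nat.mul 4 (Nat.add (Nat.mod (d4 v 4194304) 3) (Nat.mul 4 (Nat.add (Nat.mod (d4 v 16777216)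 3) (Nat.mul 4 (Nat.add (Nat.mod (Nat.add (d4 v 16384) (d4 v 67108864)) 3) (Nat.mul 4 0))))))))))))))))))))))))))))

private theorem G0_eq (v : ℕ) : gn 0 v = G0 v := by
  show nuu 1 v = _
  delta nuu
  simp only [show dg 1 0 = 1 from rfl, show dg 1 1 = 0 from rfl, show dg 1 2 = 0 from rfl, show dg 1 3 = 0 from rfl, show dg 1 4 = 0 from rfl, show dg 1 5 = 0 from rfl,
    Nat.zero_mul, Nat.mul_zero, Nat.one_mul, Nat.mul_one, Nat.zero_add, Nat.add_zero]
  rfl

private def G1 (v : ℕ) : ℕ :=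
  (Nat.add (Nat.mod (d4 v 1) 3) (Nat.mul 4 (Nat.add (Nat.mod (d4 v 4) 3) (Nat.mul 4 (Nat.add (Nat.mod (Nat.add (d4 v 1) (d4 v 16)) 3) (Nat.mul 4 (Nat.add (Nat.mod (d4 v 64) 3) (Nat.mul 4 (Nat.add (Nat.mod (d4 v 256) 3) (Nat.mul 4 (Nat.add (Nat.mod (d4 v 1024) 3) (Nat.mul 4 (Nat.add (Nat.mod (d4 v 4096) 3) (Nat.mul 4 (Nat.add (Nat.mod (Nat.add (d4 v 64) (d4 v 16384)) 3) (Nat.mul 4 (Nat.add (Nat.mod (d4 v 65536) 3) (Nat.mul 4 (Nat.add (Nat.mod (Nat.add (d4 v 4) (d4 v 262144)) 3) (Nat.mul 4 (Nat.add (Nat.mod (d4 v 1048576) 3) (Nat.mul 4 (Nat.add (Nat.mod (Nat.add (Nat.mul 2 (d4 v 1024)) (d4 v 4194304)) 3) (Nat.mul 4 (Nat.add (Nat.mod (d4 v 16777216) 3) (Nat.mul 4 (Nat.add (Nat.mod (Nat.add (d4 v 65536) (d4 v 67108864)) 3) (Nat.mul 4 0))))))))))))))))))))))))))))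

private theorem G1_eq (v : ℕ) : gn 1 v = G1 v := by
  show nuu 4 v = _
  delta nuu
  simp only [show dg 4 0 = 0 from rfl, show dg 4 1 = 1 from rfl, show dg 4 2 = 0 from rfl, show dg 4 3 = 0 from rfl, show dg 4 4 = 0 from rfl, show dg 4 5 = 0 from rfl,
    Nat.zero_mul, Nat.mul_zero, Nat.one_mul, Nat.mul_one, Nat.zero_add, Nat.add_zero]
  rfl

private def G2 (v : ℕ) : ℕ :=
  (Nat.add (Nat.mod (d4 v 1) 3) (Nat.mul 4 (Nat.add (Nat.mod (d4 v 4) 3) (Nat.mul 4 (Nat.add (Nat.mod (d4 v 16) 3) (Nat.mul 4 (Nat.add (Nat.mod (Nat.add (d4 v 1) (d4 v 64)) 3) (Nat.mul 4 (Nat.add (Nat.mod (d4 v 256) 3) (Nat.mul 4 (Nat.add (Nat.mod (d4 v 1024) 3) (Nat.mul 4 (Nat.add (Nat.mod (d4 v 4096) 3) (Nat.mul 4 (Nat.add (Nat.mod (Nat.add (d4 v 16) (d4 v 16384)) 3) (Nat.mul 4 (Nat.add (Nat.mod (Nat.add (d4 v 4) (d4 v 65536)) 3) (Nat.mul 4 (Nat.add (Nat.mod (d4 v 262144) 3) (Nat.mul 4 (Nat.add (Nat.mod (d4 v 1048576) 3) (Nat.mul 4 (Nat.add (Nat.mod (d4 v 4194304) 3)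 (Nat.mul 4 (Nat.add (Nat.mod (Nat.add (Nat.mul 2 (d4 v 4096)) (d4 v 16777216)) 3) (Nat.mul 4 (Nat.add (Nat.mod (Nat.add (d4 v 262144) (d4 v 67108864)) 3) (Nat.mul 4 0))))))))))))))))))))))))))))

private theorem G2_eq (v : ℕ) : gn 2 v = G2 v := by
  show nuu 16 v = _
  delta nuu
  simp only [show dg 16 0 = 0 from rfl, show dg 16 1 = 0 from rfl, show dg 16 2 = 1 from rfl, show dg 16 3 = 0 from rfl, show dg 16 4 = 0 from rfl, show dg 16 5 = 0 from rfl,
    Nat.zero_mul, Nat.mul_zero, Nat.one_mul, Nat.mul_one, Nat.zero_add, Nat.add_zero]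
  rfl

private def G3 (v : ℕ) : ℕ :=
  (Nat.add (Nat.mod (d4 v 1) 3) (Nat.mul 4 (Nat.add (Nat.mod (d4 v 4) 3) (Nat.mul 4 (Nat.add (Nat.mod (d4 v 16) 3) (Nat.mul 4 (Nat.add (Nat.mod (d4 v 64) 3) (Nat.mul 4 (Nat.add (Nat.mod (Nat.add (d4 v 1) (d4 v 256)) 3) (Nat.mul 4 (Nat.add (Nat.mod (d4 v 1024) 3) (Nat.mul 4 (Nat.add (Nat.mod (d4 v 4096) 3) (Nat.mul 4 (Nat.add (Nat.mod (Nat.add (Nat.add (Nat.mul 2 (d4 v 1)) (d4 v 256)) (d4 v 16384)) 3) (Nat.mul 4 (Nat.add (Nat.mod (d4 v 65536) 3) (Nat.mul 4 (Nat.add (Nat.mod (d4 v 262144) 3) (Nat.mul 4 (Nat.add (Nat.mod (Nat.add (Nat.mul 2 (d4 v 4)) (d4 v 1048576)) 3) (Nat.mul 4 (Nat.add (Nat.mod (Nat.add (d4 v 4096) (d4 v 4194304)) 3) (Nat.mul 4 (Nat.add (Nat.mod (Nat.add (d4 v 1024) (d4 v 16777216)) 3) (Nat.mul 4 (Nat.add (Nat.mod (Nat.add (Nat.add (Nat.mul 2 (d4 v 4)) (Nat.mul 2 (d4 v 1048576))) (d4 v 67108864)) 3) (Nat.mul 4 0))))))))))))))))))))))))))))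

private theorem G3_eq (v : ℕ) : gn 3 v = G3 v := by
  show nuu 64 v = _
  delta nuu
  simp only [show dg 64 0 = 0 from rfl, show dg 64 1 = 0 from rfl, show dg 64 2 = 0 from rfl, show dg 64 3 = 1 from rfl, show dg 64 4 = 0 from rfl, show dg 64 5 = 0 from rfl,
    Nat.zero_mul, Nat.mul_zero, Nat.one_mul, Nat.mul_one, Nat.zero_add, Nat.add_zero]
  rfl

private def G4 (v : ℕ) : ℕ :=
  (Nat.add (Nat.mod (d4 v 1) 3) (Nat.mul 4 (Nat.add (Nat.mod (d4 v 4) 3) (Nat.mul 4 (Nat.add (Nat.mod (d4 v 16) 3) (Nat.mul 4 (Nat.add (Nat.mod (d4 v 64) 3) (Nat.mul 4 (Nat.add (Nat.mod (d4 v 256) 3) (Nat.mul 4 (Nat.add (Nat.mod (Nat.add (d4 v 1) (d4 v 1024)) 3) (Nat.mul 4 (Nat.add (Nat.mod (d4 v 4096) 3) (Nat.mul 4 (Nat.add (Nat.mod (d4 v 16384) 3) (Nat.mul 4 (Nat.add (Nat.mod (Nat.add (Nat.add (Nat.mul 2 (d4 v 1)) (d4 v 1024)) (d4 v 65536)) 3) (Nat.mul 4 (Nat.add (Nat.mod (d4 v 262144) 3) (Nat.mul 4 (Nat.add (Nat.mod (Nat.add (d4 v 4096) (d4 v 1048576)) 3) (Nat.mul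 4 (Nat.add (Nat.mod (Nat.add (Nat.mul 2 (d4 v 16)) (d4 v 4194304)) 3) (Nat.mul 4 (Nat.add (Nat.mod (Nat.add (d4 v 256) (d4 v 16777216)) 3) (Nat.mul 4 (Nat.add (Nat.mod (Nat.add (Nat.add (Nat.mul 2 (d4 v 16)) (Nat.mul 2 (d4 v 4194304))) (d4 v 67108864)) 3) (Nat.mul 4 0))))))))))))))))))))))))))))

private theorem G4_eq (v : ℕ) : gn 4 v = G4 v := by
  show nuu 256 v = _
  delta nuu
  simp only [show dg 256 0 = 0 from rfl, show dg 256 1 = 0 from rfl, show dg 256 2 = 0 from rfl, show dg 256 3 = 0 from rfl, show dg 256 4 = 1 from rfl, show dg 256 5 = 0 from rfl,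
    Nat.zero_mul, Nat.mul_zero, Nat.one_mul, Nat.mul_one, Nat.zero_add, Nat.add_zero]
  rfl

private def G5 (v : ℕ) : ℕ :=
  (Nat.add (Nat.mod (d4 v 1) 3) (Nat.mul 4 (Nat.add (Nat.mod (d4 v 4) 3) (Nat.mul 4 (Nat.add (Nat.mod (d4 v 16) 3) (Nat.mul 4 (Nat.add (Nat.mod (d4 v 64) 3) (Nat.mul 4 (Nat.add (Nat.mod (d4 v 256) 3) (Nat.mul 4 (Nat.add (Nat.mod (d4 v 1024) 3) (Nat.mul 4 (Nat.add (Nat.mod (Nat.add (d4 v 1) (d4 v 4096)) 3) (Nat.mul 4 (Nat.add (Nat.mod (d4 v 16384) 3) (Nat.mul 4 (Nat.add (Nat.mod (d4 v 65536) 3) (Nat.mul 4 (Nat.add (Nat.mod (Nat.add (Nat.add (Nat.mul 2 (d4 v 1)) (d4 v 4096)) (d4 v 262144)) 3) (Nat.mul 4 (Nat.add (Nat.mod (Nat.add (d4 v 1024) (d4 v 1048576)) 3) (Nat.mul 4 (Nat.add (Nat.mod (Nat.add (d4 v 256) (d4 v 4194304)) 3) (Nat.mul 4 (Nat.add (Nat.mod (Nat.add (Nat.mul 2 (d4 v 64)) (d4 v 16777216)) 3) (Nat.mul 4 (Nat.add (Nat.mod (Nat.add (Nat.add (Nat.mul 2 (d4 v 64)) (Nat.mul 2 (d4 v 16777216))) (d4 v 67108864))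 3) (Nat.mul 4 0))))))))))))))))))))))))))))

private theorem G5_eq (v : ℕ) : gn 5 v = G5 v := by
  show nuu 1024 v = _
  delta nuu
  simp only [show dg 1024 0 = 0 from rfl, show dg 1024 1 = 0 from rfl, show dg 1024 2 = 0 from rfl, show dg 1024 3 = 0 from rfl, show dg 1024 4 = 0 from rfl, show dg 1024 5 = 1 from rfl,
    Nat.zero_mul, Nat.mul_zero, Nat.one_mul, Nat.mul_one, Nat.zero_add, Nat.add_zero]
  rfl

private def G6 (v : ℕ) : ℕ :=
  (Nat.add (Nat.mod (Nat.add (d4 v 1) (d4 v 4)) 3) (Nat.mul 4 (Nat.add (Nat.mod (d4 v 4) 3) (Nat.mul 4 (Nat.add (Nat.mod (Nat.add (d4 v 16) (d4 v 262144)) 3) (Nat.mul 4 (Nat.add (Nat.mod (Nat.add (d4 v 64) (d4 v 65536)) 3) (Nat.mul 4 (Nat.add (Nat.mod (Nat.add (d4 v 256) (Nat.mul 2 (d4 v 1048576))) 3) (Nat.mul 4 (Nat.add (Nat.mod (d4 v 1024) 3) (Nat.mul 4 (Nat.add (Nat.mod (d4 v 4096) 3) (Nat.mul 4 (Nat.add (Nat.mod (Nat.add (d4 v 16384) (d4 v 67108864)) 3) (Nat.mul 4 (Nat.add (Nat.mod (d4 v 65536) 3) (Nat.mul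 4 (Nat.add (Nat.mod (d4 v 262144) 3) (Nat.mul 4 (Nat.add (Nat.mod (d4 v 1048576) 3) (Nat.mul 4 (Nat.add (Nat.mod (d4 v 4194304) 3) (Nat.mul 4 (Nat.add (Nat.mod (d4 v 16777216) 3) (Nat.mul 4 (Nat.add (Nat.mod (d4 v 67108864) 3) (Nat.mul 4 0))))))))))))))))))))))))))))

private theorem G6_eq (v : ℕ) : gn 6 v = G6 v := by
  show nvv 1 v = _
  delta nvv
  simp only [show dg 1 0 = 1 from rfl, show dg 1 1 = 0 from rfl, show dg 1 2 = 0 from rfl, show dg 1 3 = 0 from rfl, show dg 1 4 = 0 from rfl, show dg 1 5 = 0 from rfl,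
    Nat.zero_mul, Nat.mul_zero, Nat.one_mul, Nat.mul_one, Nat.zero_add, Nat.add_zero]
  rfl

private def G7 (v : ℕ) : ℕ :=
  (Nat.add (Nat.mod (Nat.add (d4 v 1) (d4 v 16)) 3) (Nat.mul 4 (Nat.add (Nat.mod (Nat.add (d4 v 4) (d4 v 262144)) 3) (Nat.mul 4 (Nat.add (Nat.mod (d4 v 16) 3) (Nat.mul 4 (Nat.add (Nat.mod (Nat.add (d4 v 64) (d4 v 16384)) 3) (Nat.mul 4 (Nat.add (Nat.mod (d4 v 256) 3) (Nat.mul 4 (Nat.add (Nat.mod (Nat.add (d4 v 1024) (Nat.mul 2 (d4 v 4194304))) 3) (Nat.mul 4 (Nat.add (Nat.mod (d4 v 4096) 3) (Nat.mul 4 (Nat.add (Nat.mod (d4 v 16384) 3) (Nat.mul 4 (Nat.add (Nat.mod (Nat.add (d4 v 65536) (d4 v 67108864)) 3) (Nat.mul 4 (Nat.add (Nat.mod (d4 v 262144) 3) (Nat.mul 4 (Nat.add (Nat.mod (d4 v 1048576) 3) (Nat.mul 4 (Nat.add (Nat.mod (d4 v 4194304) 3) (Nat.mul 4 (Nat.add (Nat.mod (d4 v 16777216) 3) (Nat.mul 4 (Nat.add (Nat.mod (d4 v 67108864) 3) (Nat.mul 4 0))))))))))))))))))))))))))))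

private theorem G7_eq (v : ℕ) : gn 7 v = G7 v := by
  show nvv 4 v = _
  delta nvv
  simp only [show dg 4 0 = 0 from rfl, show dg 4 1 = 1 from rfl, show dg 4 2 = 0 from rfl, show dg 4 3 = 0 from rfl, show dg 4 4 = 0 from rfl, show dg 4 5 = 0 from rfl,
    Nat.zero_mul, Nat.mul_zero, Nat.one_mul, Nat.mul_one, Nat.zero_add, Nat.add_zero]
  rfl

private def G8 (v : ℕ) : ℕ :=
  (Nat.add (Nat.mod (Nat.add (d4 v 1) (d4 v 64)) 3) (Nat.mul 4 (Nat.add (Nat.mod (Nat.add (d4 v 4) (d4 v 65536)) 3) (Nat.mul 4 (Nat.add (Nat.mod (Nat.add (d4 v 16) (d4 v 16384)) 3) (Nat.mul 4 (Nat.add (Nat.mod (d4 v 64) 3) (Nat.mul 4 (Nat.add (Nat.mod (d4 v 256) 3) (Nat.mul 4 (Nat.add (Nat.mod (d4 v 1024) 3) (Nat.mul 4 (Nat.add (Nat.mod (Nat.add (d4 v 4096) (Nat.mul 2 (d4 v 16777216))) 3) (Nat.mul 4 (Nat.add (Nat.mod (d4 v 16384) 3) (Nat.mul 4 (Nat.add (Nat.mod (d4 v 65536) 3) (Nat.mul 4 (Nat.add (Nat.mod (Nat.add (d4 v 262144) (d4 v 67108864)) 3) (Nat.mul 4 (Nat.add (Nat.mod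 (d4 v 1048576) 3) (Nat.mul 4 (Nat.add (Nat.mod (d4 v 4194304) 3) (Nat.mul 4 (Nat.add (Nat.mod (d4 v 16777216) 3) (Nat.mul 4 (Nat.add (Nat.mod (d4 v 67108864) 3) (Nat.mul 4 0))))))))))))))))))))))))))))

private theorem G8_eq (v : ℕ) : gn 8 v = G8 v := by
  show nvv 16 v = _
  delta nvv
  simp only [show dg 16 0 = 0 from rfl, show dg 16 1 = 0 from rfl, show dg 16 2 = 1 from rfl, show dg 16 3 = 0 from rfl, show dg 16 4 = 0 from rfl, show dg 16 5 = 0 from rfl,
    Nat.zero_mul, Nat.mul_zero, Nat.one_mul, Nat.mul_one, Nat.zero_add, Nat.add_zero]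
  rfl

private def G9 (v : ℕ) : ℕ :=
  (Nat.add (Nat.mod (Nat.add (Nat.add (d4 v 1) (Nat.mul 2 (d4 v 256))) (Nat.mul 2 (d4 v 16384))) 3) (Nat.mul 4 (Nat.add (Nat.mod (Nat.add (Nat.add (d4 v 4) (d4 v 1048576)) (Nat.mul 2 (d4 v 67108864))) 3) (Nat.mul 4 (Nat.add (Nat.mod (d4 v 16) 3) (Nat.mul 4 (Nat.add (Nat.mod (d4 v 64) 3) (Nat.mul 4 (Nat.add (Nat.mod (Nat.add (d4 v 256) (Nat.mul 2 (d4 v 16384))) 3) (Nat.mul 4 (Nat.add (Nat.mod (Nat.add (d4 v 1024) (d4 v 16777216)) 3) (Nat.mul 4 (Nat.add (Nat.mod (Nat.add (d4 v 4096) (d4 v 4194304)) 3) (Nat.mul 4 (Nat.add (Nat.mod (d4 v 16384) 3) (Nat.mul 4 (Nat.add (Nat.mod (d4 v 65536) 3) (Nat.mul 4 (Nat.add (Nat.mod (d4 v 262144) 3) (Nat.mul 4 (Nat.add (Nat.mod (Nat.add (d4 v 1048576) (d4 v 67108864)) 3) (Nat.mul 4 (Nat.add (Nat.mod (d4 v 4194304) 3) (Nat.mul 4 (Nat.add (Nat.mod (d4 v 16777216) 3) (Nat.mul 4 (Nat.add (Nat.mod (d4 v 67108864) 3) (Nat.mul 4 0))))))))))))))))))))))))))))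

private theorem G9_eq (v : ℕ) : gn 9 v = G9 v := by
  show nvv 64 v = _
  delta nvv
  simp only [show dg 64 0 = 0 from rfl, show dg 64 1 = 0 from rfl, show dg 64 2 = 0 from rfl, show dg 64 3 = 1 from rfl, show dg 64 4 = 0 from rfl, show dg 64 5 = 0 from rfl,
    Nat.zero_mul, Nat.mul_zero, Nat.one_mul, Nat.mul_one, Nat.zero_add, Nat.add_zero]
  rfl

private def G10 (v : ℕ) : ℕ :=
  (Nat.add (Nat.mod (Nat.add (Nat.add (d4 v 1) (Nat.mul 2 (d4 v 1024))) (Nat.mul 2 (d4 v 65536))) 3) (Nat.mul 4 (Nat.add (Nat.mod (d4 v 4) 3) (Nat.mul 4 (Nat.add (Nat.mod (Nat.add (Nat.add (d4 v 16) (d4 v 4194304)) (Nat.mul 2 (d4 v 67108864))) 3) (Nat.mul 4 (Nat.add (Nat.mod (d4 v 64) 3) (Nat.mul 4 (Nat.add (Nat.mod (Nat.add (d4 v 256) (d4 v 16777216)) 3) (Nat.mul 4 (Nat.add (Nat.mod (Nat.add (d4 v 1024) (Nat.mul 2 (d4 v 65536))) 3) (Nat.mul 4 (Nat.add (Nat.mod (Nat.add (d4 v 4096) (d4 v 1048576)) 3) (Nat.mul 4 (Nat.add (Nat.mod (d4 v 16384) 3) (Nat.mul 4 (Nat.add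 (Nat.mod (d4 v 65536) 3) (Nat.mul 4 (Nat.add (Nat.mod (d4 v 262144) 3) (Nat.mul 4 (Nat.add (Nat.mod (d4 v 1048576) 3) (Nat.mul 4 (Nat.add (Nat.mod (Nat.add (d4 v 4194304) (d4 v 67108864)) 3) (Nat.mul 4 (Nat.add (Nat.mod (d4 v 16777216) 3) (Nat.mul 4 (Nat.add (Nat.mod (d4 v 67108864) 3) (Nat.mul 4 0))))))))))))))))))))))))))))

private theorem G10_eq (v : ℕ) : gn 10 v = G10 v := by
  show nvv 256 v = _
  delta nvv
  simp only [show dg 256 0 = 0 from rfl, show dg 256 1 = 0 from rfl, show dg 256 2 = 0 from rfl, show dg 256 3 = 0 from rfl, show dg 256 4 = 1 from rfl, show dg 256 5 = 0 from rfl,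
    Nat.zero_mul, Nat.mul_zero, Nat.one_mul, Nat.mul_one, Nat.zero_add, Nat.add_zero]
  rfl

private def G11 (v : ℕ) : ℕ :=
  (Nat.add (Nat.mod (Nat.add (Nat.add (d4 v 1) (Nat.mul 2 (d4 v 4096))) (Nat.mul 2 (d4 v 262144))) 3) (Nat.mul 4 (Nat.add (Nat.mod (d4 v 4) 3) (Nat.mul 4 (Nat.add (Nat.mod (d4 v 16) 3) (Nat.mul 4 (Nat.add (Nat.mod (Nat.add (Nat.add (d4 v 64) (d4 v 16777216)) (Nat.mul 2 (d4 v 67108864))) 3) (Nat.mul 4 (Nat.add (Nat.mod (Nat.add (d4 v 256) (d4 v 4194304)) 3) (Nat.mul 4 (Nat.add (Nat.mod (Nat.add (d4 v 1024) (d4 v 1048576)) 3) (Nat.mul 4 (Nat.add (Nat.mod (Nat.add (d4 v 4096) (Nat.mul 2 (d4 v 262144))) 3) (Nat.mul 4 (Nat.add (Nat.mod (d4 v 16384) 3) (Nat.mul 4 (Nat.add (Nat.mod (d4 v 65536) 3) (Nat.mul 4 (Nat.add (Nat.mod (d4 v 262144) 3) (Nat.mul 4 (Nat.add (Nat.mod (d4 v 1048576) 3) (Nat.mul 4 (Nat.add (Nat.mod (d4 v 4194304) 3) (Nat.mul 4 (Nat.add (Nat.mod (Nat.add (d4 v 16777216) (d4 v 67108864)) 3) (Nat.mul 4 (Nat.add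 (Nat.mod (d4 v 67108864) 3) (Nat.mul 4 0))))))))))))))))))))))))))))

private theorem G11_eq (v : ℕ) : gn 11 v = G11 v := by
  show nvv 1024 v = _
  delta nvv
  simp only [show dg 1024 0 = 0 from rfl, show dg 1024 1 = 0 from rfl, show dg 1024 2 = 0 from rfl, show dg 1024 3 = 0 from rfl, show dg 1024 4 = 0 from rfl, show dg 1024 5 = 1 from rfl,
    Nat.zero_mul, Nat.mul_zero, Nat.one_mul, Nat.mul_one, Nat.zero_add, Nat.add_zero]
  rfl

private def nF (v : ℕ) : ℕ :=
  (Nat.add (Nat.mod (Nat.mul 2 (d4 v 1)) 3) (Nat.mul 4 (Nat.add (Nat.mod (Nat.mul 2 (d4 v 4)) 3) (Nat.mul 4 (Nat.add (Nat.mod (Nat.mul 2 (d4 v 16)) 3) (Nat.mul 4 (Nat.add (Nat.mod (Nat.mul 2 (d4 v 64)) 3) (Nat.mul 4 (Nat.add (Nat.mod (Nat.mul 2 (d4 v 256)) 3) (Nat.mul 4 (Nat.add (Nat.mod (Nat.mul 2 (d4 v 1024)) 3) (Nat.mul 4 (Nat.add (Nat.mod (Nat.mul 2 (d4 v 4096)) 3) (Nat.mul 4 (Nat.add (Nat.mod (Nat.mul 2 (d4 v 16384)) 3) (Nat.mul 4 (Nat.add (Nat.mod (Nat.mul 2 (d4 v 65536))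 3) (Nat.mul 4 (Nat.add (Nat.mod (Nat.mul 2 (d4 v 262144)) 3) (Nat.mul 4 (Nat.add (Nat.mod (Nat.mul 2 (d4 v 1048576)) 3) (Nat.mul 4 (Nat.add (Nat.mod (Nat.mul 2 (d4 v 4194304)) 3) (Nat.mul 4 (Nat.add (Nat.mod (Nat.mul 2 (d4 v 16777216)) 3) (Nat.mul 4 (Nat.add (Nat.mod (Nat.mul 2 (d4 v 67108864)) 3) (Nat.mul 4 0))))))))))))))))))))))))))))

private theorem nF_eq (v : ℕ) : nneg v = nF v := rfl

private def lgF (i : ℕ) : ℕ := Nat.mod (Nat.mod (Nat.shiftRight LB (Nat.mul 48 i)) 281474976710656) 268435456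

private def cF (G : ℕ → ℕ) (C i : ℕ) : Bool :=
  Nat.blt (Nat.mod (Nat.shiftRight C (Nat.mul 12 i)) 4096) 1120 &&
    (Nat.beq (G (lgF i)) (lgF (Nat.mod (Nat.shiftRight C (Nat.mul 12 i)) 4096)) ||
      Nat.beq (G (lgF i)) (nF (lgF (Nat.mod (Nat.shiftRight C (Nat.mul 12 i)) 4096))))

private noncomputable def aF (f : ℕ → Bool) (n : ℕ) : Bool := Nat.rec true (fun k ih => Bool.rec false ih (f k)) n

private theorem aF_spec {f : ℕ → Bool} {n : ℕ} (h : aF f n = true) : ∀ k < n, f k = true := by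
  induction n with
  | zero => intro k hk; exact absurd hk (Nat.not_lt_zero k)
  | succ n ih =>
    have h1 : (Bool.rec false (aF f n) (f n) : Bool) = true := h
    rcases h2 : f n with _ | _
    · rw [h2] at h1; exact absurd h1 Bool.false_ne_true
    rw [h2] at h1
    intro k hk
    rcases Nat.lt_succ_iff_lt_or_eq.1 hk with h3 | rfl
    · exact ih h1 k h3
    · exact h2

private theorem chkc_of {g : ℕ} {G : ℕ → ℕ} (hG : ∀ v, gn g v = G v) (h : aF (cF G (LCs.getD g 0)) 1120 = true) :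
    ∀ i < 1120, chkc g i = true := by
  intro i hi
  unfold chkc
  rw [hG, nF_eq]
  exact aF_spec h i hi

theorem blk {f : ℕ → Bool} (h0 : allb (fun j => f (280 * 0 + j)) 280 = true)
    (h1 : allb (fun j => f (280 * 1 + j)) 280 = true) (h2 : allb (fun j => f (280 * 2 + j)) 280 = true)
    (h3 : allb (fun j => f (280 * 3 + j)) 280 = true) : ∀ i < 1120, f i = true := by
  intro n hn
  have h : n = 280 * (n / 280) + n % 280 := (Nat.div_add_mod n 280).symm
  have h4 : n / 280 < 4 := by omega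
  have h5 : n % 280 < 280 := Nat.mod_lt _ (by norm_num)
  rw [h]
  generalize n % 280 = j at h5 ⊢
  generalize n / 280 = k at h4 ⊢
  interval_cases k
  · exact allb_spec h0 j h5
  · exact allb_spec h1 j h5
  · exact allb_spec h2 j h5
  · exact allb_spec h3 j h5

theorem chkn_all : ∀ i < 1120, chkn i = true := blk chkn_0 chkn_1 chkn_2 chkn_3

theorem chkc_all {g : ℕ} (hg : g < 12) : ∀ i < 1120, chkc g i = true := by
  interval_cases g
  · exact chkc_of G0_eq (by decide +kernel)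
  · exact chkc_of G1_eq (by decide +kernel)
  · exact chkc_of G2_eq (by decide +kernel)
  · exact chkc_of G3_eq (by decide +kernel)
  · exact chkc_of G4_eq (by decide +kernel)
  · exact chkc_of G5_eq (by decide +kernel)
  · exact chkc_of G6_eq (by decide +kernel)
  · exact chkc_of G7_eq (by decide +kernel)
  · exact chkc_of G8_eq (by decide +kernel)
  · exact chkc_of G9_eq (by decide +kernel)
  · exact chkc_of G10_eq (by decide +kernel)
  · exact chkc_of G11_eq (by decide +kernel)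


end Cfsg.Agent.H69.F43
end

-- part: H69/F43/One
section
/-!
# The long root vectors of `V₁₄` (S2464, F₄(3); helper69)

* `O1` : the orbit of `e0`; `mem_O1`, `neg_mem_O1`, `act_mem_O1`, `card_filter_O1`; `card_O1 : O1.card = 2240`;
* `T1` : for `μ ≠ 0` there are between `648` and `810` vectors `w ∈ O1` with `bf μ w = 1`.
-/

set_option autoImplicit false

namespace Cfsg.Agent.H69.F43

open Cfsg.Agent.H700.F43 Cfsg.Agent.H675.F43

theorem Xuu_add {T T' : Matrix (Fin 3) (Fin 3) F3} (hT : T.transpose = T) (hT' : T'.transpose = T') (v : V14) :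
    Xuu (T + T') v = Xuu T (Xuu T' v) := by
  have hs : (T + T').transpose = T + T' := by rw [Matrix.transpose_add, hT, hT']
  have h : uu (T + T') hs = uu T hT * uu T' hT' := by
    refine Subtype.ext ?_
    change Matrix.fromBlocks 1 (T + T') 0 1 = Matrix.fromBlocks 1 T 0 1 * Matrix.fromBlocks 1 T' 0 1
    rw [Matrix.fromBlocks_multiply]
    congr 1 <;> simp [add_comm]
  have h1 := act_uu (T + T') hs
  rw [h, map_mul, act_uu, act_uu] at h1
  exact (LinearMap.congr_fun h1 v).symm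

theorem Xvv_add {T T' : Matrix (Fin 3) (Fin 3) F3} (hT : T.transpose = T) (hT' : T'.transpose = T') (v : V14) :
    Xvv (T + T') v = Xvv T (Xvv T' v) := by
  have hs : (T + T').transpose = T + T' := by rw [Matrix.transpose_add, hT, hT']
  have h : vv (T + T') hs = vv T hT * vv T' hT' := by
    refine Subtype.ext ?_
    change Matrix.fromBlocks 1 0 (T + T') 1 = Matrix.fromBlocks 1 0 T 1 * Matrix.fromBlocks 1 0 T' 1
    rw [Matrix.fromBlocks_multiply]
    congr 1 <;> simp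
  have h1 := act_vv (T + T') hs
  rw [h, map_mul, act_vv, act_vv] at h1
  exact (LinearMap.congr_fun h1 v).symm

theorem Xuu_zero (v : V14) : Xuu 0 v = v := by
  ext k
  fin_cases k <;> simp [Xuu]

theorem Xvv_zero (v : V14) : Xvv 0 v = v := by
  ext k
  fin_cases k <;> simp [Xvv]

/-- the set of the points -/
def PS (v : V14) : Prop := ∃ i < 1120, v = vec (lg i) ∨ v = -vec (lg i)

theorem PS.neg {v : V14} (h : PS v) : PS (-v) := by
  obtain ⟨i, hi, h⟩ := h
  refine ⟨i, hi, ?_⟩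
  rcases h with rfl | rfl
  · exact Or.inr rfl
  · exact Or.inl (neg_neg _)

theorem ps_gn {g i : ℕ} (hg : g < 12) (hi : i < 1120) : PS (vec (gn g (lg i))) := by
  have h := chkc_all hg i hi
  rw [chkc, Bool.and_eq_true, Bool.or_eq_true] at h
  have h1 : col g i < 1120 := Nat.le_of_ble_eq_true h.1
  refine ⟨_, h1, ?_⟩
  rcases h.2 with h2 | h2
  · rw [Nat.eq_of_beq_eq_true h2]
    exact Or.inl rfl
  · rw [Nat.eq_of_beq_eq_true h2, vec_nneg]
    exact Or.inr rfl

theorem ps_uu_el {j : ℕ} (hj : j < 6) {v : V14} (h : PS v) : PS (Xuu (mt (4 ^ j)) v) := by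
  obtain ⟨i, hi, h⟩ := h
  have h1 := ps_gn (g := j) (by omega) hi
  rw [gn, if_pos hj, vec_nuu] at h1
  rcases h with rfl | rfl
  · exact h1
  · rw [map_neg]
    exact h1.neg

theorem ps_vv_el {j : ℕ} (hj : j < 6) {v : V14} (h : PS v) : PS (Xvv (mt (4 ^ j)) v) := by
  obtain ⟨i, hi, h⟩ := h
  have h1 := ps_gn (g := j + 6) (by omega) hi
  rw [gn, if_neg (by omega), Nat.add_sub_cancel, vec_nvv] at h1
  rcases h with rfl | rfl
  · exact h1
  · rw [map_neg]
    exact h1.neg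

theorem smul_cases (P : Matrix (Fin 3) (Fin 3) F3 → Prop) {E : Matrix (Fin 3) (Fin 3) F3} (h0 : P 0) (h1 : P E)
    (h2 : P (E + E)) : ∀ a : F3, P (a • E) := by
  intro a
  have ha : a = 0 ∨ a = 1 ∨ a = 1 + 1 := by
    revert a
    decide
  rcases ha with rfl | rfl | rfl
  · rwa [zero_smul]
  · rwa [one_smul]
  · rwa [add_smul, one_smul]

theorem mt_split {T : Matrix (Fin 3) (Fin 3) F3} (hT : T.transpose = T) :
    T = T 0 0 • mt (4 ^ 0) + T 1 1 • mt (4 ^ 1) + T 2 2 • mt (4 ^ 2) + T 1 2 • mt (4 ^ 3) + T 0 2 • mt (4 ^ 4) +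
      T 0 1 • mt (4 ^ 5) := by
  have h01 : T 1 0 = T 0 1 := congrFun (congrFun hT 0) 1
  have h02 : T 2 0 = T 0 2 := congrFun (congrFun hT 0) 2
  have h12 : T 2 1 = T 1 2 := congrFun (congrFun hT 1) 2
  ext i j
  fin_cases i <;> fin_cases j <;> simp [mt, dg, h01, h02, h12]

/-- closed under sums and the elementary matrices: everything -/
theorem sym_ind (P : Matrix (Fin 3) (Fin 3) F3 → Prop) (h0 : P 0)
    (hadd : ∀ T T', T.transpose = T → T'.transpose = T' → P T → P T' → P (T + T'))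
    (hel : ∀ j < 6, P (mt (4 ^ j))) {T : Matrix (Fin 3) (Fin 3) F3} (hT : T.transpose = T) : P T := by
  have hs : ∀ (a : F3) (j : ℕ), (a • mt (4 ^ j)).transpose = a • mt (4 ^ j) := by
    intro a j
    rw [Matrix.transpose_smul, mt_sym]
  have hm : ∀ j < 6, ∀ a : F3, P (a • mt (4 ^ j)) := fun j hj =>
    smul_cases P h0 (hel j hj) (hadd _ _ (mt_sym _) (mt_sym _) (hel j hj) (hel j hj))
  have ht : ∀ {T T' : Matrix (Fin 3) (Fin 3) F3}, T.transpose = T → T'.transpose = T' → (T + T').transpose = T + T' := by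
    intro T T' h h'
    rw [Matrix.transpose_add, h, h']
  rw [mt_split hT]
  refine hadd _ _ (ht (ht (ht (ht (hs _ _) (hs _ _)) (hs _ _)) (hs _ _)) (hs _ _)) (hs _ _) ?_ (hm 5 (by norm_num) _)
  refine hadd _ _ (ht (ht (ht (hs _ _) (hs _ _)) (hs _ _)) (hs _ _)) (hs _ _) ?_ (hm 4 (by norm_num) _)
  refine hadd _ _ (ht (ht (hs _ _) (hs _ _)) (hs _ _)) (hs _ _) ?_ (hm 3 (by norm_num) _)
  refine hadd _ _ (ht (hs _ _) (hs _ _)) (hs _ _) ?_ (hm 2 (by norm_num) _)
  exact hadd _ _ (hs _ _) (hs _ _) (hm 0 (by norm_num) _) (hm 1 (by norm_num) _)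

theorem ps_uu {T : Matrix (Fin 3) (Fin 3) F3} (hT : T.transpose = T) : ∀ {v : V14}, PS v → PS (Xuu T v) := by
  refine sym_ind (fun T => ∀ {v : V14}, PS v → PS (Xuu T v)) ?_ ?_ ?_ hT
  · intro v h
    rwa [Xuu_zero]
  · intro T T' hT hT' h h' v hv
    rw [Xuu_add hT hT']
    exact h (h' hv)
  · intro j hj v h
    exact ps_uu_el hj h

theorem ps_vv {T : Matrix (Fin 3) (Fin 3) F3} (hT : T.transpose = T) : ∀ {v : V14}, PS v → PS (Xvv T v) := by
  refine sym_ind (fun T => ∀ {v : V14}, PS v → PS (Xvv T v)) ?_ ?_ ?_ hT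
  · intro v h
    rwa [Xvv_zero]
  · intro T T' hT hT' h h' v hv
    rw [Xvv_add hT hT']
    exact h (h' hv)
  · intro j hj v h
    exact ps_vv_el hj h

theorem ps_act (A : Sp) : ∀ {v : V14}, PS v → PS (act A v) := by
  have h : A ∈ Subgroup.closure {A : Sp | (∃ T, ∃ hT : T.transpose = T, A = uu T hT) ∨
      ∃ S, ∃ hS : S.transpose = S, A = vv S hS} := by
    rw [H980.F43.gen_sp]
    trivial
  induction h using Subgroup.closure_induction'' with
  | mem x hx =>
    intro v hv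
    rcases hx with ⟨T, hT, rfl⟩ | ⟨T, hT, rfl⟩
    · rw [act_uu]
      exact ps_uu hT hv
    · rw [act_vv]
      exact ps_vv hT hv
  | inv_mem x hx =>
    intro v hv
    rcases hx with ⟨T, hT, rfl⟩ | ⟨T, hT, rfl⟩
    · rw [H675.F43.uu_inv, act_uu]
      exact ps_uu (by rw [Matrix.transpose_neg, hT]) hv
    · rw [H675.F43.vv_inv, act_vv]
      exact ps_vv (by rw [Matrix.transpose_neg, hT]) hv
  | one =>
    intro v hv
    rw [map_one]
    exact hv
  | mul x y _ _ hx hy =>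
    intro v hv
    rw [map_mul]
    exact hx (hy hv)

/-! ### the orbit -/

/-- a long root vector -/
def e0 : V14 := Pi.single 0 1

theorem vec_one : vec 1 = e0 := by
  ext k
  fin_cases k <;> simp [vec, e0, dg]

theorem Eqv.neg {u v : V14} (h : Eqv u v) : Eqv u (-v) := by
  obtain ⟨A, rfl⟩ := h
  exact ⟨ng * A, by rw [map_mul, act_ng]; rfl⟩

theorem eqv_gn (g u : ℕ) : Eqv (vec u) (vec (gn g u)) := by
  unfold gn
  split_ifs
  · exact eqv_nuu _ _
  · exact eqv_nvv _ _

/-- every point is in the orbit -/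
theorem pt_eqv : ∀ i < 1120, Eqv e0 (vec (lg i)) := by
  have key : ∀ d i, i < 1120 → ldi i = d → Eqv e0 (vec (lg i)) := by
    intro d
    induction d using Nat.strong_induction_on with
    | _ d ih =>
      intro i hi hd
      have h := chkn_all i hi
      rw [chkn, Bool.and_eq_true, Bool.or_eq_true] at h
      rcases h.2 with h1 | h1
      · rw [Nat.eq_of_beq_eq_true h1, lg_zero, vec_one]
        exact Eqv.refl _
      · simp only [Bool.and_eq_true] at h1
        obtain ⟨⟨⟨⟨-, h2⟩, h3⟩, h4⟩, h5⟩ := h1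
        have h2 : lpa i < 1120 := Nat.le_of_ble_eq_true h2
        have h3 : lge i < 12 := Nat.le_of_ble_eq_true h3
        have h4 := Nat.eq_of_beq_eq_true h4
        have h5 : ldi (lpa i) < ldi i := Nat.le_of_ble_eq_true h5
        have h6 := (ih _ (hd ▸ h5) (lpa i) h2 rfl).trans (eqv_gn (lge i) _)
        have h7 := chkc_all h3 (lpa i) h2
        rw [chkc, Bool.and_eq_true, Bool.or_eq_true, h4] at h7
        rcases h7.2 with h8 | h8
        · rwa [Nat.eq_of_beq_eq_true h8] at h6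
        · rw [Nat.eq_of_beq_eq_true h8, vec_nneg] at h6
          have h9 := h6.neg
          rwa [neg_neg] at h9
  exact fun i hi => key _ i hi rfl

open Classical in
/-- the orbit of the long root vectors -/
noncomputable def O1 : Finset V14 := Finset.univ.filter (Eqv e0)

theorem mem_O1' {v : V14} : v ∈ O1 ↔ Eqv e0 v := by
  simp [O1]

theorem mem_O1 {v : V14} : v ∈ O1 ↔ ∃ i < 1120, v = vec (lg i) ∨ v = -vec (lg i) := by
  rw [mem_O1']
  constructor
  · rintro ⟨A, rfl⟩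
    refine ps_act A ⟨0, by norm_num, Or.inl ?_⟩
    rw [lg_zero, vec_one]
  · rintro ⟨i, hi, rfl | rfl⟩
    · exact pt_eqv i hi
    · exact (pt_eqv i hi).neg

theorem act_mem_O1 (A : Sp) {v : V14} : act A v ∈ O1 ↔ v ∈ O1 := by
  rw [mem_O1', mem_O1']
  exact ⟨fun h => h.trans (Eqv.symm ⟨A, rfl⟩), fun h => h.trans ⟨A, rfl⟩⟩

theorem neg_mem_O1 {v : V14} : -v ∈ O1 ↔ v ∈ O1 := by
  rw [mem_O1', mem_O1']
  exact ⟨fun h => by have := h.neg; rwa [neg_neg] at this, fun h => h.neg⟩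

/-! ### no repetitions -/

theorem ofl_dl {c c' : ℕ} (h : ∀ k < 14, dg c k % 3 = dg c' k % 3) : ofl (dl c) = ofl (dl c') := by
  simp only [ofl, dl, h 0 (by norm_num), h 1 (by norm_num), h 2 (by norm_num), h 3 (by norm_num), h 4 (by norm_num),
    h 5 (by norm_num), h 6 (by norm_num), h 7 (by norm_num), h 8 (by norm_num), h 9 (by norm_num), h 10 (by norm_num),
    h 11 (by norm_num), h 12 (by norm_num), h 13 (by norm_num)]

theorem fst3_mod (l : List ℕ) : fst3 l = fst3 (l.map (· % 3)) := by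
  induction l with
  | nil => rfl
  | cons a l ih => simp only [fst3, List.map_cons, Nat.mod_mod, ih]

theorem fst3_two (l : List ℕ) : fst3 (l.map (2 * ·)) = 2 * fst3 l % 3 := by
  induction l with
  | nil => rfl
  | cons a l ih =>
    simp only [fst3, List.map_cons]
    by_cases h : a % 3 = 0
    · rw [if_pos (by omega), if_pos h, ih]
    · rw [if_neg (by omega), if_neg h]
      omega

theorem cast_eq {a b : ℕ} (h : (a : F3) = b) : a % 3 = b % 3 := (ZMod.natCast_eq_natCast_iff' a b 3).1 h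

theorem chkn_ofl {i : ℕ} (hi : i < 1120) : ofl (dl (lg i)) = lg i := by
  have h := chkn_all i hi
  simp only [chkn, Bool.and_eq_true] at h
  exact Nat.eq_of_beq_eq_true h.1.1

theorem chkn_fst {i : ℕ} (hi : i < 1120) : fst3 (dl (lg i)) = 1 := by
  have h := chkn_all i hi
  simp only [chkn, Bool.and_eq_true] at h
  exact Nat.eq_of_beq_eq_true h.1.2

theorem lg_lt {i : ℕ} (hi : i + 1 < 1120) : lg i < lg (i + 1) := by
  have h := chkn_all (i + 1) hi
  rw [chkn, Bool.and_eq_true, Bool.or_eq_true] at h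
  rcases h.2 with h1 | h1
  · exact absurd (Nat.eq_of_beq_eq_true h1) (Nat.succ_ne_zero i)
  · simp only [Bool.and_eq_true] at h1
    exact Nat.le_of_ble_eq_true h1.1.1.1.1

theorem lg_strict {i j : ℕ} (hij : i < j) (hj : j < 1120) : lg i < lg j := by
  induction j with
  | zero => omega
  | succ j ih =>
    rcases Nat.lt_succ_iff_lt_or_eq.1 hij with h | rfl
    · exact (ih h (by omega)).trans (lg_lt hj)
    · exact lg_lt hj

theorem lg_inj {i j : ℕ} (hi : i < 1120) (hj : j < 1120) (h : vec (lg i) = vec (lg j)) : i = j := by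
  have h1 : lg i = lg j := by
    rw [← chkn_ofl hi, ← chkn_ofl hj]
    exact ofl_dl fun k hk => cast_eq (congrFun h ⟨k, hk⟩)
  rcases Nat.lt_trichotomy i j with h2 | h2 | h2
  · exact absurd h1 (lg_strict h2 hj).ne
  · exact h2
  · exact absurd h1 (lg_strict h2 hi).ne'

theorem lg_ne_neg {i j : ℕ} (hi : i < 1120) (hj : j < 1120) : vec (lg i) ≠ -vec (lg j) := by
  intro h
  have h1 : ∀ k < 14, dg (lg i) k % 3 = (2 * dg (lg j) k) % 3 := by
    intro k hk
    have h2 := congrFun h ⟨k, hk⟩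
    rw [Pi.neg_apply, neg_eq2] at h2
    refine cast_eq ?_
    rw [Nat.cast_mul]
    exact h2
  have h3 : (dl (lg i)).map (· % 3) = ((dl (lg j)).map (2 * ·)).map (· % 3) := by
    simp only [dl, List.map_cons, List.map_nil, h1 0 (by norm_num), h1 1 (by norm_num), h1 2 (by norm_num),
      h1 3 (by norm_num), h1 4 (by norm_num), h1 5 (by norm_num), h1 6 (by norm_num), h1 7 (by norm_num),
      h1 8 (by norm_num), h1 9 (by norm_num), h1 10 (by norm_num), h1 11 (by norm_num), h1 12 (by norm_num),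
      h1 13 (by norm_num)]
  have h4 := chkn_fst hi
  rw [fst3_mod, h3, ← fst3_mod, fst3_two, chkn_fst hj] at h4
  omega

/-- **Counting in the orbit.** -/
theorem card_filter_O1 (P : V14 → Prop) [DecidablePred P] : (O1.filter P).card =
    ((Finset.range 1120).filter fun i => P (vec (lg i))).card +
      ((Finset.range 1120).filter fun i => P (-vec (lg i))).card := by
  have h : O1.filter P = (((Finset.range 1120).filter fun i => P (vec (lg i))).image fun i => vec (lg i)) ∪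
      (((Finset.range 1120).filter fun i => P (-vec (lg i))).image fun i => -vec (lg i)) := by
    ext v
    simp only [Finset.mem_filter, Finset.mem_union, Finset.mem_image, Finset.mem_range, mem_O1]
    constructor
    · rintro ⟨⟨i, hi, rfl | rfl⟩, hP⟩
      · exact Or.inl ⟨i, ⟨hi, hP⟩, rfl⟩
      · exact Or.inr ⟨i, ⟨hi, hP⟩, rfl⟩
    · rintro (⟨i, ⟨hi, hP⟩, rfl⟩ | ⟨i, ⟨hi, hP⟩, rfl⟩)
      · exact ⟨⟨i, hi, Or.inl rfl⟩, hP⟩
      · exact ⟨⟨i, hi, Or.inr rfl⟩, hP⟩
  rw [h, Finset.card_union_of_disjoint, Finset.card_image_of_injOn, Finset.card_image_of_injOn]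
  · intro i hi j hj hij
    simp only [Finset.coe_filter, Finset.mem_range, Set.mem_ofPred_eq] at hi hj
    exact lg_inj hi.1 hj.1 (neg_injective hij)
  · intro i hi j hj hij
    simp only [Finset.coe_filter, Finset.mem_range, Set.mem_ofPred_eq] at hi hj
    exact lg_inj hi.1 hj.1 hij
  · rw [Finset.disjoint_left]
    intro v hv hv'
    simp only [Finset.mem_filter, Finset.mem_image, Finset.mem_range] at hv hv'
    obtain ⟨i, ⟨hi, -⟩, rfl⟩ := hv
    obtain ⟨j, ⟨hj, -⟩, hj'⟩ := hv'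
    exact lg_ne_neg hi hj hj'.symm

theorem card_O1 : O1.card = 2240 := by
  classical
  have h := card_filter_O1 fun _ => True
  simp only [Finset.filter_true, Finset.card_range] at h
  exact h

/-! ### the numbers `c(μ)` -/

/-- code of the form -/
def bfc (u v : ℕ) : ℕ := dg u 0 * dg v 13 + 2 * (dg u 13 * dg v 0) +
  2 * (dg u 1 * dg v 7 + dg u 2 * dg v 8 + dg u 3 * dg v 9) + (dg u 7 * dg v 1 + dg u 8 * dg v 2 + dg u 9 * dg v 3) +
  (dg u 4 * dg v 10 + dg u 5 * dg v 11 + dg u 6 * dg v 12) + 2 * (dg u 10 * dg v 4 + dg u 11 * dg v 5 + dg u 12 * dg v 6)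

theorem bfc_cast (u v : ℕ) : ((bfc u v : ℕ) : F3) = bf (vec u) (vec v) := by
  simp [bfc, bf, vec]
  grind

/-- bounded counting -/
def cnt (f : ℕ → Bool) : ℕ → ℕ
  | 0 => 0
  | k + 1 => cnt f k + cond (f k) 1 0

theorem cnt_eq (f : ℕ → Bool) (n : ℕ) : cnt f n = ((Finset.range n).filter fun i => f i = true).card := by
  induction n with
  | zero => rfl
  | succ n ih =>
    rw [cnt, Finset.range_add_one, Finset.filter_insert, ih]
    split_ifs with h
    · rw [Finset.card_insert_of_notMem (by simp), h]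
      rfl
    · rw [Bool.not_eq_true] at h
      rw [h]
      rfl

/-- test: the form is nonzero -/
def pN (r i : ℕ) : Bool := !Nat.beq (bfc (lg i) (nc r) % 3) 0

theorem pN_iff (r i : ℕ) : pN r i = true ↔ bf (vec (nc r)) (vec (lg i)) ≠ 0 := by
  rw [bf_swap, neg_ne_zero, ← bfc_cast, Ne, ← Nat.cast_zero, ZMod.natCast_eq_natCast_iff', pN, Bool.not_eq_true',
    Bool.eq_false_iff, Ne, Nat.beq_eq]

private noncomputable def _root_.Cfsg.Agent.LsF.fba70c7_12 : {f // @Cfsg.Agent.H69.F43.cnt = f} := ⟨_, by first | (delta Cfsg.Agent.H69.F43.cnt Cfsg.Agent.H69.F43.cnt._f Nat.brecOn.go Nat.brecOn; rewrite [Cfsg.Agent.LsF.nadd_pat, Cfsg.Agent.LsF.cond_eq]; (try delta Cfsg.Agent.H69.F43.cnt.match_1); (try delta Nat.casesOn); first | dsimp -zeta only | exact rfl) | exact rfl⟩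
private noncomputable def _root_.Cfsg.Agent.LsF.fba70c7_13 : {f // @Cfsg.Agent.H69.F43.bfc = f} := ⟨_, by first | (delta Cfsg.Agent.H69.F43.bfc; rewrite [Cfsg.Agent.LsF.fba70c7_2.2, Cfsg.Agent.LsF.nadd_pat, Cfsg.Agent.LsF.nmul_pat]; exact rfl) | exact rfl⟩
private noncomputable def _root_.Cfsg.Agent.LsF.fba70c7_14 : {f // @Cfsg.Agent.H69.F43.nc = f} := ⟨_, by first | (delta Cfsg.Agent.H69.F43.nc; rewrite [Cfsg.Agent.LsF.fba70c7_1.2, Cfsg.Agent.LsF.ndiv_pat]; exact rfl) | exact rfl⟩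
private noncomputable def _root_.Cfsg.Agent.LsF.fba70c7_15 : {f // @Cfsg.Agent.H69.F43.pN = f} := ⟨_, by first | (delta Cfsg.Agent.H69.F43.pN; rewrite [Cfsg.Agent.LsF.fba70c7_13.2, Cfsg.Agent.LsF.fba70c7_5.2, Cfsg.Agent.LsF.fba70c7_14.2, Cfsg.Agent.LsF.nmod_pat, Cfsg.Agent.LsF.not_eq]; exact rfl) | exact rfl⟩
theorem cn_0 : cnt (pN 0) 1120 = 729 := by (refine of_decide_eq_true ?_; (try (rewrite [Cfsg.Agent.LsF.fba70c7_12.2, Cfsg.Agent.LsF.fba70c7_15.2, Cfsg.Agent.LsF.instDecEq_eq, Cfsg.Agent.LsF.decide_eq])); decide +kernel)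

theorem cn_1 : cnt (pN 9) 1120 = 648 := by (refine of_decide_eq_true ?_; (try (rewrite [Cfsg.Agent.LsF.fba70c7_12.2, Cfsg.Agent.LsF.fba70c7_15.2, Cfsg.Agent.LsF.instDecEq_eq, Cfsg.Agent.LsF.decide_eq])); decide +kernel)

theorem cn_2 : cnt (pN 18) 1120 = 810 := by (refine of_decide_eq_true ?_; (try (rewrite [Cfsg.Agent.LsF.fba70c7_12.2, Cfsg.Agent.LsF.fba70c7_15.2, Cfsg.Agent.LsF.instDecEq_eq, Cfsg.Agent.LsF.decide_eq])); decide +kernel)

theorem cn_3 : cnt (pN 4) 1120 = 729 := by (refine of_decide_eq_true ?_; (try (rewrite [Cfsg.Agent.LsF.fba70c7_12.2, Cfsg.Agent.LsF.fba70c7_15.2, Cfsg.Agent.LsF.instDecEq_eq, Cfsg.Agent.LsF.decide_eq])); decide +kernel)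

theorem cn_4 : cnt (pN 13) 1120 = 756 := by (refine of_decide_eq_true ?_; (try (rewrite [Cfsg.Agent.LsF.fba70c7_12.2, Cfsg.Agent.LsF.fba70c7_15.2, Cfsg.Agent.LsF.instDecEq_eq, Cfsg.Agent.LsF.decide_eq])); decide +kernel)

theorem cn_5 : cnt (pN 14) 1120 = 756 := by (refine of_decide_eq_true ?_; (try (rewrite [Cfsg.Agent.LsF.fba70c7_12.2, Cfsg.Agent.LsF.fba70c7_15.2, Cfsg.Agent.LsF.instDecEq_eq, Cfsg.Agent.LsF.decide_eq])); decide +kernel)

theorem cn_le {t : ℕ} (ht : t ≤ 5) : 648 ≤ cnt (pN (rp t)) 1120 ∧ cnt (pN (rp t)) 1120 ≤ 810 := by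
  interval_cases t
  · change 648 ≤ cnt (pN 0) 1120 ∧ cnt (pN 0) 1120 ≤ 810
    rw [cn_0]
    norm_num
  · change 648 ≤ cnt (pN 9) 1120 ∧ cnt (pN 9) 1120 ≤ 810
    rw [cn_1]
    norm_num
  · change 648 ≤ cnt (pN 18) 1120 ∧ cnt (pN 18) 1120 ≤ 810
    rw [cn_2]
    norm_num
  · change 648 ≤ cnt (pN 4) 1120 ∧ cnt (pN 4) 1120 ≤ 810
    rw [cn_3]
    norm_num
  · change 648 ≤ cnt (pN 13) 1120 ∧ cnt (pN 13) 1120 ≤ 810
    rw [cn_4]
    norm_num
  · change 648 ≤ cnt (pN 14) 1120 ∧ cnt (pN 14) 1120 ≤ 810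
    rw [cn_5]
    norm_num

theorem f3_cases : ∀ a : F3, (a ≠ 0 ↔ a = 1 ∨ -a = 1) ∧ ¬(a = 1 ∧ -a = 1) := by decide

theorem card_one (r : ℕ) : (O1.filter fun w => bf (vec (nc r)) w = 1).card = cnt (pN r) 1120 := by
  rw [card_filter_O1, cnt_eq, ← Finset.card_union_of_disjoint]
  · refine congrArg Finset.card (Finset.ext fun i => ?_)
    simp only [Finset.mem_union, Finset.mem_filter, Finset.mem_range, pN_iff, bf_neg_right, (f3_cases _).1]
    tauto
  · rw [Finset.disjoint_left]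
    intro i hi hi'
    simp only [Finset.mem_filter, Finset.mem_range, bf_neg_right] at hi hi'
    exact (f3_cases _).2 ⟨hi.2, hi'.2⟩

/-- `c(μ)` is an invariant. -/
theorem card_one_congr {μ ν : V14} (h : Eqv μ ν) :
    (O1.filter fun w => bf μ w = 1).card = (O1.filter fun w => bf ν w = 1).card := by
  obtain ⟨A, rfl⟩ := h
  refine Finset.card_bij (fun w _ => act A w) ?_ ?_ ?_
  · intro w hw
    rw [Finset.mem_filter] at hw ⊢
    exact ⟨(act_mem_O1 A).2 hw.1, by rw [bf_act]; exact hw.2⟩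
  · intro w _ w' _ h
    have h1 := congrArg (act A⁻¹) h
    have h2 : ∀ x : V14, act A⁻¹ (act A x) = x := fun x => LinearMap.congr_fun (act_inv_mul A) x
    rwa [h2, h2] at h1
  · intro w hw
    rw [Finset.mem_filter] at hw
    have h2 : act A (act A⁻¹ w) = w := LinearMap.congr_fun (act_mul_inv A) w
    refine ⟨act A⁻¹ w, ?_, h2⟩
    rw [Finset.mem_filter]
    refine ⟨(act_mem_O1 _).2 hw.1, ?_⟩
    rw [← bf_act A, h2]
    exact hw.2

theorem exists_rep' {μ : V14} (h : μ ≠ 0) : ∃ t ≤ 5, Eqv μ (vec (nc (rp t))) := by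
  obtain ⟨n, hn, h1⟩ := exists_rep h
  exact ⟨typ n, typ_le hn, h1.trans (node_eqv n hn)⟩

/-- **(T1)** -/
theorem T1 {μ : V14} (h : μ ≠ 0) : 648 ≤ (O1.filter fun w => bf μ w = 1).card ∧
    (O1.filter fun w => bf μ w = 1).card ≤ 810 := by
  obtain ⟨t, ht, h1⟩ := exists_rep' h
  rw [card_one_congr h1, card_one]
  exact cn_le ht

end Cfsg.Agent.H69.F43
end

-- part: H210/F43/TabAll
section
/-!
# Fourier transforms of invariant weights on `V₁₄` (S2464, F₄(3); helper210)

For an `Sp₆(3)`-invariant `D ≥ 0` on `V₁₄` and `v ≠ 0`: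

* `tab_all` : `|FT D v| ≤ D 0 + 37/280 * AA D`;
* `tab_root` : `D 0 - 19/224 * AA D ≤ FT D v ≤ D 0 + 37/280 * AA D` if `v` is a long root vector.
-/

set_option autoImplicit false

namespace Cfsg.Agent.H210.F43

open Cfsg.Agent.H700.F43 Cfsg.Agent.H675.F43 Cfsg.Agent.H69.F43 Cfsg.Agent.H92.RB Finset

theorem BB_eq (u v : V14) : BB u v = -bf u v := by
  simp only [BB, bf]
  ring

theorem c3_neg (t : F3) : c3 (-t) = c3 t := by
  simp only [c3, neg_eq_zero]

theorem c3_BB (u v : V14) : c3 (BB u v) = c3 (bf u v) := by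
  rw [BB_eq, c3_neg]

theorem c3_of {t : F3} (h : t = 0) : c3 t = 1 := if_pos h

theorem c3_ne {t : F3} (h : t ≠ 0) : c3 t = -(1 / 2) := if_neg h

theorem c3_prod (a b : F3) : c3 a * c3 b = (c3 (a + b) + c3 (a - b)) / 2 := by
  have h : ∀ a b : F3, (a = 0 ∧ b = 0 ∧ a + b = 0 ∧ a - b = 0) ∨ (a = 0 ∧ b ≠ 0 ∧ a + b ≠ 0 ∧ a - b ≠ 0) ∨
      (a ≠ 0 ∧ b = 0 ∧ a + b ≠ 0 ∧ a - b ≠ 0) ∨ (a ≠ 0 ∧ b ≠ 0 ∧ a + b = 0 ∧ a - b ≠ 0) ∨
      (a ≠ 0 ∧ b ≠ 0 ∧ a + b ≠ 0 ∧ a - b = 0) := by decide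
  rcases h a b with ⟨h1, h2, h3, h4⟩ | ⟨h1, h2, h3, h4⟩ | ⟨h1, h2, h3, h4⟩ | ⟨h1, h2, h3, h4⟩ | ⟨h1, h2, h3, h4⟩
  · rw [c3_of h1, c3_of h2, c3_of h3, c3_of h4]
    norm_num
  · rw [c3_of h1, c3_ne h2, c3_ne h3, c3_ne h4]
    norm_num
  · rw [c3_ne h1, c3_of h2, c3_ne h3, c3_ne h4]
    norm_num
  · rw [c3_ne h1, c3_ne h2, c3_of h3, c3_ne h4]
    norm_num
  · rw [c3_ne h1, c3_ne h2, c3_ne h3, c3_of h4]
    norm_num

theorem c3_three (s t : F3) (ht : t ≠ 0) : c3 s + c3 (s + t) + c3 (s + t + t) = 0 := by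
  have h : ∀ s t : F3, t ≠ 0 → (s = 0 ∧ s + t ≠ 0 ∧ s + t + t ≠ 0) ∨ (s ≠ 0 ∧ s + t = 0 ∧ s + t + t ≠ 0) ∨
      (s ≠ 0 ∧ s + t ≠ 0 ∧ s + t + t = 0) := by decide
  rcases h s t ht with ⟨h1, h2, h3⟩ | ⟨h1, h2, h3⟩ | ⟨h1, h2, h3⟩
  · rw [c3_of h1, c3_ne h2, c3_ne h3]
    norm_num
  · rw [c3_ne h1, c3_of h2, c3_ne h3]
    norm_num
  · rw [c3_ne h1, c3_ne h2, c3_of h3]
    norm_num

theorem card_V14 : Fintype.card V14 = 4782969 := by
  rw [Fintype.card_fun, ZMod.card, Fintype.card_fin]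
  norm_num

/-- orthogonality -/
theorem sum_c3 (w : V14) : ∑ v : V14, c3 (bf w v) = if w = 0 then 4782969 else 0 := by
  split_ifs with h
  · subst h
    simp only [bf_zero_left, c3, if_true, Finset.sum_const, Finset.card_univ, card_V14]
    norm_num
  · obtain ⟨u, hu⟩ : ∃ u, bf w u ≠ 0 := by
      by_contra hne
      push Not at hne
      exact h (bf_nondeg hne)
    have h1 : ∑ v : V14, c3 (bf w (v + u)) = ∑ v : V14, c3 (bf w v) :=
      Fintype.sum_equiv (Equiv.addRight u) _ _ fun _ => rfl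
    have h2 : ∑ v : V14, c3 (bf w (v + u + u)) = ∑ v : V14, c3 (bf w (v + u)) :=
      Fintype.sum_equiv (Equiv.addRight u) _ _ fun _ => rfl
    have h3 : ∑ v : V14, (c3 (bf w v) + c3 (bf w (v + u)) + c3 (bf w (v + u + u))) = 0 := by
      refine Finset.sum_eq_zero fun v _ => ?_
      rw [bf_add_right w (v + u) u, bf_add_right w v u]
      exact c3_three _ _ hu
    rw [Finset.sum_add_distrib, Finset.sum_add_distrib, h2, h1] at h3
    linarith

/-- **Parseval.** -/
theorem parseval (a : V14 → ℝ) : ∑ v : V14, (∑ ν : V14, a ν * c3 (bf ν v)) ^ 2 ≤ 4782969 * ∑ ν : V14, a ν ^ 2 := by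
  have h1 : ∀ ν ν' : V14, ∑ v : V14, c3 (bf ν v) * c3 (bf ν' v) =
      ((if ν' = -ν then 4782969 else 0) + (if ν' = ν then 4782969 else 0)) / 2 := by
    intro ν ν'
    have h2 : ∀ v : V14, c3 (bf ν v) * c3 (bf ν' v) = (c3 (bf (ν + ν') v) + c3 (bf (ν - ν') v)) / 2 := by
      intro v
      rw [c3_prod, bf_add_left, sub_eq_add_neg ν ν', bf_add_left, bf_neg_left, ← sub_eq_add_neg]
    rw [Finset.sum_congr rfl fun v _ => h2 v, ← Finset.sum_div, Finset.sum_add_distrib, sum_c3, sum_c3]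
    have e1 : (ν + ν' = 0) ↔ (ν' = -ν) := by
      rw [add_comm, add_eq_zero_iff_eq_neg]
    have e2 : (ν - ν' = 0) ↔ (ν' = ν) := by
      rw [sub_eq_zero]
      exact eq_comm
    simp only [e1, e2]
  have h2 : ∑ v : V14, (∑ ν : V14, a ν * c3 (bf ν v)) ^ 2 =
      ∑ ν : V14, ∑ ν' : V14, a ν * a ν' * ∑ v : V14, c3 (bf ν v) * c3 (bf ν' v) := by
    calc ∑ v : V14, (∑ ν : V14, a ν * c3 (bf ν v)) ^ 2
        = ∑ v : V14, ∑ ν : V14, ∑ ν' : V14, a ν * a ν' * (c3 (bf ν v) * c3 (bf ν' v)) := by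
          refine Finset.sum_congr rfl fun v _ => ?_
          rw [pow_two, Finset.sum_mul_sum]
          refine Finset.sum_congr rfl fun ν _ => Finset.sum_congr rfl fun ν' _ => ?_
          ring
      _ = ∑ ν : V14, ∑ v : V14, ∑ ν' : V14, a ν * a ν' * (c3 (bf ν v) * c3 (bf ν' v)) := Finset.sum_comm
      _ = ∑ ν : V14, ∑ ν' : V14, ∑ v : V14, a ν * a ν' * (c3 (bf ν v) * c3 (bf ν' v)) :=
          Finset.sum_congr rfl fun ν _ => Finset.sum_comm
      _ = ∑ ν : V14, ∑ ν' : V14, a ν * a ν' * ∑ v : V14, c3 (bf ν v) * c3 (bf ν' v) := by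
          refine Finset.sum_congr rfl fun ν _ => Finset.sum_congr rfl fun ν' _ => ?_
          rw [Finset.mul_sum]
  rw [h2]
  have h3 : ∑ ν : V14, ∑ ν' : V14, a ν * a ν' * ∑ v : V14, c3 (bf ν v) * c3 (bf ν' v) =
      4782969 / 2 * (∑ ν : V14, a ν * a (-ν) + ∑ ν : V14, a ν ^ 2) := by
    rw [← Finset.sum_add_distrib, Finset.mul_sum]
    refine Finset.sum_congr rfl fun ν _ => ?_
    have h4 : ∀ ν' : V14, a ν * a ν' * ∑ v : V14, c3 (bf ν v) * c3 (bf ν' v) =
        (if ν' = -ν then 4782969 / 2 * (a ν * a ν') else 0) + (if ν' = ν then 4782969 / 2 * (a ν * a ν') else 0) := by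
      intro ν'
      rw [h1]
      split_ifs <;> ring
    rw [Finset.sum_congr rfl fun ν' _ => h4 ν', Finset.sum_add_distrib, Finset.sum_ite_eq', Finset.sum_ite_eq',
      if_pos (Finset.mem_univ _), if_pos (Finset.mem_univ _)]
    ring
  rw [h3]
  have h5 : ∑ ν : V14, a ν * a (-ν) ≤ ∑ ν : V14, a ν ^ 2 := by
    have h6 : ∑ ν : V14, a (-ν) ^ 2 = ∑ ν : V14, a ν ^ 2 :=
      Fintype.sum_equiv (Equiv.neg V14) _ _ fun _ => rfl
    have h7 : ∑ ν : V14, a ν * a (-ν) ≤ ∑ ν : V14, (a ν ^ 2 + a (-ν) ^ 2) / 2 := by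
      refine Finset.sum_le_sum fun ν _ => ?_
      nlinarith [sq_nonneg (a ν - a (-ν))]
    rw [← Finset.sum_div, Finset.sum_add_distrib, h6] at h7
    linarith
  nlinarith

/-! ### the group -/

/-- the action as an instance -/
noncomputable abbrev spAct : MulAction Sp V14 where
  smul A v := act A v
  one_smul v := by
    change act 1 v = v
    rw [map_one]
    rfl
  mul_smul A B v := by
    change act (A * B) v = act A (act B v)
    rw [map_mul]
    rfl

/-- `Sp₆(3)` is finite -/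
noncomputable abbrev spFin : Fintype Sp := Fintype.ofFinite _

attribute [local instance] spAct spFin

theorem smul_def' (A : Sp) (v : V14) : A • v = act A v := rfl

/-- the kernel -/
noncomputable def ka (u v : V14) : ℝ := c3 (bf u v)

theorem ka_inv (A : Sp) (u v : V14) : ka (A • u) (A • v) = ka u v := by
  unfold ka
  rw [smul_def', smul_def', bf_act]

theorem ka_symm (u v : V14) : ka u v = ka v u := by
  unfold ka
  rw [bf_swap, c3_neg]

theorem count {μ : V14} (h : μ ≠ 0) : -190 ≤ ∑ w ∈ O1, ka w μ ∧ ∑ w ∈ O1, ka w μ ≤ 296 := by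
  classical
  obtain ⟨h1, h2⟩ := T1 h
  have hneg : (O1.filter fun w => bf μ w = -1).card = (O1.filter fun w => bf μ w = 1).card := by
    refine Finset.card_bij (fun w _ => -w) ?_ ?_ ?_
    · intro w hw
      rw [Finset.mem_filter] at hw ⊢
      exact ⟨neg_mem_O1.2 hw.1, by rw [bf_neg_right, hw.2, neg_neg]⟩
    · intro w _ w' _ h
      exact neg_injective h
    · intro w hw
      rw [Finset.mem_filter] at hw
      exact ⟨-w, Finset.mem_filter.2 ⟨neg_mem_O1.2 hw.1, by rw [bf_neg_right, hw.2]⟩, neg_neg w⟩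
  have hval : ∀ w : V14, ka w μ = 1 - (3 / 2) * (if bf μ w = 1 then (1 : ℝ) else 0) -
      (3 / 2) * (if bf μ w = -1 then (1 : ℝ) else 0) := by
    intro w
    have h3 : ∀ t : F3, (t = 0 ∧ t ≠ 1 ∧ t ≠ -1) ∨ (t ≠ 0 ∧ t = 1 ∧ t ≠ -1) ∨ (t ≠ 0 ∧ t ≠ 1 ∧ t = -1) := by decide
    unfold ka
    rw [bf_swap, c3_neg]
    rcases h3 (bf μ w) with ⟨e1, e2, e3⟩ | ⟨e1, e2, e3⟩ | ⟨e1, e2, e3⟩
    · rw [if_neg e2, if_neg e3, c3, if_pos e1]
      norm_num
    · rw [if_pos e2, if_neg e3, c3, if_neg e1]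
      norm_num
    · rw [if_neg e2, if_pos e3, c3, if_neg e1]
      norm_num
  have hsum : ∑ w ∈ O1, ka w μ = 2240 - 3 * ((O1.filter fun w => bf μ w = 1).card : ℝ) := by
    rw [Finset.sum_congr rfl fun w _ => hval w, Finset.sum_sub_distrib, Finset.sum_sub_distrib, ← Finset.mul_sum,
      ← Finset.mul_sum, Finset.sum_boole, Finset.sum_boole, hneg, Finset.sum_const, card_O1]
    norm_num
    ring
  have h1' : (648 : ℝ) ≤ ((O1.filter fun w => bf μ w = 1).card : ℝ) := by exact_mod_cast h1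
  have h2' : ((O1.filter fun w => bf μ w = 1).card : ℝ) ≤ 810 := by exact_mod_cast h2
  rw [hsum]
  constructor <;> linarith

theorem K_root {μ : V14} (h : μ ≠ 0) {v : V14} (hv : Eqv e0 v) :
    -(19 / 224) ≤ Avg.K Sp ka v μ ∧ Avg.K Sp ka v μ ≤ 37 / 280 := by
  have h1 := Avg.K_orb Sp ka (μ := v) O1 (fun ν => by
    rw [mem_O1']
    constructor
    · intro h
      obtain ⟨A, hA⟩ := hv.symm.trans h
      exact ⟨A, hA.symm⟩
    · rintro ⟨A, hA⟩
      exact hv.trans ⟨A, hA.symm⟩) μ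
  obtain ⟨h2, h3⟩ := count h
  rw [← h1, card_O1] at h2 h3
  push_cast at h2 h3
  constructor <;> linarith

theorem orb_card {μ : V14} (h : μ ≠ 0) (h' : ¬ Eqv e0 μ) : 18954 ≤ Nat.card (MulAction.orbit Sp μ) := by
  have h1 := orb_ge h h'
  refine h1.trans (le_of_eq (Nat.card_congr (Equiv.subtypeEquivRight fun ν => ?_)))
  constructor
  · rintro ⟨A, rfl⟩
    exact ⟨A, rfl⟩
  · rintro ⟨A, rfl⟩
    exact ⟨A, rfl⟩

/-- **All averages are small.** -/
theorem K_all {μ v : V14} (h : μ ≠ 0) (hv : v ≠ 0) : |Avg.K Sp ka μ v| ≤ 37 / 280 := by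
  by_cases h1 : Eqv e0 μ
  · obtain ⟨h2, h3⟩ := K_root hv h1
    rw [abs_le]
    constructor <;> linarith
  · by_cases h1' : Eqv e0 v
    · obtain ⟨h2, h3⟩ := K_root h h1'
      rw [Avg.K_symm Sp ka_inv ka_symm, abs_le]
      constructor <;> linarith
    · have h2 := Avg.sq_le Sp ka_inv (C := 4782969) (by norm_num) (fun a _ => parseval a) μ v
      have h3 : (18954 : ℝ) ≤ Nat.card (MulAction.orbit Sp μ) := by exact_mod_cast orb_card h h1
      have h4 : (18954 : ℝ) ≤ Nat.card (MulAction.orbit Sp v) := by exact_mod_cast orb_card hv h1'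
      have h5 : (18954 : ℝ) * 18954 ≤ (Nat.card (MulAction.orbit Sp μ) : ℝ) * Nat.card (MulAction.orbit Sp v) :=
        mul_le_mul h3 h4 (by norm_num) (by linarith)
      have h6 := (mul_le_mul_of_nonneg_left h5 (sq_nonneg (Avg.K Sp ka μ v))).trans h2
      refine abs_le_of_sq_le_sq ?_ (by norm_num)
      nlinarith

/-! ### the transform -/

theorem inv_smul' {D : V14 → ℝ} (hi : Inv D) (A : Sp) (μ : V14) : D (A • μ) = D μ := hi A (act A) (rel_act A) μ

theorem FT_split (D : V14 → ℝ) (v : V14) : FT D v = D 0 + ∑ μ ∈ univ.erase (0 : V14), D μ * ka μ v := by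
  unfold FT
  rw [← Finset.add_sum_erase _ _ (Finset.mem_univ (0 : V14))]
  congr 1
  · rw [c3_BB, bf_zero_left, c3, if_pos rfl, mul_one]
  · refine Finset.sum_congr rfl fun μ _ => ?_
    rw [c3_BB]
    rfl

theorem erase_inv (A : Sp) (μ : V14) (h : μ ∈ (univ.erase (0 : V14))) : A • μ ∈ (univ.erase (0 : V14)) := by
  rw [Finset.mem_erase] at h ⊢
  refine ⟨fun h0 => h.1 ?_, Finset.mem_univ _⟩
  have h1 := congrArg (act A⁻¹) h0
  have h2 : act A⁻¹ (act A μ) = μ := LinearMap.congr_fun (act_inv_mul A) μ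
  rw [map_zero] at h1
  exact h2.symm.trans h1

/-- **K2 and (3)** -/
theorem tab_all (D : V14 → ℝ) (h0 : ∀ μ, 0 ≤ D μ) (hi : Inv D) {v : V14} (hv : v ≠ 0) :
    |FT D v| ≤ D 0 + 37 / 280 * AA D := by
  have h1 := Avg.abs_sum_le Sp (κ := ka) h0 (inv_smul' hi) erase_inv (v := v) (ρ := 37 / 280) fun μ hμ =>
    K_all (Finset.mem_erase.1 hμ).1 hv
  rw [FT_split]
  refine (abs_add_le _ _).trans ?_
  rw [abs_of_nonneg (h0 0)]
  exact add_le_add_right h1 _

/-- **(2)** for every long root vector -/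
theorem tab_root' (D : V14 → ℝ) (h0 : ∀ μ, 0 ≤ D μ) (hi : Inv D) {v : V14} (hv : Eqv e0 v) :
    D 0 - 19 / 224 * AA D ≤ FT D v ∧ FT D v ≤ D 0 + 37 / 280 * AA D := by
  have h1 : ∑ μ ∈ univ.erase (0 : V14), D μ * ka μ v = ∑ μ ∈ univ.erase (0 : V14), D μ * Avg.K Sp ka μ v :=
    Avg.sum_eq Sp (inv_smul' hi) erase_inv v
  have hK : ∀ μ ∈ univ.erase (0 : V14), -(19 / 224) ≤ Avg.K Sp ka μ v ∧ Avg.K Sp ka μ v ≤ 37 / 280 := by
    intro μ hμ
    rw [Avg.K_symm Sp ka_inv ka_symm]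
    exact K_root (Finset.mem_erase.1 hμ).1 hv
  rw [FT_split, h1]
  constructor
  · have h2 : -(19 / 224) * AA D ≤ ∑ μ ∈ univ.erase (0 : V14), D μ * Avg.K Sp ka μ v := by
      unfold AA
      rw [Finset.mul_sum]
      refine Finset.sum_le_sum fun μ hμ => ?_
      rw [mul_comm]
      exact mul_le_mul_of_nonneg_left (hK μ hμ).1 (h0 μ)
    linarith
  · have h2 : ∑ μ ∈ univ.erase (0 : V14), D μ * Avg.K Sp ka μ v ≤ 37 / 280 * AA D := by
      unfold AA
      rw [Finset.mul_sum]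
      refine Finset.sum_le_sum fun μ hμ => ?_
      rw [mul_comm (37 / 280 : ℝ)]
      exact mul_le_mul_of_nonneg_left (hK μ hμ).2 (h0 μ)
    linarith

/-- **(2)** -/
theorem tab_root (D : V14 → ℝ) (h0 : ∀ μ, 0 ≤ D μ) (hi : Inv D) :
    D 0 - 19 / 224 * AA D ≤ FT D (Pi.single 0 1) ∧ FT D (Pi.single 0 1) ≤ D 0 + 37 / 280 * AA D :=
  tab_root' D h0 hi (Eqv.refl e0)

end Cfsg.Agent.H210.F43
end

private theorem dce_470d3f02910d : _root_.True := by
  try have : _root_.True := by simp only [_root_.Cfsg.Agent.H69.F43.dl.eq_1]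
  try have : _root_.True := by simp only [_root_.Cfsg.Agent.H69.F43.gn.eq_1]
  try have : _root_.True := by simp only [_root_.Cfsg.Agent.H69.F43.bfc.eq_1]
  try have : _root_.True := by simp only [_root_.Cfsg.Agent.H69.F43.fst3.eq_1]
  try have : _root_.True := by simp only [_root_.Cfsg.Agent.H92.RB.c3.eq_1]
  try have : _root_.True := by simp only [_root_.Cfsg.Agent.H69.F43.rp.eq_1]
  try have : _root_.True := by simp only [_root_.Cfsg.Agent.H210.F43.Avg.un.eq_1]
  try have : _root_.True := by simp only [_root_.Cfsg.Agent.H69.F43.chkn.eq_1]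
  try have : _root_.True := by simp only [_root_.Cfsg.Agent.H69.F43.chkc.eq_1]
  try have : _root_.True := by simp only [_root_.Cfsg.Agent.H92.RB.BB.eq_1]
  try have : _root_.True := by simp only [_root_.Cfsg.Agent.H69.F43.e0.eq_1]
  try have : _root_.True := by simp only [_root_.Cfsg.Agent.H69.F43.cnt.eq_def]
  try have : _root_.True := by simp only [_root_.Cfsg.Agent.H69.F43.pN.eq_1]
  try have : _root_.True := by simp only [_root_.Cfsg.Agent.H69.F43.nc.eq_1]
  try have : _root_.True := by simp only [_root_.Cfsg.Agent.H69.F43.fst3.eq_def]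
  try have : _root_.True := by simp only [_root_.Cfsg.Agent.H69.F43.fst3.eq_2]
  try have : _root_.True := by simp only [_root_.Cfsg.Agent.H69.F43.O1.eq_1]
  try have : _root_.True := by simp only [_root_.Cfsg.Agent.H69.F43.bf.eq_1]
  try have : _root_.True := by simp only [_root_.Cfsg.Agent.H69.F43.cnt.eq_2]
  try have : _root_.True := by simp only [_root_.Cfsg.Agent.H69.F43.cnt.eq_1]
  exact _root_.True.intro
end
end

-- part: H347/TC/GFive
section
set_option linter.all false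
open scoped Cfsg.Agent.FastGrp

-- part: H97/TC/G2Q
section
/-!
# Character values of `G₂(q)` on the radical `q^(1+4)` of the long root parabolic subgroup (helper97, S2464)

`bound`: `χ` a character of `chevG2.group F`, `3 ≠ 0` in `F`, `q = |F|`, `χ (X 11 1) ≠ χ 1`:
`‖χ v‖ ≤ χ 1 - q ^ 2 (q - 1)` for all `v ∈ Q - Z`, `Q = ⟨X 6, X 8, X 9, X 10, X 11⟩`, `Z = X 11`.
-/

set_option autoImplicit false

open Cfsg Subgroup

namespace Cfsg.Agent.H97.TC

universe u

/-- Heisenberg coordinates with four noncentral root groups. -/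
structure H5 (F : Type u) [Field F] {G : Type u} [Group G] (A B C D E : F → G) (k l : F) : Prop where
  Aadd : ∀ t u, A (t + u) = A t * A u
  Badd : ∀ t u, B (t + u) = B t * B u
  Cadd : ∀ t u, C (t + u) = C t * C u
  Dadd : ∀ t u, D (t + u) = D t * D u
  Eadd : ∀ t u, E (t + u) = E t * E u
  AB : ∀ t u, B t * A u = A u * B t
  AC : ∀ t u, C t * A u = A u * C t
  AD : ∀ t u, D t * A u = A u * D t * E (k * t * u)
  BC : ∀ t u, C t * B u = B u * C t * E (l * t * u)
  BD : ∀ t u, D t * B u = B u * D t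
  CD : ∀ t u, D t * C u = C u * D t
  EA : ∀ t u, E t * A u = A u * E t
  EB : ∀ t u, E t * B u = B u * E t
  EC : ∀ t u, E t * C u = C u * E t
  ED : ∀ t u, E t * D u = D u * E t
  k0 : k ≠ 0
  l0 : l ≠ 0
  inj : ∀ t, E t = 1 → t = 0

namespace H5

variable {F : Type u} [Field F] {G : Type u} [Group G] {A B C D E : F → G} {k l : F}

theorem zero_of_add {f : F → G} (h : ∀ t u, f (t + u) = f t * f u) : f 0 = 1 := by
  have := h 0 0
  rw [add_zero] at this
  exact left_eq_mul.1 this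

/-- the general element -/
def P (A B C D E : F → G) (a b c d e : F) : G := A a * B b * C c * D d * E e

variable (h : H5 F A B C D E k l)
include h

theorem mul (a b c d e a' b' c' d' e' : F) : P A B C D E a b c d e * P A B C D E a' b' c' d' e' =
    P A B C D E (a + a') (b + b') (c + c') (d + d') (e + e' + k * d * a' + l * c * b') := by
  have e1 : ∀ (t : F) (x y : G), (∀ s, E s * x = x * E s) → E t * (x * y) = x * (E t * y) := by
    intro t x y hx; rw [← mul_assoc, hx, mul_assoc]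
  simp only [P, mul_assoc]
  -- move everything into place
  calc A a * (B b * (C c * (D d * (E e * (A a' * (B b' * (C c' * (D d' * E e'))))))))
      = A a * (B b * (C c * (D d * (A a' * (B b' * (C c' * (D d' * (E e * E e')))))))) := by
        rw [e1 e (A a') _ (fun s => h.EA s a'), e1 e (B b') _ (fun s => h.EB s b'), e1 e (C c') _ (fun s => h.EC s c'),
          e1 e (D d') _ (fun s => h.ED s d')]
    _ = A a * (B b * (C c * (A a' * (D d * (E (k * d * a') * (B b' * (C c' * (D d' * (E e * E e'))))))))) := by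
        rw [← mul_assoc (D d) (A a'), h.AD d a']; simp only [mul_assoc]
    _ = A a * (B b * (C c * (A a' * (D d * (B b' * (C c' * (D d' * (E (k * d * a') * (E e * E e'))))))))) := by
        rw [e1 _ (B b') _ (fun s => h.EB s b'), e1 _ (C c') _ (fun s => h.EC s c'), e1 _ (D d') _ (fun s => h.ED s d')]
    _ = A a * (B b * (A a' * (C c * (D d * (B b' * (C c' * (D d' * (E (k * d * a') * (E e * E e'))))))))) := by
        rw [← mul_assoc (C c) (A a'), h.AC c a']; simp only [mul_assoc]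
    _ = A a * (A a' * (B b * (C c * (D d * (B b' * (C c' * (D d' * (E (k * d * a') * (E e * E e'))))))))) := by
        rw [← mul_assoc (B b) (A a'), h.AB b a']; simp only [mul_assoc]
    _ = A a * (A a' * (B b * (C c * (B b' * (D d * (C c' * (D d' * (E (k * d * a') * (E e * E e'))))))))) := by
        rw [← mul_assoc (D d) (B b'), h.BD d b']; simp only [mul_assoc]
    _ = A a * (A a' * (B b * (B b' * (C c * (E (l * c * b') * (D d * (C c' * (D d' *
          (E (k * d * a') * (E e * E e')))))))))) := by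
        rw [← mul_assoc (C c) (B b'), h.BC c b']; simp only [mul_assoc]
    _ = A a * (A a' * (B b * (B b' * (C c * (D d * (C c' * (D d' * (E (l * c * b') *
          (E (k * d * a') * (E e * E e')))))))))) := by
        rw [e1 _ (D d) _ (fun s => h.ED s d), e1 _ (C c') _ (fun s => h.EC s c'), e1 _ (D d') _ (fun s => h.ED s d')]
    _ = A a * (A a' * (B b * (B b' * (C c * (C c' * (D d * (D d' * (E (l * c * b') *
          (E (k * d * a') * (E e * E e')))))))))) := by
        rw [← mul_assoc (D d) (C c'), h.CD d c']; simp only [mul_assoc]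
    _ = A (a + a') * (B (b + b') * (C (c + c') * (D (d + d') * E (e + e' + k * (d * a') + l * (c * b'))))) := by
        rw [h.Aadd, h.Badd, h.Cadd, h.Dadd,
          show e + e' + k * (d * a') + l * (c * b') = l * c * b' + (k * d * a' + (e + e')) by ring, h.Eadd, h.Eadd,
          h.Eadd]
        simp only [mul_assoc]

theorem one : P A B C D E 0 0 0 0 0 = 1 := by
  simp only [P, zero_of_add h.Aadd, zero_of_add h.Badd, zero_of_add h.Cadd, zero_of_add h.Dadd, zero_of_add h.Eadd,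
    mul_one]

theorem inv (a b c d e : F) : (P A B C D E a b c d e)⁻¹ =
    P A B C D E (-a) (-b) (-c) (-d) (-e + k * d * a + l * c * b) := by
  rw [inv_eq_iff_mul_eq_one, h.mul, ← h.one]
  congr 1 <;> ring

/-- the group -/
def Q : Subgroup G where
  carrier := {g | ∃ a b c d e : F, g = P A B C D E a b c d e}
  one_mem' := ⟨0, 0, 0, 0, 0, h.one.symm⟩
  mul_mem' := by
    rintro _ _ ⟨a, b, c, d, e, rfl⟩ ⟨a', b', c', d', e', rfl⟩
    exact ⟨_, _, _, _, _, h.mul _ _ _ _ _ _ _ _ _ _⟩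
  inv_mem' := by
    rintro _ ⟨a, b, c, d, e, rfl⟩
    exact ⟨_, _, _, _, _, h.inv _ _ _ _ _⟩

/-- its centre -/
def Z : Subgroup G where
  carrier := {g | ∃ e : F, g = E e}
  one_mem' := ⟨0, (zero_of_add h.Eadd).symm⟩
  mul_mem' := by
    rintro _ _ ⟨e, rfl⟩ ⟨e', rfl⟩
    exact ⟨_, (h.Eadd _ _).symm⟩
  inv_mem' := by
    rintro _ ⟨e, rfl⟩
    exact ⟨-e, by rw [inv_eq_iff_mul_eq_one, ← h.Eadd, add_neg_cancel, zero_of_add h.Eadd]⟩

theorem E_eq (e : F) : E e = P A B C D E 0 0 0 0 e := by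
  simp only [P, zero_of_add h.Aadd, zero_of_add h.Badd, zero_of_add h.Cadd, zero_of_add h.Dadd, one_mul]

theorem E_inj {e e' : F} (he : E e = E e') : e = e' := by
  have : E (e - e') = 1 := by
    have h1 : E (e - e') * E e' = E e' := by rw [← h.Eadd, sub_add_cancel, he]
    exact mul_eq_right.1 h1
  exact sub_eq_zero.1 (h.inj _ this)

theorem Z_le : h.Z ≤ h.Q := by
  rintro _ ⟨e, rfl⟩
  exact ⟨0, 0, 0, 0, e, h.E_eq e⟩

/-- conjugation -/
theorem conj (a b c d e a' b' c' d' e' : F) :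
    P A B C D E a' b' c' d' e' * P A B C D E a b c d e * (P A B C D E a' b' c' d' e')⁻¹ =
      E (k * (d' * a - d * a') + l * (c' * b - c * b')) * P A B C D E a b c d e := by
  rw [mul_inv_eq_iff_eq_mul, h.E_eq, mul_assoc, h.mul, h.mul a b c d e, h.mul]
  congr 1 <;> ring

theorem eq_E_mul (a b c d e : F) (s : F) : E s * P A B C D E a b c d e = P A B C D E a b c d (s + e) := by
  rw [h.E_eq, h.mul]
  congr 1 <;> ring

theorem inj5 {a b c d e a' b' c' d' e' : F} (he : P A B C D E a b c d e = P A B C D E a' b' c' d' e') :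
    a = a' ∧ b = b' ∧ c = c' ∧ d = d' ∧ e = e' := by
  have key : ∀ a1 b1 c1 d1 : F, k * (d1 * a - d * a1) + l * (c1 * b - c * b1) =
      k * (d1 * a' - d' * a1) + l * (c1 * b' - c' * b1) := by
    intro a1 b1 c1 d1
    have h1 := h.conj a b c d e a1 b1 c1 d1 0
    have h2 := h.conj a' b' c' d' e' a1 b1 c1 d1 0
    rw [he] at h1
    rw [h1] at h2
    exact h.E_inj (mul_right_cancel h2)
  have ha : a = a' := by
    have := key 0 0 0 1
    simp only [one_mul, mul_zero, sub_zero, zero_mul, add_zero] at this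
    exact mul_left_cancel₀ h.k0 this
  have hb : b = b' := by
    have := key 0 0 1 0
    simp only [one_mul, mul_zero, sub_zero, zero_mul, zero_add] at this
    exact mul_left_cancel₀ h.l0 this
  have hc : c = c' := by
    have := key 0 1 0 0
    simp only [mul_one, mul_zero, sub_zero, zero_mul, zero_add, zero_sub] at this
    exact neg_injective (mul_left_cancel₀ h.l0 this)
  have hd : d = d' := by
    have := key 1 0 0 0
    simp only [mul_one, mul_zero, sub_zero, zero_mul, add_zero, zero_sub] at this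
    exact neg_injective (mul_left_cancel₀ h.k0 this)
  subst ha hb hc hd
  refine ⟨rfl, rfl, rfl, rfl, ?_⟩
  exact h.E_inj (mul_left_cancel he)

theorem card_Z [Finite F] : Nat.card h.Z = Nat.card F := by
  refine (Nat.card_congr (Equiv.ofBijective (fun e : F => (⟨E e, e, rfl⟩ : h.Z)) ⟨?_, ?_⟩)).symm
  · intro e e' he
    exact h.E_inj (congrArg Subtype.val he)
  · rintro ⟨_, e, rfl⟩
    exact ⟨e, rfl⟩

theorem card_Q [Finite F] : Nat.card h.Q = Nat.card F ^ 5 := by
  have e1 : Nat.card (F × F × F × F × F) = Nat.card F ^ 5 := by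
    simp only [Nat.card_prod]; ring
  rw [← e1]
  refine (Nat.card_congr (Equiv.ofBijective (fun x : F × F × F × F × F =>
    (⟨P A B C D E x.1 x.2.1 x.2.2.1 x.2.2.2.1 x.2.2.2.2, _, _, _, _, _, rfl⟩ : h.Q)) ⟨?_, ?_⟩)).symm
  · rintro ⟨a, b, c, d, e⟩ ⟨a', b', c', d', e'⟩ he
    obtain ⟨h1, h2, h3, h4, h5⟩ := h.inj5 (congrArg Subtype.val he)
    simp only at h1 h2 h3 h4 h5
    rw [h1, h2, h3, h4, h5]
  · rintro ⟨_, a, b, c, d, e, rfl⟩
    exact ⟨(a, b, c, d, e), rfl⟩

theorem isConj {v : G} (hv : v ∈ h.Q) (hvZ : v ∉ h.Z) {z : G} (hz : z ∈ h.Z) : IsConj v (z * v) := by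
  obtain ⟨a, b, c, d, e, rfl⟩ := hv
  obtain ⟨s, rfl⟩ := hz
  have hk := h.k0
  have hl := h.l0
  have key : ∀ a' b' c' d' : F, k * (d' * a - d * a') + l * (c' * b - c * b') = s →
      IsConj (P A B C D E a b c d e) (E s * P A B C D E a b c d e) := by
    intro a' b' c' d' hs
    rw [isConj_iff]
    exact ⟨P A B C D E a' b' c' d' 0, by rw [h.conj, hs]⟩
  by_cases ha : a = 0
  · by_cases hb : b = 0
    · by_cases hc : c = 0
      · have hd : d ≠ 0 := by
          rintro rfl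
          subst ha hb hc
          exact hvZ ⟨e, (h.E_eq e).symm⟩
        exact key (-s / (k * d)) 0 0 0 (by field_simp; ring)
      · exact key 0 (-s / (l * c)) 0 0 (by field_simp; ring)
    · exact key 0 0 (s / (l * b)) 0 (by field_simp; ring)
  · exact key 0 0 0 (s / (k * a)) (by field_simp; ring)

theorem comm_ZQ {z y : G} (hz : z ∈ h.Z) (hy : y ∈ h.Q) : y * z = z * y := by
  obtain ⟨s, rfl⟩ := hz
  obtain ⟨a, b, c, d, e, rfl⟩ := hy
  rw [h.eq_E_mul, h.E_eq, h.mul]
  congr 1 <;> ring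

end H5

/-! ### `G₂(q)` -/

section G2

open Cfsg.Lie Cfsg.Agent.Omega.TwoF.GTwoLB

variable (F : Type u) [Field F]

theorem g2_h5 (h3 : (3 : F) ≠ 0) : H5 F (X (F := F) 6) (X (F := F) 8) (X (F := F) 9) (X (F := F) 10) (X (F := F) 11)
    (-1) (-3) where
  Aadd := X_add 6
  Badd := X_add 8
  Cadd := X_add 9
  Dadd := X_add 10
  Eadd := X_add 11
  AB t u := rel0 (r := 6) (s := 8) (by norm_num) (by norm_num) (by decide) (by decide) (by decide +kernel) u t
  AC t u := rel0 (r := 6) (s := 9) (by norm_num) (by norm_num) (by decide) (by decide) (by decide +kernel) u t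
  AD t u := by
    rw [rel1 (r := 6) (s := 10) (k := 11) (c := 1) (by norm_num) (by norm_num) (by decide) (by decide)
      (by decide +kernel) u t]
    congr 2; push_cast; ring
  BC t u := by
    rw [rel1 (r := 8) (s := 9) (k := 11) (c := 3) (by norm_num) (by norm_num) (by decide) (by decide)
      (by decide +kernel) u t]
    congr 2; push_cast; ring
  BD t u := rel0 (r := 8) (s := 10) (by norm_num) (by norm_num) (by decide) (by decide) (by decide +kernel) u t
  CD t u := rel0 (r := 9) (s := 10) (by norm_num) (by norm_num) (by decide) (by decide) (by decide +kernel) u t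
  EA t u := rel0 (r := 6) (s := 11) (by norm_num) (by norm_num) (by decide) (by decide) (by decide +kernel) u t
  EB t u := rel0 (r := 8) (s := 11) (by norm_num) (by norm_num) (by decide) (by decide) (by decide +kernel) u t
  EC t u := rel0 (r := 9) (s := 11) (by norm_num) (by norm_num) (by decide) (by decide) (by decide +kernel) u t
  ED t u := rel0 (r := 10) (s := 11) (by norm_num) (by norm_num) (by decide) (by decide) (by decide +kernel) u t
  k0 := neg_ne_zero.2 one_ne_zero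
  l0 := neg_ne_zero.2 h3
  inj t ht := (X_eq_one (by norm_num)).1 ht

variable {F}

theorem g2_long_conj {t : F} (ht : t ≠ 0) : IsConj (X (F := F) 11 1) (X 11 t) := by
  rw [isConj_iff]
  refine ⟨H 1 t, ?_⟩
  rw [H_conj (by norm_num) (by norm_num) ht, mul_one]
  congr 1
  rw [show chevG2.cartan 1 11 = 1 by decide +kernel, zpow_one]

end G2

end Cfsg.Agent.H97.TC
end

-- part: H97/TC/G2Deg
section
/-!
# Degrees of the characters of `G₂(q)`: at least `q ^ 2 (q - 1)` (helper97, S2464)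

`deg_ge` : `3 ≠ 0` in `F`, `chevG2.group F` simple, `χ ≠ 1` irreducible: `q ^ 2 (q - 1) ≤ χ 1`.
-/

set_option autoImplicit false

open Cfsg Subgroup

namespace Cfsg.Agent.H97.TC

open Cfsg.Agent.Characters

universe u

/-- The degree bound in a finite group. -/
theorem heis_group_deg {G : Type u} [Group G] [Finite G] {χ : G → ℂ} (hχ : IsCharacter G χ) {Q Z : Subgroup G}
    (hZQ : Z ≤ Q) (hZ : ∀ z ∈ Z, ∀ y ∈ Q, y * z = z * y) (h1 : ∀ v ∈ Q, v ∉ Z → ∀ z ∈ Z, IsConj v (z * v))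
    (h2 : ∀ z ∈ Z, z ≠ 1 → ∀ z' ∈ Z, z' ≠ 1 → IsConj z z') {z₀ : G} (hz₀ : z₀ ∈ Z) (h3 : χ z₀ ≠ χ 1) {s : ℕ}
    (hs : s ^ 2 * Nat.card Z ≤ Nat.card Q) {D : ℕ} (hD : χ 1 = D) : s * (Nat.card Z - 1) ≤ D := by
  classical
  have : Fintype Q := Fintype.ofFinite _
  have hcf := Core.isCharacter_isClassFunction hχ
  have hconj : ∀ {a b : G}, IsConj a b → χ a = χ b := by
    intro a b hab
    obtain ⟨w, rfl⟩ := isConj_iff.1 hab
    exact (hcf a w).symm
  have hχQ : IsCharacter Q (fun x : Q => χ x) := Core.isCharacter_comp Q.subtype hχ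
  have hcard : Nat.card (Z.subgroupOf Q) = Nat.card Z := Nat.card_congr (Subgroup.subgroupOfEquivOfLe hZQ).toEquiv
  have hz1 : z₀ ≠ 1 := fun h => h3 (by rw [h])
  obtain ⟨a, m, hm, hDm, -, -⟩ := heis (Q := Q) (χ := fun x : Q => χ x) hχQ (Z := Z.subgroupOf Q)
    (fun z hz => Subgroup.mem_center_iff.2 fun y => Subtype.ext (hZ z (Subgroup.mem_subgroupOf.1 hz) y y.2))
    (fun w hw z hz => (hconj (h1 w w.2 (fun h => hw (Subgroup.mem_subgroupOf.2 h)) z
      (Subgroup.mem_subgroupOf.1 hz))).symm)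
    (c := χ z₀)
    (fun z hz hz' => hconj (h2 z (Subgroup.mem_subgroupOf.1 hz) (fun h => hz' (Subtype.ext h)) z₀ hz₀ hz1))
    (fun h => h3 h.symm)
    (fun h => hz1 (by
      have : (⟨z₀, hZQ hz₀⟩ : Q) ∈ Z.subgroupOf Q := Subgroup.mem_subgroupOf.2 hz₀
      rw [h, Subgroup.mem_bot] at this
      exact congrArg Subtype.val this))
    (s := s) (by
      have h4 := (Z.subgroupOf Q).card_mul_index
      rw [hcard] at h4
      refine Nat.le_of_mul_le_mul_right ?_ (Nat.card_pos (α := Z))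
      rw [mul_comm (Subgroup.index _), h4]
      exact hs) hD
  rw [hcard] at hDm
  have h6 : 1 ≤ Nat.card Z := Nat.card_pos (α := Z)
  have h6' : (1 : ℝ) ≤ Nat.card Z := by exact_mod_cast h6
  have h7 : (s : ℝ) * ((Nat.card Z : ℝ) - 1) ≤ m * ((Nat.card Z : ℝ) - 1) :=
    mul_le_mul_of_nonneg_right hm (by linarith only [h6'])
  have h8 : (0 : ℝ) ≤ a := Nat.cast_nonneg a
  have h9 : ((s * (Nat.card Z - 1) : ℕ) : ℝ) ≤ (D : ℝ) := by
    rw [Nat.cast_mul, Nat.cast_sub h6, Nat.cast_one, hDm]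
    linarith only [h7]
  exact_mod_cast h9

section H5

variable {F : Type u} [Field F] {G : Type u} [Group G] {A B C D E : F → G} {k l : F}

theorem H5.deg (h : H5 F A B C D E k l) [Finite F] [Finite G] (hT : ∀ t : F, t ≠ 0 → IsConj (E 1) (E t))
    {χ : G → ℂ} (hχ : IsCharacter G χ) (h3 : χ (E 1) ≠ χ 1) {n : ℕ} (hn : χ 1 = n) :
    Nat.card F ^ 2 * (Nat.card F - 1) ≤ n := by
  have h1 := heis_group_deg hχ h.Z_le (fun z hz y hy => h.comm_ZQ hz hy) (fun v hv hvZ z hz => h.isConj hv hvZ hz)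
    (by
      rintro _ ⟨e, rfl⟩ he _ ⟨e', rfl⟩ he'
      have h4 : e ≠ 0 := by rintro rfl; exact he (H5.zero_of_add h.Eadd)
      have h5 : e' ≠ 0 := by rintro rfl; exact he' (H5.zero_of_add h.Eadd)
      exact (hT e h4).symm.trans (hT e' h5))
    (z₀ := E 1) ⟨1, rfl⟩ h3 (s := Nat.card F ^ 2) (by rw [h.card_Z, h.card_Q]; ring_nf; exact le_rfl) hn
  rw [h.card_Z] at h1
  exact h1

end H5

section G2

open Cfsg.Lie Cfsg.Agent.Omega.TwoF.GTwoLB

variable {F : Type u} [Field F]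

/-- **Degrees of `G₂(q)`.** -/
theorem deg_ge [Finite F] (h3 : (3 : F) ≠ 0) [IsSimpleGroup ↥(chevG2.group F)] (χ : IrrCharacter ↥(chevG2.group F))
    (hχ : (χ : ↥(chevG2.group F) → ℂ) ≠ 1) :
    Nat.card F ^ 2 * (Nat.card F - 1) ≤ charDegree (χ : ↥(chevG2.group F) → ℂ) := by
  have hx1 : X (F := F) 11 1 ≠ 1 := fun h => one_ne_zero ((X_eq_one (by norm_num)).1 h)
  obtain ⟨n, hn⟩ := Core.isCharacter_apply_one (Core.isIrr_isCharacter χ.2)
  rw [Blocks.Basic.charDegree_of_eq hn]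
  exact (g2_h5 F h3).deg (fun _ ht => g2_long_conj ht) (Core.isIrr_isCharacter χ.2)
    (fun h => hχ (SporadicA.M11CharSimple.eq_one_of_apply_eq χ.2 hx1 h)) hn

end G2

end Cfsg.Agent.H97.TC
end

-- part: H347/TC/Zint
section
/-!
# The values of the characters of `G₂(q)` at the long root elements (helper347, S2464)

`exists_mult`: `Q` a group with `Z ≤ Z(Q)`, every `v ∉ Z` conjugate to `z v`, `|Q : Z| = s ^ 2`, `χ` a character constant
`= c ≠ χ 1` on `Z - {1}`: `χ 1 - c = s |Z| N`, `N ≥ 1` an integer.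

`g2_mult`: `3 ≠ 0` in `F`, `χ ≠ 1` irreducible: `χ (X 11 1) = χ 1 - q ^ 3 N`, `N ≥ 1`, `q ^ 2 (q - 1) N ≤ χ 1`.
-/

set_option autoImplicit false

open Cfsg Subgroup

namespace Cfsg.Agent.H347.TC.Zint

open Cfsg.Agent.Characters Cfsg.Agent.H97.TC
open scoped ComplexConjugate

universe u

section abs

variable {Q : Type u} [Group Q] [Fintype Q]

theorem exists_mult {χ : Q → ℂ} (hχ : IsCharacter Q χ) {Z : Subgroup Q} (hZ : Z ≤ Subgroup.center Q)
    (h1 : ∀ v ∉ Z, ∀ z ∈ Z, IsConj v (z * v)) {c : ℂ} (h2 : ∀ z ∈ Z, z ≠ 1 → χ z = c) (h3 : χ 1 ≠ c)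
    (hZ1 : Z ≠ ⊥) {s : ℕ} (hs : Z.index = s ^ 2) : ∃ N : ℕ, 1 ≤ N ∧ χ 1 - c = s * Nat.card Z * N := by
  classical
  have : Fintype Z := Fintype.ofFinite _
  have hcf : ∀ {χ : Q → ℂ}, IsCharacter Q χ → ∀ {a b : Q}, IsConj a b → χ a = χ b := by
    intro χ hχ a b hab
    obtain ⟨w, rfl⟩ := isConj_iff.1 hab
    exact (Core.isCharacter_isClassFunction hχ a w).symm
  have hcQ : (Nat.card Q : ℂ) ≠ 0 := Core.card_ne_zero_complex
  have : Finite (IrrCharacter Q) := Core.finite_irr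
  have : Fintype (IrrCharacter Q) := Fintype.ofFinite _
  obtain ⟨θ, hn0, z₀, hz₀, hne⟩ : ∃ θ : IrrCharacter Q, classInner χ (θ : Q → ℂ) ≠ 0 ∧
      ∃ z₀ ∈ Z, (θ : Q → ℂ) z₀ ≠ (θ : Q → ℂ) 1 := by
    by_contra hcon
    push Not at hcon
    obtain ⟨z, hz, hz1⟩ : ∃ z : Q, z ∈ Z ∧ z ≠ 1 := by
      obtain ⟨z, hz⟩ := (Subgroup.ne_bot_iff_exists_ne_one).1 hZ1
      exact ⟨z, z.2, fun h' => hz (Subtype.ext h')⟩
    apply h3
    rw [← h2 z hz hz1]
    obtain ⟨n, hn⟩ := Core.exists_nat_comb hχ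
    rw [hn]
    simp only [Finset.sum_apply, Pi.smul_apply]
    refine Finset.sum_congr rfl fun ψ _ => ?_
    by_cases hψ : n ψ = 0
    · rw [hψ, zero_smul, zero_smul]
    · rw [hcon ψ (by rw [hn, Core.classInner_sum_nsmul_irr]; exact_mod_cast hψ) z hz]
  obtain ⟨n, hn⟩ := Core.classInner_isNat hχ (Core.isIrr_isCharacter θ.2)
  obtain ⟨d, hd0, hd⟩ := Core.isIrr_apply_one θ.2
  have hn1 : 1 ≤ n := by
    rw [Nat.one_le_iff_ne_zero]
    rintro rfl
    exact hn0 (by rw [hn, Nat.cast_zero])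
  -- `θ` vanishes outside `Z`
  have hθ0 : (θ : Q → ℂ) 1 ≠ 0 := Central.irr_one_ne_zero θ.2
  have hvan : ∀ v : Q, v ∉ Z → (θ : Q → ℂ) v = 0 := by
    intro v hv
    have e1 := irr_central_mul θ.2 (hZ hz₀) v
    rw [← hcf (Core.isIrr_isCharacter θ.2) (h1 v hv z₀ hz₀)] at e1
    have e2 : (θ : Q → ℂ) v * ((θ : Q → ℂ) 1 - (θ : Q → ℂ) z₀) = 0 := by linear_combination e1
    exact (mul_eq_zero.1 e2).resolve_right (sub_ne_zero.2 hne.symm)
  -- its degree
  have hds : d = s := by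
    have e1 := Core.classInner_irr_self θ.2
    rw [classInner, inv_mul_eq_iff_eq_mul₀ hcQ, mul_one] at e1
    have e2 : ∑ g : Q, (θ : Q → ℂ) g * conj ((θ : Q → ℂ) g) = (Nat.card Z : ℂ) * (d : ℂ) ^ 2 := by
      have e3 : ∀ g : Q, (θ : Q → ℂ) g * conj ((θ : Q → ℂ) g) = if g ∈ Z then (d : ℂ) ^ 2 else 0 := by
        intro g
        by_cases hg : g ∈ Z
        · rw [if_pos hg, Complex.mul_conj']
          have := norm_central θ.2 (hZ hg) hd
          rw [this]
          push_cast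
          rfl
        · rw [if_neg hg, hvan g hg, zero_mul]
      rw [Finset.sum_congr rfl fun g _ => e3 g, ← Finset.sum_filter, Finset.sum_const, nsmul_eq_mul]
      congr 2
      rw [Nat.card_eq_fintype_card, Fintype.card_subtype]
    rw [e2, ← Z.card_mul_index, hs] at e1
    have e4 : Nat.card Z * d ^ 2 = Nat.card Z * s ^ 2 := by exact_mod_cast e1
    have e5 := Nat.eq_of_mul_eq_mul_left Nat.card_pos e4
    exact Nat.pow_left_injective (n := 2) (by norm_num) e5
  have hsd : ∑ g : Q, χ g * conj ((θ : Q → ℂ) g) = (Nat.card Q : ℂ) * n := by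
    rw [← hn, classInner, ← mul_assoc, mul_inv_cancel₀ hcQ, one_mul]
  have hS2 : ∑ g : Q, (if g ∈ Z then c else 0) * conj ((θ : Q → ℂ) g) = 0 := by
    refine sum_irr_eq_zero θ.2 hZ hz₀ hne _ fun g => ?_
    by_cases hg : g ∈ Z
    · rw [if_pos hg, if_pos (Z.mul_mem hz₀ hg)]
    · rw [if_neg hg, if_neg (fun h => hg ((Z.mul_mem_cancel_left hz₀).1 h))]
  have hS3 : ∑ g : Q, (if g = 1 then χ 1 - c else 0) * conj ((θ : Q → ℂ) g) = (χ 1 - c) * d := by
    rw [Finset.sum_eq_single (1 : Q)]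
    · rw [if_pos rfl, hd, map_natCast]
    · intro b _ hb
      rw [if_neg hb, zero_mul]
    · intro h; exact absurd (Finset.mem_univ _) h
  have hS : (Nat.card Q : ℂ) * n = (χ 1 - c) * d := by
    have key : ∀ g : Q, χ g * conj ((θ : Q → ℂ) g) = (if g ∈ Z then c else 0) * conj ((θ : Q → ℂ) g) +
          (if g = 1 then χ 1 - c else 0) * conj ((θ : Q → ℂ) g) := by
      intro g
      by_cases hg : g ∈ Z
      · by_cases hg1 : g = 1
        · subst hg1
          rw [if_pos hg, if_pos rfl]; ring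
        · rw [if_pos hg, if_neg hg1, h2 g hg hg1]; ring
      · have hg1 : g ≠ 1 := fun h => hg (h ▸ Z.one_mem)
        rw [hvan g hg, map_zero]; ring
    rw [← hsd, ← hS3, Finset.sum_congr rfl fun g _ => key g, Finset.sum_add_distrib, hS2, zero_add]
  refine ⟨n, hn1, ?_⟩
  have hd0' : (d : ℂ) ≠ 0 := by exact_mod_cast hd0.ne'
  have hcard : (Nat.card Q : ℂ) = Nat.card Z * (s : ℂ) ^ 2 := by
    rw [← Z.card_mul_index, hs]; push_cast; ring
  apply mul_right_cancel₀ hd0'
  rw [← hS, hcard, hds]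
  ring

/-- In a finite group. -/
theorem exists_mult_group {G : Type u} [Group G] [Finite G] {χ : G → ℂ} (hχ : IsCharacter G χ) {Q Z : Subgroup G}
    (hZQ : Z ≤ Q) (hZ : ∀ z ∈ Z, ∀ y ∈ Q, y * z = z * y)
    (h1 : ∀ v ∈ Q, v ∉ Z → ∀ z ∈ Z, ∃ w ∈ Q, w * v * w⁻¹ = z * v)
    (h2 : ∀ z ∈ Z, z ≠ 1 → ∀ z' ∈ Z, z' ≠ 1 → IsConj z z') {z₀ : G} (hz₀ : z₀ ∈ Z) (h3 : χ z₀ ≠ χ 1) {s : ℕ}
    (hs : s ^ 2 * Nat.card Z = Nat.card Q) {D : ℕ} (hD : χ 1 = D) :
    ∃ N : ℕ, 1 ≤ N ∧ χ z₀ = ((D : ℤ) - s * Nat.card Z * N : ℤ) ∧ s * (Nat.card Z - 1) * N ≤ D := by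
  classical
  have : Fintype Q := Fintype.ofFinite _
  have hcf := Core.isCharacter_isClassFunction hχ
  have hconj : ∀ {a b : G}, IsConj a b → χ a = χ b := by
    intro a b hab
    obtain ⟨w, rfl⟩ := isConj_iff.1 hab
    exact (hcf a w).symm
  have hχQ : IsCharacter Q (fun x : Q => χ x) := Core.isCharacter_comp Q.subtype hχ
  have hcard : Nat.card (Z.subgroupOf Q) = Nat.card Z := Nat.card_congr (Subgroup.subgroupOfEquivOfLe hZQ).toEquiv
  have hz1 : z₀ ≠ 1 := fun h => h3 (by rw [h])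
  have hbot : Z.subgroupOf Q ≠ ⊥ := fun h => hz1 (by
      have : (⟨z₀, hZQ hz₀⟩ : Q) ∈ Z.subgroupOf Q := Subgroup.mem_subgroupOf.2 hz₀
      rw [h, Subgroup.mem_bot] at this
      exact congrArg Subtype.val this)
  have hidx : (Z.subgroupOf Q).index = s ^ 2 := by
    have h4 := (Z.subgroupOf Q).card_mul_index
    rw [hcard, ← hs, mul_comm (s ^ 2)] at h4
    exact Nat.eq_of_mul_eq_mul_left Nat.card_pos h4
  have hcen : Z.subgroupOf Q ≤ Subgroup.center Q := fun z hz =>
    Subgroup.mem_center_iff.2 fun y => Subtype.ext (hZ z (Subgroup.mem_subgroupOf.1 hz) y y.2)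
  have hcc : ∀ v ∉ Z.subgroupOf Q, ∀ z ∈ Z.subgroupOf Q, IsConj v (z * v) := by
    intro v hv z hz
    obtain ⟨w, hw, e⟩ := h1 v v.2 (fun h => hv (Subgroup.mem_subgroupOf.2 h)) z (Subgroup.mem_subgroupOf.1 hz)
    rw [isConj_iff]
    exact ⟨⟨w, hw⟩, Subtype.ext e⟩
  have hval : ∀ z ∈ Z.subgroupOf Q, z ≠ 1 → (fun x : Q => χ x) z = χ z₀ := fun z hz hz' =>
    hconj (h2 z (Subgroup.mem_subgroupOf.1 hz) (fun h => hz' (Subtype.ext h)) z₀ hz₀ hz1)
  obtain ⟨N, hN1, hN⟩ := exists_mult hχQ hcen hcc (c := χ z₀) hval (fun h => h3 h.symm) hbot hidx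
  obtain ⟨a, m, -, hDm, hca, -⟩ := heis (Q := Q) (χ := fun x : Q => χ x) hχQ hcen
    (fun v hv z hz => (Core.isCharacter_isClassFunction hχQ |> fun hq => by
      obtain ⟨w, hw⟩ := isConj_iff.1 (hcc v hv z hz)
      rw [← hw]
      exact hq v w))
    (c := χ z₀) hval (fun h => h3 h.symm) hbot (s := s) (by rw [hidx]) hD
  rw [hcard] at hDm hN
  rw [Subgroup.coe_one] at hN
  refine ⟨N, hN1, ?_, ?_⟩
  · push_cast
    rw [hD] at hN
    linear_combination -hN
  · -- `m = s N`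
    have hZ0 : (0 : ℝ) < Nat.card Z := by exact_mod_cast (Nat.card_pos (α := Z))
    have h5 : (D : ℝ) - (a - m) = s * Nat.card Z * N := by
      have h6 : (((D : ℝ) - (a - m) : ℝ) : ℂ) = ((s * Nat.card Z * N : ℝ) : ℂ) := by
        push_cast
        rw [hD] at hN
        rw [← hN, hca]
        push_cast
        ring
      exact_mod_cast h6
    have h7 : m = s * N := by
      have h8 : (Nat.card Z : ℝ) * m = Nat.card Z * (s * N) := by
        rw [hDm] at h5
        linear_combination h5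
      exact mul_left_cancel₀ hZ0.ne' h8
    have h9 : (0 : ℝ) ≤ a := Nat.cast_nonneg a
    have h10 : 1 ≤ Nat.card Z := Nat.card_pos
    have h11 : ((s * (Nat.card Z - 1) * N : ℕ) : ℝ) ≤ (D : ℝ) := by
      rw [Nat.cast_mul, Nat.cast_mul, Nat.cast_sub h10, Nat.cast_one, hDm, h7]
      linarith only []
    exact_mod_cast h11

end abs

section H5

variable {F : Type u} [Field F] {G : Type u} [Group G] {A B C D E : F → G} {k l : F}

theorem conj_Q (h : H5 F A B C D E k l) {v : G} (hv : v ∈ h.Q) (hvZ : v ∉ h.Z) {z : G} (hz : z ∈ h.Z) :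
    ∃ w ∈ h.Q, w * v * w⁻¹ = z * v := by
  obtain ⟨a, b, c, d, e, rfl⟩ := hv
  obtain ⟨s, rfl⟩ := hz
  have hk := h.k0
  have hl := h.l0
  have key : ∀ a' b' c' d' : F, k * (d' * a - d * a') + l * (c' * b - c * b') = s →
      ∃ w ∈ h.Q, w * H5.P A B C D E a b c d e * w⁻¹ = E s * H5.P A B C D E a b c d e := by
    intro a' b' c' d' hs
    exact ⟨H5.P A B C D E a' b' c' d' 0, ⟨a', b', c', d', 0, rfl⟩, by rw [h.conj, hs]⟩
  by_cases ha : a = 0
  · by_cases hb : b = 0
    · by_cases hc : c = 0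
      · have hd : d ≠ 0 := by
          rintro rfl
          subst ha hb hc
          exact hvZ ⟨e, (h.E_eq e).symm⟩
        exact key (-s / (k * d)) 0 0 0 (by field_simp; ring)
      · exact key 0 (-s / (l * c)) 0 0 (by field_simp; ring)
    · exact key 0 0 (s / (l * b)) 0 (by field_simp; ring)
  · exact key 0 0 0 (s / (k * a)) (by field_simp; ring)

end H5

section G2

open Cfsg.Lie Cfsg.Agent.Omega.TwoF.GTwoLB

variable {F : Type u} [Field F]

/-- **The values at the long root elements.** -/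
theorem g2_mult [Finite F] (h3 : (3 : F) ≠ 0) [IsSimpleGroup ↥(chevG2.group F)] (χ : IrrCharacter ↥(chevG2.group F))
    (hχ : (χ : ↥(chevG2.group F) → ℂ) ≠ 1) :
    ∃ N : ℕ, 1 ≤ N ∧ (χ : ↥(chevG2.group F) → ℂ) (X 11 1) =
        ((charDegree (χ : ↥(chevG2.group F) → ℂ) : ℤ) - (Nat.card F) ^ 3 * N : ℤ) ∧
      Nat.card F ^ 2 * (Nat.card F - 1) * N ≤ charDegree (χ : ↥(chevG2.group F) → ℂ) := by
  have hfin : Finite ↥(chevG2.group F) := by
    have := Fintype.ofFinite F
    infer_instance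
  have hx1 : X (F := F) 11 1 ≠ 1 := fun h => one_ne_zero ((X_eq_one (by norm_num)).1 h)
  have h := g2_h5 F h3
  obtain ⟨n, hn⟩ := Core.isCharacter_apply_one (Core.isIrr_isCharacter χ.2)
  rw [Blocks.Basic.charDegree_of_eq hn]
  obtain ⟨N, hN1, hN, hle⟩ := exists_mult_group (Core.isIrr_isCharacter χ.2) h.Z_le
    (fun z hz y hy => h.comm_ZQ hz hy) (fun v hv hvZ z hz => conj_Q h hv hvZ hz)
    (by
      rintro _ ⟨e, rfl⟩ he _ ⟨e', rfl⟩ he'
      have h4 : e ≠ 0 := by rintro rfl; exact he (H5.zero_of_add h.Eadd)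
      have h5 : e' ≠ 0 := by rintro rfl; exact he' (H5.zero_of_add h.Eadd)
      exact (g2_long_conj h4).symm.trans (g2_long_conj h5))
    (z₀ := X 11 1) ⟨1, rfl⟩ (fun h => hχ (SporadicA.M11CharSimple.eq_one_of_apply_eq χ.2 hx1 h))
    (s := Nat.card F ^ 2) (by rw [h.card_Z, h.card_Q]; ring) hn
  rw [h.card_Z] at hN hle
  refine ⟨N, hN1, ?_, hle⟩
  rw [hN]
  push_cast
  ring

end G2

end Cfsg.Agent.H347.TC.Zint
end

-- part: H869/TD/Reg
section
/-!
# Regular unipotent elements of a Moufang hexagon in coordinates (helper869)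

`HexRel σ x1 .. x6`, `2 ≠ 0`, `3 ≠ 0`: every element `x1(1) x6(1) x5(b) x3(c) x2(d) x4(e)` is conjugate to `x1(1) x6(1)`.
-/

set_option autoImplicit false

namespace Cfsg.Agent.H869.TD

open Cfsg.Agent.SplitTwo

variable {E : Type*} [Field E] {σ : E ≃+* E} {G : Type*} [Group G] {x1 x2 x3 x4 x5 x6 : E → G}
  (R : HexRel σ x1 x2 x3 x4 x5 x6)

theorem kk_eq {a b c : G} (h : kk a b = c) : b⁻¹ * a * b = a * c := by
  rw [← h]
  unfold kk
  group

theorem kk_comm {a b : G} (h : kk a b = 1) : a * b = b * a := by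
  have := kk_eq h
  rw [mul_one] at this
  calc a * b = b * (b⁻¹ * a * b) := by group
    _ = b * a := by rw [this]

/-- conjugacy by an element of the subgroup generated by the root groups -/
def UCon (U : Subgroup G) (g h : G) : Prop := ∃ v ∈ U, v⁻¹ * g * v = h

theorem UCon.trans {U : Subgroup G} {g h k : G} (h1 : UCon U g h) (h2 : UCon U h k) : UCon U g k := by
  obtain ⟨v, hv, rfl⟩ := h1
  obtain ⟨w, hw, rfl⟩ := h2
  exact ⟨v * w, mul_mem hv hw, by group⟩

section

variable {U : Subgroup G} (m1 : ∀ a, x1 a ∈ U) (m2 : ∀ a, σ a = a → x2 a ∈ U) (m3 : ∀ a, x3 a ∈ U)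
  (m5 : ∀ a, x5 a ∈ U)

include R

omit R in
theorem fix_neg {a : E} (h : σ a = a) : σ (-a) = -a := by rw [map_neg, h]

omit R in
theorem fix_add {a b : E} (h : σ a = a) (h' : σ b = b) : σ (a + b) = a + b := by rw [map_add, h, h']

theorem fix_trc (a b : E) : σ (trc σ a b) = trc σ a b := by
  unfold trc
  rw [map_add, map_add, R.cube]
  ring

include m2 in
/-- stage A -/
theorem stageA {e : E} (he : σ e = e) : UCon U (x1 1 * x6 1 * x4 e) (x1 1 * x6 1) := by
  have h1 := kk_comm (R.c12 1 e he)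
  have h2 := kk_eq (R.c26 e 1 he (map_one σ))
  have h3 := kk_comm (R.c24 e e he he)
  rw [mul_one] at h2
  -- x6⁻¹ x2 x6 = x2 x4
  refine ⟨x2 e, m2 e he, ?_⟩
  have h4 : x2 e * x6 1 = x6 1 * x2 e * x4 e := by
    calc x2 e * x6 1 = x6 1 * ((x6 1)⁻¹ * x2 e * x6 1) := by group
      _ = x6 1 * (x2 e * x4 e) := by rw [h2]
      _ = _ := by group
  calc (x2 e)⁻¹ * (x1 1 * x6 1 * x4 e) * x2 e = (x2 e)⁻¹ * x1 1 * x6 1 * (x4 e * x2 e) := by group
    _ = (x2 e)⁻¹ * x1 1 * (x6 1 * x2 e * x4 e) := by rw [← h3]; group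
    _ = (x2 e)⁻¹ * x1 1 * (x2 e * x6 1) := by rw [h4]
    _ = (x2 e)⁻¹ * (x1 1 * x2 e) * x6 1 := by group
    _ = (x2 e)⁻¹ * (x2 e * x1 1) * x6 1 := by rw [h1]
    _ = _ := by group

include m3 in
/-- stage B -/
theorem stageB (h3 : (3 : E) ≠ 0) {d e : E} (hd : σ d = d) (he : σ e = e) :
    ∃ e', σ e' = e' ∧ UCon U (x1 1 * x6 1 * x2 d * x4 e) (x1 1 * x6 1 * x4 e') := by
  have hc3 : σ (3 : E) = 3 := map_ofNat σ 3
  set c : E := -(d / 3) with hc
  have hσc : σ c = c := by rw [hc, map_neg, map_div₀, hd, hc3]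
  have htr : trc σ 1 c = -d := by
    unfold trc
    rw [one_mul, hσc, hσc, hc]
    field_simp
    ring
  have k13 := kk_eq (R.c13 1 c)
  rw [htr] at k13
  have k36 := kk_comm (R.c36 c 1 (map_one σ))
  have k23 := kk_comm (R.c23 d c hd)
  have k34 := kk_comm (R.c34 c e he)
  have hd' := fix_neg hd
  have k26 := kk_eq (R.c26 (-d) 1 hd' (map_one σ))
  rw [mul_one] at k26
  have k24 := kk_comm (R.c24 d (-d) hd hd')
  refine ⟨-d + e, fix_add hd' he, x3 c, m3 c, ?_⟩
  calc (x3 c)⁻¹ * (x1 1 * x6 1 * x2 d * x4 e) * x3 c = (x3 c)⁻¹ * x1 1 * x6 1 * x2 d * (x4 e * x3 c) := by group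
    _ = (x3 c)⁻¹ * x1 1 * x6 1 * (x2 d * x3 c) * x4 e := by rw [← k34]; group
    _ = (x3 c)⁻¹ * x1 1 * (x6 1 * x3 c) * x2 d * x4 e := by rw [k23]; group
    _ = ((x3 c)⁻¹ * x1 1 * x3 c) * x6 1 * x2 d * x4 e := by rw [← k36]; group
    _ = x1 1 * (x6 1 * ((x6 1)⁻¹ * x2 (-d) * x6 1)) * x2 d * x4 e := by rw [k13]; group
    _ = x1 1 * x6 1 * x2 (-d) * (x4 (-d) * x2 d) * x4 e := by rw [k26]; group
    _ = x1 1 * x6 1 * (x2 (-d) * x2 d) * (x4 (-d) * x4 e) := by rw [← k24]; group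
    _ = x1 1 * x6 1 * x4 (-d + e) := by
      rw [← R.add2 _ _ hd' hd, ← R.add4 _ _ hd' he, neg_add_cancel]
      have h0 : x2 0 = 1 := by
        have := R.add2 0 0 (map_zero σ) (map_zero σ)
        rw [add_zero] at this
        exact (mul_eq_left.1 this.symm)
      rw [h0, mul_one]

omit R in
/-- the elements of the abelian group `X₃ X₂ X₄` -/
def nn (x2 x3 x4 : E → G) (c d e : E) : G := x3 c * x2 d * x4 e

theorem nn_mul {c d e c' d' e' : E} (hd : σ d = d) (he : σ e = e) (hd' : σ d' = d') (he' : σ e' = e') :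
    nn x2 x3 x4 c d e * nn x2 x3 x4 c' d' e' = nn x2 x3 x4 (c + c') (d + d') (e + e') := by
  have k34 := kk_comm (R.c34 c' e he)
  have k23 := kk_comm (R.c23 d c' hd)
  have k24 := kk_comm (R.c24 d' e hd' he)
  unfold nn
  rw [R.add2 _ _ hd hd', R.add3, R.add4 _ _ he he']
  calc x3 c * x2 d * x4 e * (x3 c' * x2 d' * x4 e') = x3 c * x2 d * (x4 e * x3 c') * x2 d' * x4 e' := by group
    _ = x3 c * (x2 d * x3 c') * (x4 e * x2 d') * x4 e' := by rw [← k34]; group
    _ = _ := by rw [k23, ← k24]; group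

theorem x2_zero : x2 0 = 1 := by
  have := R.add2 0 0 (map_zero σ) (map_zero σ)
  rw [add_zero] at this
  exact (mul_eq_left.1 this.symm)

theorem x4_zero : x4 0 = 1 := by
  have := R.add4 0 0 (map_zero σ) (map_zero σ)
  rw [add_zero] at this
  exact (mul_eq_left.1 this.symm)

theorem x3_zero : x3 0 = 1 := by
  have := R.add3 0 0
  rw [add_zero] at this
  exact (mul_eq_left.1 this.symm)

theorem x5_zero : x5 0 = 1 := by
  have := R.add5 0 0
  rw [add_zero] at this
  exact (mul_eq_left.1 this.symm)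

theorem nn_x6 {c d e : E} (hd : σ d = d) (he : σ e = e) :
    nn x2 x3 x4 c d e * x6 1 = x6 1 * nn x2 x3 x4 c d (d + e) := by
  have k36 := kk_comm (R.c36 c 1 (map_one σ))
  have k46 := kk_comm (R.c46 e 1 he (map_one σ))
  have k26 := kk_eq (R.c26 d 1 hd (map_one σ))
  rw [mul_one] at k26
  unfold nn
  rw [R.add4 _ _ hd he]
  calc x3 c * x2 d * x4 e * x6 1 = x3 c * x2 d * (x4 e * x6 1) := by group
    _ = x3 c * (x6 1 * ((x6 1)⁻¹ * x2 d * x6 1)) * x4 e := by rw [k46]; group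
    _ = (x3 c * x6 1) * x2 d * x4 d * x4 e := by rw [k26]; group
    _ = _ := by rw [k36]; group

theorem nn_x5 {c d e : E} (hd : σ d = d) (he : σ e = e) (b : E) :
    nn x2 x3 x4 c d e * x5 b = x5 b * nn x2 x3 x4 c d (trc σ c b + e) := by
  have k25 := kk_comm (R.c25 d b hd)
  have k45 := kk_comm (R.c45 e b he)
  have k35 := kk_eq (R.c35 c b)
  have ht := fix_trc R c b
  have k24 := kk_comm (R.c24 d _ hd ht)
  unfold nn
  rw [R.add4 _ _ ht he]
  calc x3 c * x2 d * x4 e * x5 b = x3 c * x2 d * (x4 e * x5 b) := by group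
    _ = x3 c * (x2 d * x5 b) * x4 e := by rw [k45]; group
    _ = x5 b * ((x5 b)⁻¹ * x3 c * x5 b) * x2 d * x4 e := by rw [k25]; group
    _ = x5 b * x3 c * (x4 (trc σ c b) * x2 d) * x4 e := by rw [k35]; group
    _ = _ := by rw [← k24]; group

theorem nn_x1 {c d e : E} (hd : σ d = d) (he : σ e = e) (a : E) :
    nn x2 x3 x4 c d e * x1 a = x1 a * nn x2 x3 x4 c (-trc σ a c + d) e := by
  have k12 := kk_comm (R.c12 a d hd)
  have k14 := kk_comm (R.c14 a e he)
  have k13 := kk_eq (R.c13 a c)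
  have ht := fix_trc R a c
  have ht' := fix_neg ht
  have k23 := kk_comm (R.c23 (-trc σ a c) c ht')
  have h0 : x2 (trc σ a c) * x2 (-trc σ a c) = 1 := by
    rw [← R.add2 _ _ ht ht', add_neg_cancel, x2_zero R]
  have h1 : x3 c * x1 a = x1 a * x3 c * x2 (-trc σ a c) := by
    have h2 : x1 a * x3 c = x3 c * x1 a * x2 (trc σ a c) := by
      calc x1 a * x3 c = x3 c * ((x3 c)⁻¹ * x1 a * x3 c) := by group
        _ = _ := by rw [k13]; group
    rw [h2, mul_assoc, h0, mul_one]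
  unfold nn
  rw [R.add2 _ _ ht' hd]
  calc x3 c * x2 d * x4 e * x1 a = x3 c * x2 d * (x4 e * x1 a) := by group
    _ = x3 c * (x2 d * x1 a) * x4 e := by rw [← k14]; group
    _ = (x3 c * x1 a) * x2 d * x4 e := by rw [← k12]; group
    _ = _ := by rw [h1]; group

omit R in
theorem two_inv_fix (σ : E ≃+* E) {c : E} : σ (c / 2) = σ c / 2 := by
  rw [map_div₀, map_ofNat]

theorem fix_nrm (a : E) : σ (nrm σ a) = nrm σ a := by
  unfold nrm
  rw [map_mul, map_mul, R.cube]
  ring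

include m5 in
/-- stage C -/
theorem stageC (h2 : (2 : E) ≠ 0) {c d e : E} (hd : σ d = d) (he : σ e = e) :
    ∃ d' e', σ d' = d' ∧ σ e' = e' ∧
      UCon U (x1 1 * x6 1 * nn x2 x3 x4 c d e) (x1 1 * x6 1 * x2 d' * x4 e') := by
  set b : E := c - trc σ 1 c / 2 with hb
  have ht := fix_trc R 1 c
  have hσ2 : σ (trc σ 1 c / 2) = trc σ 1 c / 2 := by rw [two_inv_fix, ht]
  have hcr : crs σ 1 b = -c := by
    unfold crs
    rw [hb, map_sub, map_sub, hσ2, hσ2, map_one, map_one]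
    unfold trc
    field_simp
    ring
  have hA := fix_neg (fix_trc R (shp σ 1) b)
  have hB := fix_trc R 1 (shp σ b)
  have hT := fix_trc R c b
  have k15 := kk_eq (R.c15 1 b)
  rw [hcr] at k15
  have k23 := kk_comm (R.c23 _ (-c) hA)
  have hn : x2 (-trc σ (shp σ 1) b) * x3 (-c) * x4 (trc σ 1 (shp σ b)) =
      nn x2 x3 x4 (-c) (-trc σ (shp σ 1) b) (trc σ 1 (shp σ b)) := by
    unfold nn
    rw [k23]
  rw [hn] at k15
  have k56 := kk_comm (R.c56 b 1 (map_one σ))
  refine ⟨-trc σ (shp σ 1) b + d, (-trc σ (shp σ 1) b + trc σ 1 (shp σ b)) + (trc σ c b + e), fix_add hA hd,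
    fix_add (fix_add hA hB) (fix_add hT he), x5 b, m5 b, ?_⟩
  calc (x5 b)⁻¹ * (x1 1 * x6 1 * nn x2 x3 x4 c d e) * x5 b
      = (x5 b)⁻¹ * x1 1 * x6 1 * (nn x2 x3 x4 c d e * x5 b) := by group
    _ = (x5 b)⁻¹ * x1 1 * (x6 1 * x5 b) * nn x2 x3 x4 c d (trc σ c b + e) := by rw [nn_x5 R hd he]; group
    _ = ((x5 b)⁻¹ * x1 1 * x5 b) * x6 1 * nn x2 x3 x4 c d (trc σ c b + e) := by rw [← k56]; group
    _ = x1 1 * (nn x2 x3 x4 (-c) (-trc σ (shp σ 1) b) (trc σ 1 (shp σ b)) * x6 1) *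
        nn x2 x3 x4 c d (trc σ c b + e) := by rw [k15]; group
    _ = x1 1 * x6 1 * (nn x2 x3 x4 (-c) (-trc σ (shp σ 1) b) (-trc σ (shp σ 1) b + trc σ 1 (shp σ b)) *
        nn x2 x3 x4 c d (trc σ c b + e)) := by rw [nn_x6 R hA hB]; group
    _ = _ := by
      rw [nn_mul R hA (fix_add hA hB) hd (fix_add hT he), neg_add_cancel]
      unfold nn
      rw [x3_zero R]
      group

theorem nn_one : nn x2 x3 x4 0 0 0 = 1 := by
  unfold nn
  rw [x2_zero R, x3_zero R, x4_zero R, one_mul, one_mul]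

theorem nn_inv {c d e : E} (hd : σ d = d) (he : σ e = e) :
    (nn x2 x3 x4 c d e)⁻¹ = nn x2 x3 x4 (-c) (-d) (-e) := by
  rw [inv_eq_iff_mul_eq_one, nn_mul R hd he (fix_neg hd) (fix_neg he), add_neg_cancel, add_neg_cancel, add_neg_cancel,
    nn_one R]

theorem x5_inv (a : E) : (x5 a)⁻¹ = x5 (-a) := by
  rw [inv_eq_iff_mul_eq_one, ← R.add5, add_neg_cancel, x5_zero R]

include m1 in
/-- stage D -/
theorem stageD {b c d e : E} (hd : σ d = d) (he : σ e = e) :
    ∃ c' d' e', σ d' = d' ∧ σ e' = e' ∧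
      UCon U (x1 1 * x6 1 * x5 b * nn x2 x3 x4 c d e) (x1 1 * x6 1 * nn x2 x3 x4 c' d' e') := by
  set a : E := -b with ha
  have hN := fix_nrm R a
  have hN' := fix_neg hN
  have hA := fix_neg (fix_trc R (shp σ a) b)
  have hB := fix_trc R a (shp σ b)
  have hT := fix_trc R (-shp σ a) b
  have hC := fix_neg (fix_trc R a c)
  -- `x1⁻¹ x6 x1`
  have e16 : (x1 a)⁻¹ * x6 1 * x1 a = x6 1 * x5 a * nn x2 x3 x4 (-shp σ a) (nrm σ a) (-nrm σ a) := by
    have h1 := R.c16 a 1 (map_one σ)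
    rw [one_mul, one_mul, one_mul, one_pow, one_mul] at h1
    have k23 := kk_comm (R.c23 _ (shp σ a) hN')
    have h2 : x2 (-nrm σ a) * x3 (shp σ a) * x4 (nrm σ a) = nn x2 x3 x4 (shp σ a) (-nrm σ a) (nrm σ a) := by
      unfold nn
      rw [k23]
    rw [h2] at h1
    unfold kk at h1
    have h3 : (x1 a)⁻¹ * x6 1 * x1 a = x6 1 * (x5 (-a))⁻¹ * (nn x2 x3 x4 (shp σ a) (-nrm σ a) (nrm σ a))⁻¹ := by
      have h4 : ((x1 a)⁻¹ * (x6 1)⁻¹ * x1 a)⁻¹ = (nn x2 x3 x4 (shp σ a) (-nrm σ a) (nrm σ a) * x5 (-a) * (x6 1)⁻¹)⁻¹ := by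
        rw [← h1]
        group
      calc (x1 a)⁻¹ * x6 1 * x1 a = ((x1 a)⁻¹ * (x6 1)⁻¹ * x1 a)⁻¹ := by group
        _ = _ := h4
        _ = _ := by group
    rw [h3, x5_inv R, neg_neg, nn_inv R hN' hN, neg_neg]
  have e15 : (x1 a)⁻¹ * x5 b * x1 a = x5 b * nn x2 x3 x4 (-crs σ a b) (-(-trc σ (shp σ a) b)) (-trc σ a (shp σ b)) := by
    have h1 := R.c15 a b
    have k23 := kk_comm (R.c23 _ (crs σ a b) hA)
    have h2 : x2 (-trc σ (shp σ a) b) * x3 (crs σ a b) * x4 (trc σ a (shp σ b)) =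
        nn x2 x3 x4 (crs σ a b) (-trc σ (shp σ a) b) (trc σ a (shp σ b)) := by
      unfold nn
      rw [k23]
    rw [h2] at h1
    unfold kk at h1
    have h4 : ((x1 a)⁻¹ * (x5 b)⁻¹ * x1 a)⁻¹ =
        (nn x2 x3 x4 (crs σ a b) (-trc σ (shp σ a) b) (trc σ a (shp σ b)) * (x5 b)⁻¹)⁻¹ := by
      rw [← h1]
      group
    calc (x1 a)⁻¹ * x5 b * x1 a = ((x1 a)⁻¹ * (x5 b)⁻¹ * x1 a)⁻¹ := by group
      _ = _ := h4
      _ = x5 b * (nn x2 x3 x4 (crs σ a b) (-trc σ (shp σ a) b) (trc σ a (shp σ b)))⁻¹ := by group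
      _ = _ := by rw [nn_inv R hA hB]
  have e11 : x1 1 * x1 a = x1 a * x1 1 := by
    rw [← R.add1, ← R.add1, add_comm]
  have hA' := fix_neg hA
  have hB' := fix_neg hB
  refine ⟨-shp σ a + (-crs σ a b + c), nrm σ a + (-(-trc σ (shp σ a) b) + (-trc σ a c + d)),
    (trc σ (-shp σ a) b + -nrm σ a) + (-trc σ a (shp σ b) + e), fix_add hN (fix_add hA' (fix_add hC hd)),
    fix_add (fix_add hT hN') (fix_add hB' he), x1 a, m1 a, ?_⟩
  calc (x1 a)⁻¹ * (x1 1 * x6 1 * x5 b * nn x2 x3 x4 c d e) * x1 a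
      = (x1 a)⁻¹ * x1 1 * x6 1 * x5 b * (nn x2 x3 x4 c d e * x1 a) := by group
    _ = (x1 a)⁻¹ * (x1 1 * x1 a) * ((x1 a)⁻¹ * x6 1 * x1 a) * ((x1 a)⁻¹ * x5 b * x1 a) *
        nn x2 x3 x4 c (-trc σ a c + d) e := by rw [nn_x1 R hd he]; group
    _ = x1 1 * x6 1 * x5 a * (nn x2 x3 x4 (-shp σ a) (nrm σ a) (-nrm σ a) * x5 b) *
        nn x2 x3 x4 (-crs σ a b) (-(-trc σ (shp σ a) b)) (-trc σ a (shp σ b)) *
        nn x2 x3 x4 c (-trc σ a c + d) e := by rw [e11, e16, e15]; group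
    _ = x1 1 * x6 1 * (x5 a * x5 b) * (nn x2 x3 x4 (-shp σ a) (nrm σ a) (trc σ (-shp σ a) b + -nrm σ a) *
        (nn x2 x3 x4 (-crs σ a b) (-(-trc σ (shp σ a) b)) (-trc σ a (shp σ b)) *
        nn x2 x3 x4 c (-trc σ a c + d) e)) := by rw [nn_x5 R hN hN']; group
    _ = _ := by
      rw [nn_mul R hA' hB' (fix_add hC hd) he, nn_mul R hN (fix_add hT hN') (fix_add hA' (fix_add hC hd))
        (fix_add hB' he), ← R.add5, ha, neg_add_cancel, x5_zero R, mul_one]

include m1 m2 m3 m5 in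
/-- **The regular unipotent elements.** -/
theorem reg_con (h2 : (2 : E) ≠ 0) (h3 : (3 : E) ≠ 0) {b c d e : E} (hd : σ d = d) (he : σ e = e) :
    UCon U (x1 1 * x6 1 * x5 b * nn x2 x3 x4 c d e) (x1 1 * x6 1) := by
  obtain ⟨c1, d1, e1, hd1, he1, h1⟩ := stageD R m1 (b := b) (c := c) hd he
  obtain ⟨d2, e2, hd2, he2, h2'⟩ := stageC R m5 h2 (c := c1) hd1 he1
  obtain ⟨e3, he3, h3'⟩ := stageB R m3 h3 hd2 he2
  exact ((h1.trans h2').trans h3').trans (stageA R m2 he3)

end

end Cfsg.Agent.H869.TD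
end

-- part: H347/TC/RegU
section
/-!
# Regular unipotent elements of `G₂(q)`, `q` prime to `6` (helper347)

`exists_reg`: an element `y` of `chevG2.group F`, `2, 3 ≠ 0` in the finite field `F` of characteristic `p`, whose order
is a power of `p`, with `|C(y)| = |F| ^ 2` and conjugate to `y ^ k` for all `k` prime to `p`.
-/

set_option autoImplicit false
set_option linter.unusedSectionVars false

open Cfsg Subgroup

namespace Cfsg.Agent.H347.TC.RegU

open Cfsg.Lie Cfsg.Agent.ChevalleyStructure Cfsg.Agent.ChevalleyStructure.Elts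
open Cfsg.Agent.Omega.TwoF.GTwoLB (inG2 X H H_conj X_add X_zero X_neg)
open Cfsg.Agent.SplitTwo Cfsg.Agent.H869.TD
open Cfsg.Agent.H228.RegUnip
open Cfsg.Agent.H446.TC6.GTwoCent (hpG2 posRoots_eq)

universe u

variable {F : Type u} [Field F]

theorem y_eq {r : ℕ} (_hr : r < 12) (t : F) (h : Cfsg.Agent.ChevalleyStructure.G2N.xG r t ∈ chevG2.group F) :
    (⟨Cfsg.Agent.ChevalleyStructure.G2N.xG r t, h⟩ : ↥(chevG2.group F)) = X r t := by
  apply Subtype.ext
  apply Units.ext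
  show ((Cfsg.Agent.ChevalleyStructure.G2N.xG r t : GL chevG2.Idx F) : Matrix chevG2.Idx chevG2.Idx F) =
    ((xG inG2 r t : GL chevG2.Idx F) : Matrix chevG2.Idx chevG2.Idx F)
  rw [Cfsg.Agent.ChevalleyStructure.G2N.coe_xG, coe_xG]

/-- the hexagonal relations -/
theorem hex : HexRel (RingEquiv.refl F) (X (F := F) 7) (fun t => X 10 (-t)) (fun t => X 9 (-t)) (X 11) (X 8) (X 6) := by
  have h := Cfsg.Agent.Hexagon.G2Par.hexRel' (K := F)
  have e1 : (Cfsg.Agent.Hexagon.G2Par.y1 : F → ↥(chevG2.group F)) = X 7 := by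
    funext t; exact y_eq (by norm_num) t _
  have e2 : (Cfsg.Agent.Hexagon.G2Par.y2 : F → ↥(chevG2.group F)) = fun t => X 10 (-t) := by
    funext t; exact y_eq (by norm_num) (-t) _
  have e3 : (Cfsg.Agent.Hexagon.G2Par.y3 : F → ↥(chevG2.group F)) = fun t => X 9 (-t) := by
    funext t; exact y_eq (by norm_num) (-t) _
  have e4 : (Cfsg.Agent.Hexagon.G2Par.y4 : F → ↥(chevG2.group F)) = X 11 := by
    funext t; exact y_eq (by norm_num) t _
  have e5 : (Cfsg.Agent.Hexagon.G2Par.y5 : F → ↥(chevG2.group F)) = X 8 := by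
    funext t; exact y_eq (by norm_num) t _
  have e6 : (Cfsg.Agent.Hexagon.G2Par.y6 : F → ↥(chevG2.group F)) = X 6 := by
    funext t; exact y_eq (by norm_num) t _
  rw [e1, e2, e3, e4, e5, e6] at h
  exact h

/-- the positive unipotent subgroup -/
def U (F : Type u) [Field F] : Subgroup ↥(chevG2.group F) := (chevG2.posUnipotent F).subgroupOf (chevG2.group F)

theorem X_mem {r : ℕ} (h6 : 6 ≤ r) (h12 : r < 12) (t : F) : X r t ∈ U F := by
  rw [U, mem_subgroupOf]
  refine xG_mem_posUnipotent inG2 ?_ _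
  interval_cases r <;> decide

theorem card_U [Finite F] : Nat.card (U F) = Nat.card F ^ 6 := by
  have := Fintype.ofFinite F
  have h1 : Nat.card (chevG2.posUnipotent F) = Fintype.card F ^ 6 := Cfsg.Agent.S1027.result chevG2 (by simp)
  have h2 : chevG2.posUnipotent F ≤ chevG2.group F := by
    refine (posUnipotent_le_iff inG2 _).2 fun r _ t => xG_mem_group inG2 r t
  rw [U, Nat.card_congr (Subgroup.subgroupOfEquivOfLe h2).toEquiv, h1, Nat.card_eq_fintype_card]

/-- the coordinates of an element of `U` -/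
noncomputable def w (b a c d e f : F) : ↥(chevG2.group F) := X 6 b * X 7 a * X 8 c * X 9 d * X 10 e * X 11 f

def tt (b a c d e f : F) : ℕ → F
  | 6 => b
  | 7 => a
  | 8 => c
  | 9 => d
  | 10 => e
  | 11 => f
  | _ => 0

theorem coe_w (b a c d e f : F) : ((w b a c d e f : ↥(chevG2.group F)) : GL chevG2.Idx F) =
    wordG inG2 (chevG2.posRoots.map fun r => (r, tt b a c d e f r)) := by
  rw [posRoots_eq]
  simp only [List.map_cons, List.map_nil, wordG_cons, wordG_nil, tt, mul_one]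
  show xG inG2 6 b * xG inG2 7 a * xG inG2 8 c * xG inG2 9 d * xG inG2 10 e * xG inG2 11 f = _
  group

theorem tt_zero (b a c d e f : F) (r : ℕ) (hr : ¬ chevG2.IsPosRoot r) : tt b a c d e f r = 0 := by
  have h : ∀ r, ¬ chevG2.IsPosRoot r → r ≠ 6 ∧ r ≠ 7 ∧ r ≠ 8 ∧ r ≠ 9 ∧ r ≠ 10 ∧ r ≠ 11 := by
    intro r hr
    refine ⟨?_, ?_, ?_, ?_, ?_, ?_⟩ <;> rintro rfl <;> exact hr (by decide)
  obtain ⟨h6, h7, h8, h9, h10, h11⟩ := h r hr
  unfold tt
  split <;> first | rfl | (exfalso; omega)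

theorem w_inj {b a c d e f b' a' c' d' e' f' : F} (h : w b a c d e f = w b' a' c' d' e' f') :
    b = b' ∧ a = a' ∧ c = c' ∧ d = d' ∧ e = e' ∧ f = f' := by
  have h1 : ((w b a c d e f : ↥(chevG2.group F)) : GL chevG2.Idx F) = w b' a' c' d' e' f' := congrArg Subtype.val h
  have hm : ((w b a c d e f : ↥(chevG2.group F)) : GL chevG2.Idx F) ∈ chevG2.posUnipotent F := by
    have : w b a c d e f ∈ U F := by
      unfold w
      exact mul_mem (mul_mem (mul_mem (mul_mem (mul_mem (X_mem (by norm_num) (by norm_num) _)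
        (X_mem (by norm_num) (by norm_num) _)) (X_mem (by norm_num) (by norm_num) _))
        (X_mem (by norm_num) (by norm_num) _)) (X_mem (by norm_num) (by norm_num) _))
        (X_mem (by norm_num) (by norm_num) _)
    exact this
  obtain ⟨v, -, hv⟩ := (Cfsg.Agent.S1026.result chevG2 (by simp)).1 _ hm
  have h3 := hv (tt b a c d e f) ⟨tt_zero b a c d e f, (eq_wordG_iff inG2 _ _).1 (coe_w b a c d e f)⟩
  have h4 := hv (tt b' a' c' d' e' f') ⟨tt_zero b' a' c' d' e' f', (eq_wordG_iff inG2 _ _).1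
    (h1.trans (coe_w b' a' c' d' e' f'))⟩
  have h5 := h3.trans h4.symm
  exact ⟨congrFun h5 6, congrFun h5 7, congrFun h5 8, congrFun h5 9, congrFun h5 10, congrFun h5 11⟩

theorem exists_w {v : ↥(chevG2.group F)} (hv : v ∈ U F) : ∃ b a c d e f : F, v = w b a c d e f := by
  obtain ⟨t, ⟨-, ht⟩, -⟩ := (Cfsg.Agent.S1026.result chevG2 (by simp)).1 _ (mem_subgroupOf.1 hv)
  have ht' := (eq_wordG_iff inG2 _ _).2 ht
  refine ⟨t 6, t 7, t 8, t 9, t 10, t 11, Subtype.ext ?_⟩
  rw [ht', posRoots_eq]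
  simp only [List.map_cons, List.map_nil, wordG_cons, wordG_nil, mul_one]
  show _ = xG inG2 6 (t 6) * xG inG2 7 (t 7) * xG inG2 8 (t 8) * xG inG2 9 (t 9) * xG inG2 10 (t 10) * xG inG2 11 (t 11)
  group

/-- `x₁(a) x₆(b) x₅(c) x₃ x₂ x₄` -/
noncomputable def w' (a b c d e f : F) : ↥(chevG2.group F) := X 7 a * X 6 b * X 8 c * X 9 d * X 10 e * X 11 f

/-- moving `x₆` -/
theorem conj6 (b a c d e f : F) : (X 6 b)⁻¹ * w b a c d e f * X 6 b = w' a b c d e (-e * b + f) := by
  have R := hex (F := F)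
  have k26 := kk_eq (R.c26 (-e) b rfl rfl)
  have k36 := kk_comm (R.c36 (-d) b rfl)
  have k46 := kk_comm (R.c46 f b rfl rfl)
  have k56 := kk_comm (R.c56 c b rfl)
  simp only [neg_neg] at k26 k36
  unfold w w'
  calc (X 6 b)⁻¹ * (X 6 b * X 7 a * X 8 c * X 9 d * X 10 e * X 11 f) * X 6 b
      = X 7 a * X 8 c * X 9 d * X 10 e * (X 11 f * X 6 b) := by group
    _ = X 7 a * X 8 c * X 9 d * (X 6 b * ((X 6 b)⁻¹ * X 10 e * X 6 b)) * X 11 f := by rw [k46]; group
    _ = X 7 a * X 8 c * (X 9 d * X 6 b) * X 10 e * X 11 (-e * b) * X 11 f := by rw [k26]; group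
    _ = X 7 a * (X 8 c * X 6 b) * X 9 d * X 10 e * (X 11 (-e * b) * X 11 f) := by rw [k36]; group
    _ = _ := by rw [k56, ← X_add]; group

/-- the torus -/
theorem conjT {a b : F} (ha : a ≠ 0) (hb : b ≠ 0) (c d e f : F) : ∃ g : ↥(chevG2.group F), ∃ c' d' e' f' : F,
    g * w' a b c d e f * g⁻¹ = w' 1 1 c' d' e' f' := by
  have key : ∀ (x y : F), x ≠ 0 → y ≠ 0 → ∀ s < 12, ∀ t : F,
      (H 0 x * H 1 y) * X s t * (H 0 x * H 1 y)⁻¹ = X s (x ^ (chevG2.cartan 0 s) * (y ^ (chevG2.cartan 1 s) * t)) := by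
    intro x y hx hy s hs t
    have e1 : (H 0 x * H 1 y) * X s t * (H 0 x * H 1 y)⁻¹ = H 0 x * (H 1 y * X s t * (H 1 y)⁻¹) * (H 0 x)⁻¹ := by
      group
    rw [e1, H_conj (by norm_num) hs hy, H_conj (by norm_num) hs hx]
  have ha' : a⁻¹ ≠ 0 := inv_ne_zero ha
  have hb' : b⁻¹ ≠ 0 := inv_ne_zero hb
  obtain ⟨x, hx⟩ : ∃ x : F, x = b⁻¹ * a⁻¹ ^ 2 := ⟨_, rfl⟩
  obtain ⟨y, hy⟩ : ∃ y : F, y = b⁻¹ ^ 2 * a⁻¹ ^ 3 := ⟨_, rfl⟩
  have hx0 : x ≠ 0 := by rw [hx]; exact mul_ne_zero hb' (pow_ne_zero _ ha')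
  have hy0 : y ≠ 0 := by rw [hy]; exact mul_ne_zero (pow_ne_zero _ hb') (pow_ne_zero _ ha')
  have k := key x y hx0 hy0
  refine ⟨H 0 x * H 1 y, x ^ (chevG2.cartan 0 8) * (y ^ (chevG2.cartan 1 8) * c),
    x ^ (chevG2.cartan 0 9) * (y ^ (chevG2.cartan 1 9) * d), x ^ (chevG2.cartan 0 10) * (y ^ (chevG2.cartan 1 10) * e),
    x ^ (chevG2.cartan 0 11) * (y ^ (chevG2.cartan 1 11) * f), ?_⟩
  have e' : ∀ g x1 x2 x3 x4 x5 x6 : ↥(chevG2.group F), g * (x1 * x2 * x3 * x4 * x5 * x6) * g⁻¹ =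
      (g * x1 * g⁻¹) * (g * x2 * g⁻¹) * (g * x3 * g⁻¹) * (g * x4 * g⁻¹) * (g * x5 * g⁻¹) * (g * x6 * g⁻¹) := by
    intro g x1 x2 x3 x4 x5 x6
    group
  unfold w'
  rw [e', k 7 (by norm_num), k 6 (by norm_num), k 8 (by norm_num), k 9 (by norm_num), k 10 (by norm_num),
    k 11 (by norm_num)]
  have c07 : chevG2.cartan 0 7 = 2 := by decide
  have c17 : chevG2.cartan 1 7 = -1 := by decide
  have c06 : chevG2.cartan 0 6 = -3 := by decide
  have c16 : chevG2.cartan 1 6 = 2 := by decide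
  have e7 : x ^ (chevG2.cartan 0 7) * (y ^ (chevG2.cartan 1 7) * a) = 1 := by
    rw [c07, c17, hx, hy, zpow_neg, zpow_one]
    rw [show ((2 : ℤ)) = ((2 : ℕ) : ℤ) from rfl, zpow_natCast]
    field_simp
  have e6 : x ^ (chevG2.cartan 0 6) * (y ^ (chevG2.cartan 1 6) * b) = 1 := by
    rw [c06, c16, hx, hy, zpow_neg]
    rw [show ((2 : ℤ)) = ((2 : ℕ) : ℤ) from rfl, zpow_natCast, show ((3 : ℤ)) = ((3 : ℕ) : ℤ) from rfl, zpow_natCast]
    field_simp
  rw [e7, e6]

/-- the regular unipotent element -/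
noncomputable def y (F : Type u) [Field F] : ↥(chevG2.group F) := X 7 1 * X 6 1

theorem ucon (h2 : (2 : F) ≠ 0) (h3 : (3 : F) ≠ 0) (c d e f : F) : UCon (U F) (w' 1 1 c d e f) (y F) := by
  have h := reg_con (hex (F := F)) (U := U F) (fun a => X_mem (by norm_num) (by norm_num) a)
    (fun a _ => X_mem (by norm_num) (by norm_num) (-a)) (fun a => X_mem (by norm_num) (by norm_num) (-a))
    (fun a => X_mem (by norm_num) (by norm_num) a) h2 h3 (b := c) (c := -d) (d := -e) (e := f) rfl rfl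
  unfold nn at h
  simp only [neg_neg] at h
  have e1 : w' 1 1 c d e f = X 7 1 * X 6 1 * X 8 c * (X 9 d * X 10 e * X 11 f) := by unfold w'; group
  rw [e1]
  exact h

/-- **all regular elements are conjugate** -/
theorem isConj (h2 : (2 : F) ≠ 0) (h3 : (3 : F) ≠ 0) {a b : F} (ha : a ≠ 0) (hb : b ≠ 0) (c d e f : F) :
    IsConj (y F) (w b a c d e f) := by
  obtain ⟨g, c', d', e', f', h⟩ := conjT ha hb c d e (-e * b + f)
  obtain ⟨v, -, hv⟩ := ucon h2 h3 c' d' e' f'
  have h6 := conj6 b a c d e f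
  rw [← h6] at h
  have h1 : IsConj (w b a c d e f) (w' 1 1 c' d' e' f') := by
    rw [isConj_iff]
    exact ⟨g * (X 6 b)⁻¹, by rw [← h]; group⟩
  have h4 : IsConj (w' 1 1 c' d' e' f') (y F) := by
    rw [isConj_iff]
    exact ⟨v⁻¹, by rw [inv_inv]; exact hv⟩
  exact (h1.trans h4).symm

theorem y_mem : y F ∈ U F := mul_mem (X_mem (by norm_num) (by norm_num) _) (X_mem (by norm_num) (by norm_num) _)

/-! ### the centralizer -/

section fin

variable [Finite F]

/-- `y` is regular -/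
theorem isReg (p : ℕ) [Fact p.Prime] [CharP F p] :
    IsReg hpG2 CoxeterMatrix.G₂.toCoxeterSystem ((y F : ↥(chevG2.group F)) : GL chevG2.Idx F) := by
  have h := isReg_wordG (hp := hpG2) (cs := CoxeterMatrix.G₂.toCoxeterSystem) (K := F) p [(7, 1), (6, 1)]
    (by
      intro c hc
      simp only [List.mem_cons, List.not_mem_nil, or_false] at hc
      rcases hc with rfl | rfl
      · show chevG2.IsPosRoot 7
        decide
      · show chevG2.IsPosRoot 6
        decide)
    (by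
      intro i
      fin_cases i
      · have e1 : (7 : ℕ) = chevG2.simple 0 := by decide
        have e2 : (6 : ℕ) ≠ chevG2.simple 0 := by decide
        simp [cw, ← e1]
      · have e1 : (6 : ℕ) = chevG2.simple 1 := by decide
        simp [cw, ← e1])
  have e : ((y F : ↥(chevG2.group F)) : GL chevG2.Idx F) = wordG hpG2.inList [(7, 1), (6, 1)] := by
    rw [wordG_cons, wordG_cons, wordG_nil, mul_one]
    rfl
  rw [e]
  exact h

theorem cent_le (p : ℕ) [Fact p.Prime] [CharP F p] : centralizer ({y F} : Set ↥(chevG2.group F)) ≤ U F := by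
  intro g hg
  have h1 := mem_centralizer_singleton_iff.1 hg
  rw [U, mem_subgroupOf]
  exact mem_U_of_commute (hp := hpG2) (cs := CoxeterMatrix.G₂.toCoxeterSystem) p (isReg p) g.2
    (congrArg Subtype.val h1)

theorem w'_inj {c d e f c' d' e' f' : F} (h : w' 1 1 c d e f = w' 1 1 c' d' e' f') :
    c = c' ∧ d = d' ∧ e = e' ∧ f = f' := by
  unfold w' at h
  have h1 : w 0 0 c d e f = w 0 0 c' d' e' f' := by
    unfold w
    rw [X_zero, X_zero]
    simp only [mul_assoc] at h ⊢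
    have := mul_left_cancel (mul_left_cancel h)
    rw [this]
  obtain ⟨-, -, h2⟩ := w_inj h1
  exact h2

theorem card_le (h2 : (2 : F) ≠ 0) (h3 : (3 : F) ≠ 0) (p : ℕ) [Fact p.Prime] [CharP F p] :
    Nat.card (centralizer ({y F} : Set ↥(chevG2.group F))) ≤ Nat.card F ^ 2 := by
  classical
  have := Fintype.ofFinite F
  have hfin : Finite ↥(chevG2.group F) := inferInstance
  choose v hv hvy using ucon (F := F) h2 h3
  have h1 : Nat.card (F × F × F × F × centralizer ({y F} : Set ↥(chevG2.group F))) ≤ Nat.card (U F) := by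
    refine Nat.card_le_card_of_injective (fun x => ⟨v x.1 x.2.1 x.2.2.1 x.2.2.2.1 * x.2.2.2.2,
      mul_mem (hv _ _ _ _) (cent_le p x.2.2.2.2.2)⟩) ?_
    rintro ⟨c, d, e, f, s⟩ ⟨c', d', e', f', s'⟩ h
    have h4 : v c d e f * (s : ↥(chevG2.group F)) = v c' d' e' f' * s' := congrArg Subtype.val h
    have hs := mem_centralizer_singleton_iff.1 s.2
    have hs' := mem_centralizer_singleton_iff.1 s'.2
    have e1 : ∀ (g x : ↥(chevG2.group F)), g * y F = y F * g → x⁻¹ * w' 1 1 c d e f * x = y F →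
        w' 1 1 c d e f = (x * g) * y F * (x * g)⁻¹ := by
      intro g x hg hx
      rw [mul_assoc x g, hg, ← hx]
      group
    have e2 : ∀ (g x : ↥(chevG2.group F)), g * y F = y F * g → x⁻¹ * w' 1 1 c' d' e' f' * x = y F →
        w' 1 1 c' d' e' f' = (x * g) * y F * (x * g)⁻¹ := by
      intro g x hg hx
      rw [mul_assoc x g, hg, ← hx]
      group
    have h5 := e1 s _ hs (hvy c d e f)
    have h6 := e2 s' _ hs' (hvy c' d' e' f')
    rw [h4, ← h6] at h5
    obtain ⟨rfl, rfl, rfl, rfl⟩ := w'_inj h5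
    have h7 := mul_left_cancel h4
    rw [Subtype.ext h7]
  rw [card_U, Nat.card_prod, Nat.card_prod, Nat.card_prod, Nat.card_prod] at h1
  have hq : 0 < Nat.card F := Nat.card_pos
  refine le_of_mul_le_mul_left ?_ (pow_pos hq 4)
  calc Nat.card F ^ 4 * Nat.card (centralizer ({y F} : Set ↥(chevG2.group F))) =
      Nat.card F * (Nat.card F * (Nat.card F * (Nat.card F * Nat.card
        (centralizer ({y F} : Set ↥(chevG2.group F)))))) := by ring
    _ ≤ _ := h1
    _ = _ := by ring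

/-! ### the powers -/

theorem cmp_w (p : ℕ) [Fact p.Prime] [CharP F p] (b a c d e f : F) :
    Cmp hpG2 CoxeterMatrix.G₂.toCoxeterSystem 0 ((w b a c d e f : ↥(chevG2.group F)) : GL chevG2.Idx F) a ∧
      Cmp hpG2 CoxeterMatrix.G₂.toCoxeterSystem 1 ((w b a c d e f : ↥(chevG2.group F)) : GL chevG2.Idx F) b := by
  have h0 := cmp_wordG (hp := hpG2) (cs := CoxeterMatrix.G₂.toCoxeterSystem) p 0
    (chevG2.posRoots.map fun r => (r, tt b a c d e f r)) (by
      intro c hc
      obtain ⟨r, hr, rfl⟩ := List.mem_map.1 hc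
      rw [ChevalleyDatum.posRoots, List.mem_filter] at hr
      exact of_decide_eq_true hr.2)
  have h1 := cmp_wordG (hp := hpG2) (cs := CoxeterMatrix.G₂.toCoxeterSystem) p 1
    (chevG2.posRoots.map fun r => (r, tt b a c d e f r)) (by
      intro c hc
      obtain ⟨r, hr, rfl⟩ := List.mem_map.1 hc
      rw [ChevalleyDatum.posRoots, List.mem_filter] at hr
      exact of_decide_eq_true hr.2)
  have e1 : chevG2.simple 0 = 7 := by decide
  have e2 : chevG2.simple 1 = 6 := by decide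
  constructor
  · rw [coe_w]
    have e : cw chevG2 ((0 : Fin 2) : ℕ) (chevG2.posRoots.map fun r => (r, tt b a c d e f r)) = a := by
      rw [posRoots_eq]
      simp [cw, e1, tt]
    rw [e] at h0
    exact h0
  · rw [coe_w]
    have e : cw chevG2 ((1 : Fin 2) : ℕ) (chevG2.posRoots.map fun r => (r, tt b a c d e f r)) = b := by
      rw [posRoots_eq]
      simp [cw, e2, tt]
    rw [e] at h1
    exact h1

theorem cmp_y (p : ℕ) [Fact p.Prime] [CharP F p] (i : Fin 2) :
    Cmp hpG2 CoxeterMatrix.G₂.toCoxeterSystem i ((y F : ↥(chevG2.group F)) : GL chevG2.Idx F) 1 := by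
  have h := cmp_wordG (hp := hpG2) (cs := CoxeterMatrix.G₂.toCoxeterSystem) (K := F) p i [(7, 1), (6, 1)]
    (by
      intro c hc
      simp only [List.mem_cons, List.not_mem_nil, or_false] at hc
      rcases hc with rfl | rfl
      · show chevG2.IsPosRoot 7
        decide
      · show chevG2.IsPosRoot 6
        decide)
  have e : ((y F : ↥(chevG2.group F)) : GL chevG2.Idx F) = wordG hpG2.inList [(7, 1), (6, 1)] := by
    rw [wordG_cons, wordG_cons, wordG_nil, mul_one]
    rfl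
  rw [e]
  have e2 : cw chevG2 (i : ℕ) ([(7, 1), (6, 1)] : List (ℕ × F)) = 1 := by
    fin_cases i
    · have e1 : chevG2.simple 0 = 7 := by decide
      simp [cw, e1]
    · have e1 : chevG2.simple 1 = 6 := by decide
      simp [cw, e1]
  rw [e2] at h
  exact h

theorem cmp_pow (p : ℕ) [Fact p.Prime] [CharP F p] (i : Fin 2) (k : ℕ) :
    Cmp hpG2 CoxeterMatrix.G₂.toCoxeterSystem i ((y F ^ k : ↥(chevG2.group F)) : GL chevG2.Idx F) (k : F) := by
  induction k with
  | zero =>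
    rw [pow_zero, Nat.cast_zero]
    exact cmp_one
  | succ k ih =>
    rw [pow_succ, Nat.cast_succ]
    exact Cmp.mul p ih (cmp_y p i)

theorem isConj_pow (h2 : (2 : F) ≠ 0) (h3 : (3 : F) ≠ 0) (p : ℕ) [Fact p.Prime] [CharP F p] {k : ℕ} (hk : ¬ p ∣ k) :
    IsConj (y F) (y F ^ k) := by
  obtain ⟨b, a, c, d, e, f, h⟩ := exists_w (pow_mem (y_mem (F := F)) k)
  have hk0 : (k : F) ≠ 0 := fun h0 => hk ((CharP.cast_eq_zero_iff F p k).1 h0)
  have h0 := cmp_pow (F := F) p 0 k
  have h1 := cmp_pow (F := F) p 1 k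
  rw [h] at h0 h1
  have ha : a = k := ((cmp_w p b a c d e f).1).unique p h0
  have hb : b = k := ((cmp_w p b a c d e f).2).unique p h1
  rw [h]
  exact isConj h2 h3 (ha ▸ hk0) (hb ▸ hk0) c d e f

theorem y_ne_one (p : ℕ) [Fact p.Prime] [CharP F p] : y F ≠ 1 := by
  intro h
  have h1 := cmp_y (F := F) p 0
  rw [h] at h1
  have h2 := h1.unique p cmp_one
  exact one_ne_zero h2

theorem orderOf_y (p : ℕ) [hp : Fact p.Prime] [CharP F p] : ∃ n, orderOf (y F) = p ^ n := by
  have := Fintype.ofFinite F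
  obtain ⟨f, -, hK⟩ := FiniteField.card F p
  have hU : Nat.card (U F) = p ^ ((f : ℕ) * 6) := by
    rw [card_U, Nat.card_eq_fintype_card, hK, pow_mul]
  have h1 : IsPGroup p (U F) := IsPGroup.of_card hU
  have hfin : Finite ↥(chevG2.group F) := inferInstance
  obtain ⟨n, hn⟩ := (IsPGroup.iff_orderOf.1 h1) ⟨y F, y_mem⟩
  refine ⟨n, ?_⟩
  rw [← hn]
  exact (Subgroup.orderOf_mk (y F) y_mem).symm

/-- `|C(y)| = q²` -/
theorem card_eq (h2 : (2 : F) ≠ 0) (h3 : (3 : F) ≠ 0) (p : ℕ) [Fact p.Prime] [CharP F p] :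
    Nat.card (centralizer ({y F} : Set ↥(chevG2.group F))) = Nat.card F ^ 2 := by
  refine le_antisymm (card_le h2 h3 p) ?_
  have hfin : Finite ↥(chevG2.group F) := inferInstance
  have key : ∀ u : U F, ∃ k : F × F × F × F,
      (u : ↥(chevG2.group F)) * y F * (u : ↥(chevG2.group F))⁻¹ = w 1 1 k.1 k.2.1 k.2.2.1 k.2.2.2 := by
    intro u
    obtain ⟨b, a, c, d, e, f, h⟩ := exists_w (mul_mem (mul_mem u.2 (y_mem (F := F))) (inv_mem u.2))
    obtain ⟨b', a', c', d', e', f', h'⟩ := exists_w u.2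
    have hc : ∀ i : Fin 2, Cmp hpG2 CoxeterMatrix.G₂.toCoxeterSystem i
        (((u : ↥(chevG2.group F)) * y F * (u : ↥(chevG2.group F))⁻¹ : ↥(chevG2.group F)) : GL chevG2.Idx F) 1 := by
      intro i
      obtain ⟨s, hs⟩ : ∃ s, Cmp hpG2 CoxeterMatrix.G₂.toCoxeterSystem i
          ((u : ↥(chevG2.group F)) : GL chevG2.Idx F) s := by
        rw [h']
        fin_cases i
        · exact ⟨_, (cmp_w p b' a' c' d' e' f').1⟩
        · exact ⟨_, (cmp_w p b' a' c' d' e' f').2⟩
      have h1 := (hs.mul p (cmp_y p i)).mul p (hs.inv p)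
      rw [show s + 1 + -s = 1 by ring] at h1
      exact h1
    have h0 := hc 0
    have h1 := hc 1
    rw [h] at h0 h1
    have ha : a = 1 := ((cmp_w p b a c d e f).1).unique p h0
    have hb : b = 1 := ((cmp_w p b a c d e f).2).unique p h1
    refine ⟨(c, d, e, f), ?_⟩
    rw [h, ha, hb]
  choose k hk using key
  have hle := cent_le (F := F) p
  have h4 : Nat.card (U F ⧸ (centralizer ({y F} : Set ↥(chevG2.group F))).subgroupOf (U F)) ≤
      Nat.card (F × F × F × F) := by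
    refine Nat.card_le_card_of_injective (fun c => k c.out) ?_
    intro c c' h
    have h5 : k c.out = k c'.out := h
    have h6 := hk c.out
    rw [h5, ← hk c'.out] at h6
    rw [← Quotient.out_eq c, ← Quotient.out_eq c']
    refine Quotient.sound ?_
    rw [← Quotient.eq_iff_equiv, QuotientGroup.eq]
    rw [mem_subgroupOf, mem_centralizer_singleton_iff]
    push_cast
    have h7 : ∀ g g' y : ↥(chevG2.group F), g * y * g⁻¹ = g' * y * g'⁻¹ → g⁻¹ * g' * y = y * (g⁻¹ * g') := by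
      intro g g' y h
      have h8 : y = g⁻¹ * (g' * y * g'⁻¹) * g := by rw [← h]; group
      calc g⁻¹ * g' * y = (g⁻¹ * (g' * y * g'⁻¹) * g) * (g⁻¹ * g') := by group
        _ = y * (g⁻¹ * g') := by rw [← h8]
    exact h7 _ _ _ h6
  have h5 := Subgroup.card_mul_index ((centralizer ({y F} : Set ↥(chevG2.group F))).subgroupOf (U F))
  rw [Nat.card_congr (Subgroup.subgroupOfEquivOfLe hle).toEquiv, card_U] at h5
  rw [Nat.card_prod, Nat.card_prod, Nat.card_prod] at h4
  have hq : 0 < Nat.card F := Nat.card_pos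
  refine le_of_mul_le_mul_right ?_ (pow_pos hq 4)
  calc Nat.card F ^ 2 * Nat.card F ^ 4 = Nat.card F ^ 6 := by ring
    _ = _ := h5.symm
    _ ≤ Nat.card (centralizer ({y F} : Set ↥(chevG2.group F))) * (Nat.card F * (Nat.card F * (Nat.card F * Nat.card F))) :=
      Nat.mul_le_mul_left _ h4
    _ = _ := by ring

/-- **Regular unipotent elements.** -/
theorem exists_reg (F : Type u) [Field F] [Finite F] (h2 : (2 : F) ≠ 0) (h3 : (3 : F) ≠ 0) (p : ℕ) [Fact p.Prime]
    [CharP F p] : ∃ y : ↥(chevG2.group F), (∃ n, orderOf y = p ^ n) ∧ y ≠ 1 ∧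
      Nat.card (centralizer ({y} : Set ↥(chevG2.group F))) = Nat.card F ^ 2 ∧
      ∀ k : ℕ, ¬ p ∣ k → IsConj y (y ^ k) :=
  ⟨y F, orderOf_y p, y_ne_one p, card_eq h2 h3 p, fun _ hk => isConj_pow h2 h3 p hk⟩

end fin

end Cfsg.Agent.H347.TC.RegU
end

-- part: H347/TC/GFiveZ
section
/-!
# `G₂(5)`: no irreducible character of degree `192` or `216` (helper347, S2464)
-/

set_option autoImplicit false

open Cfsg Subgroup

namespace Cfsg.Agent.H347.TC.GFive

open Cfsg.Lie Cfsg.Agent.ChevalleyStructure Cfsg.Agent.ChevalleyStructure.Elts Cfsg.Agent.Characters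
open Cfsg.Agent.Omega.TwoF.GTwoLB (inG2 X X_add X_eq_one X_comm rel0)
open Cfsg.Agent.ChevalleyStructure.WordCheck (PExpr check xw wval wordMat_eq_of_check)

universe u

variable {F : Type u} [Field F]

/-- the element of order three -/
def w3 : List (ℕ × PExpr) := [(7, .const 1), (4, .const 2), (7, .const 1), (4, .const 2), (7, .const 1), (4, .const 2)]

/-- the element of order six -/
def w6 : List (ℕ × PExpr) := [(7, .const 1), (4, .const 4), (7, .const 1), (4, .const 4), (7, .const 1), (4, .const 4),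
  (7, .const 1), (4, .const 4), (7, .const 1), (4, .const 4), (7, .const 1), (4, .const 4)]

/-- the action of its cube -/
def wl : List (ℕ × PExpr) := [(7, .const 1), (4, .const 4), (7, .const 1), (4, .const 4), (7, .const 1), (4, .const 4),
  (6, .const 1)]
def wr : List (ℕ × PExpr) := [(6, .const (-1)), (7, .const 1), (4, .const 4), (7, .const 1), (4, .const 4), (7, .const 1),
  (4, .const 4)]

theorem chk3 : check chevG2 5 0 0 (xw w3) (xw []) = true := by decide +kernel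
theorem chk6 : check chevG2 5 0 0 (xw w6) (xw []) = true := by decide +kernel
theorem chkl : check chevG2 5 0 0 (xw wl) (xw wr) = true := by decide +kernel

theorem coe_prod (l : List (ℕ × F)) :
    (((l.map fun p => X p.1 p.2).prod : ↥(chevG2.group F)) : GL chevG2.Idx F) = wordG inG2 l := by
  induction l with
  | nil => simp only [wordG_nil, _root_.List.map_nil, _root_.List.prod_nil, _root_.OneMemClass.coe_one]
  | cons a l ih =>
    rw [List.map_cons, List.prod_cons, Subgroup.coe_mul, ih, wordG_cons]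
    rfl

theorem eq_of_check (h5 : (5 : F) = 0) {w1 w2 : List (ℕ × PExpr)} (h : check chevG2 5 0 0 (xw w1) (xw w2) = true)
    (l1 l2 : List (ℕ × F)) (e1 : wval (fun _ : ℕ => (0 : F)) w1 = l1) (e2 : wval (fun _ : ℕ => (0 : F)) w2 = l2) :
    ((l1.map fun p => X p.1 p.2).prod : ↥(chevG2.group F)) = (l2.map fun p => X p.1 p.2).prod := by
  have h1 := wordMat_eq_of_check chevG2 (fun _ : ℕ => (0 : F)) 5 0 0 w1 w2 h (by exact_mod_cast h5)
    (fun i hi => absurd hi (Nat.not_lt_zero i))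
  rw [e1, e2, ← coe_wordG inG2, ← coe_wordG inG2] at h1
  apply Subtype.ext
  rw [coe_prod, coe_prod]
  exact Units.ext h1

/-- `X 4` and `X 7` commute with `X 11` -/
theorem c74 (t u v : F) : (X 7 t * X 4 u) * X 11 v = X 11 v * (X 7 t * X 4 u) := by
  have h1 : X 11 v * X 7 t = X 7 t * X 11 v :=
    rel0 (r := 7) (s := 11) (by norm_num) (by norm_num) (by decide) (by decide) (by decide +kernel) t v
  have h2 : X 11 v * X 4 u = X 4 u * X 11 v :=
    rel0 (r := 4) (s := 11) (by norm_num) (by norm_num) (by decide) (by decide) (by decide +kernel) u v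
  rw [mul_assoc, ← h2, ← mul_assoc, ← h1, mul_assoc]

/-- opposite root groups -/
theorem x74 (t u : F) (h : X 7 t * X 4 u = 1) : t = 0 := by
  have h1 : X 7 t = (X 4 u)⁻¹ := eq_inv_of_mul_eq_one_left h
  have hp : ((X 7 t : ↥(chevG2.group F)) : GL chevG2.Idx F) ∈ chevG2.posUnipotent F :=
    xG_mem_posUnipotent inG2 (by decide) t
  have hn : ((X 7 t : ↥(chevG2.group F)) : GL chevG2.Idx F) ∈ chevG2.negUnipotent F := by
    rw [h1, Subgroup.coe_inv]
    refine inv_mem (Subgroup.subset_closure ⟨4, u, by decide, ?_⟩)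
    exact coe_xG inG2 4 u
  have h2 := (S1037.result (F := F) chevG2 (by simp)).1
  have h3 : ((X 7 t : ↥(chevG2.group F)) : GL chevG2.Idx F) ∈ chevG2.borelSubgroup F ⊓ chevG2.negUnipotent F :=
    ⟨Subgroup.mem_sup_left hp, hn⟩
  rw [h2, Subgroup.mem_bot] at h3
  exact (X_eq_one (by norm_num)).1 (Subtype.ext h3)

variable [Finite F]

theorem six_dvd (h5 : (5 : F) = 0) : 6 ∣ Nat.card (centralizer ({X (F := F) 11 1} : Set ↥(chevG2.group F))) := by
  have := Fintype.ofFinite F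
  have hfin : Finite ↥(chevG2.group F) := inferInstance
  have h2 : (2 : F) ≠ 0 := by
    intro h
    have : (1 : F) = 0 := by
      have : (1 : F) = 5 - 2 * 2 := by norm_num
      rw [this, h5, h]; ring
    exact one_ne_zero this
  have hmem : ∀ a : ↥(chevG2.group F), a * X 11 1 = X 11 1 * a →
      orderOf a ∣ Nat.card (centralizer ({X (F := F) 11 1} : Set ↥(chevG2.group F))) := by
    intro a ha
    have h := _root_.orderOf_dvd_natCard (⟨a, mem_centralizer_singleton_iff.2 ha⟩ : centralizer ({X (F := F) 11 1} : Set _))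
    rwa [Subgroup.orderOf_mk] at h
  -- order three
  have h3 : (X 7 1 * X 4 2 : ↥(chevG2.group F)) ^ 3 = 1 := by
    have h := eq_of_check h5 chk3 [(7, 1), (4, 2), (7, 1), (4, 2), (7, 1), (4, 2)] [] (by simp [wval, w3, PExpr.denote])
      rfl
    simp only [List.map_cons, List.map_nil, List.prod_cons, List.prod_nil, mul_one] at h
    simp only [pow_succ, pow_zero, one_mul, mul_assoc]
    exact h
  have h3' : (X 7 1 * X 4 2 : ↥(chevG2.group F)) ≠ 1 := fun h => one_ne_zero (x74 _ _ h)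
  have hp3 : Fact (Nat.Prime 3) := ⟨Nat.prime_three⟩
  have ho3 := orderOf_eq_prime h3 h3'
  have hd3 := hmem _ (c74 1 2 1)
  rw [ho3] at hd3
  -- order two
  have h6 : ((X 7 1 * X 4 4 : ↥(chevG2.group F)) ^ 3) ^ 2 = 1 := by
    have h := eq_of_check h5 chk6 [(7, 1), (4, 4), (7, 1), (4, 4), (7, 1), (4, 4), (7, 1), (4, 4), (7, 1), (4, 4),
      (7, 1), (4, 4)] [] (by simp [wval, w6, PExpr.denote]) rfl
    simp only [List.map_cons, List.map_nil, List.prod_cons, List.prod_nil, mul_one] at h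
    rw [← pow_mul]
    simp only [Nat.reduceMul, pow_succ, pow_zero, one_mul, mul_assoc]
    exact h
  have h6' : (X 7 1 * X 4 4 : ↥(chevG2.group F)) ^ 3 ≠ 1 := by
    intro h0
    have h := eq_of_check h5 chkl [(7, 1), (4, 4), (7, 1), (4, 4), (7, 1), (4, 4), (6, 1)]
      [(6, -1), (7, 1), (4, 4), (7, 1), (4, 4), (7, 1), (4, 4)] (by simp [wval, wl, PExpr.denote])
      (by simp [wval, wr, PExpr.denote])
    simp only [List.map_cons, List.map_nil, List.prod_cons, List.prod_nil, mul_one] at h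
    have e : (X 7 1 * X 4 4 : ↥(chevG2.group F)) ^ 3 = X 7 1 * (X 4 4 * (X 7 1 * (X 4 4 * (X 7 1 * X 4 4)))) := by
      simp only [pow_succ, pow_zero, one_mul, mul_assoc]
    have e1 : (X 7 1 * (X 4 4 * (X 7 1 * (X 4 4 * (X 7 1 * (X 4 4 * X 6 1))))) : ↥(chevG2.group F)) =
        (X 7 1 * X 4 4 : ↥(chevG2.group F)) ^ 3 * X 6 1 := by rw [e]; simp only [mul_assoc]
    rw [e1, ← e, h0, one_mul, mul_one] at h
    have h7 : X 6 (1 + 1 : F) = 1 := by
      rw [X_add]
      nth_rw 1 [h]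
      rw [← X_add, neg_add_cancel, Cfsg.Agent.Omega.TwoF.GTwoLB.X_zero]
    have h8 := (X_eq_one (by norm_num)).1 h7
    apply h2
    rw [← h8]
    norm_num
  have hp2 : Fact (Nat.Prime 2) := ⟨Nat.prime_two⟩
  have ho2 := orderOf_eq_prime h6 h6'
  have hd2 := hmem _ ((show Commute (X 7 1 * X 4 4 : ↥(chevG2.group F)) (X 11 1) from c74 1 4 1).pow_left 3)
  rw [ho2] at hd2
  exact Nat.Coprime.mul_dvd_of_dvd_of_dvd (by norm_num : Nat.Coprime 2 3) hd2 hd3

/-- **The degrees.** -/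
theorem deg_ne [IsSimpleGroup ↥(chevG2.group F)] (hF : Nat.card F = 5) (χ : IrrCharacter ↥(chevG2.group F))
    (hχ : (χ : ↥(chevG2.group F) → ℂ) ≠ 1) :
    100 ≤ charDegree (χ : ↥(chevG2.group F) → ℂ) ∧ charDegree (χ : ↥(chevG2.group F) → ℂ) ≠ 192 ∧
      charDegree (χ : ↥(chevG2.group F) → ℂ) ≠ 216 := by
  have := Fintype.ofFinite F
  have hfin : Finite ↥(chevG2.group F) := inferInstance
  have h5 : ((5 : ℕ) : F) = 0 := by
    rw [← hF, Nat.card_eq_fintype_card]
    exact FiniteField.cast_card_eq_zero F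
  have h5' : (5 : F) = 0 := by exact_mod_cast h5
  have h3 : (3 : F) ≠ 0 := by
    intro h
    have : (1 : F) = 0 := by
      have : (1 : F) = 3 * 2 - 5 := by norm_num
      rw [this, h5', h]; ring
    exact one_ne_zero this
  obtain ⟨N, hN1, hN, hle⟩ := Cfsg.Agent.H347.TC.Zint.g2_mult h3 χ hχ
  rw [hF] at hN hle
  obtain ⟨k, hk⟩ := six_dvd (F := F) h5'
  have hcard : Nat.card ↥(chevG2.group F) = 5859000000 := by
    rw [S1059.result (q := 5) (by rw [← hF, Nat.card_eq_fintype_card])]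
    norm_num
  have hidx := Subgroup.index_mul_card (centralizer ({X (F := F) 11 1} : Set ↥(chevG2.group F)))
  rw [hcard, hk] at hidx
  -- integrality
  have hint := Blocks.Elementary.isIntegral_centralChar χ.2 (X 11 1)
  obtain ⟨n, hn⟩ := Core.isCharacter_apply_one (Core.isIrr_isCharacter χ.2)
  have hdn := Blocks.Basic.charDegree_of_eq hn
  rw [hdn] at hN hle ⊢
  have hn100 : 100 ≤ n := by linarith only [hN1, hle]
  have hdvd : (n : ℤ) ∣ (centralizer ({X (F := F) 11 1} : Set ↥(chevG2.group F))).index * ((n : ℤ) - 125 * N) := by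
    refine J3Type.CharTools.dvd_of_integral (by omega) hint ?_
    rw [centralChar, hN, hn]
    have : (n : ℂ) ≠ 0 := by exact_mod_cast (by omega : n ≠ 0)
    push_cast
    field_simp
  generalize (centralizer ({X (F := F) 11 1} : Set ↥(chevG2.group F))).index = I at hidx hdvd
  have hI : I ∣ 976500000 := by
    have h6 : 6 * (I * k) = 5859000000 := by rw [← hidx]; ring
    exact ⟨k, by omega⟩
  obtain ⟨j, hj⟩ := hI
  have hdvd2 : (n : ℤ) ∣ 976500000 * ((n : ℤ) - 125 * N) := by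
    have e : (976500000 : ℤ) * ((n : ℤ) - 125 * N) = (I * ((n : ℤ) - 125 * N)) * j := by
      have : (976500000 : ℤ) = I * j := by exact_mod_cast hj
      rw [this]; ring
    rw [e]
    exact Dvd.dvd.mul_right hdvd _
  refine ⟨hn100, ?_, ?_⟩
  · rintro rfl
    have hN' : N = 1 := by omega
    subst hN'
    norm_num at hdvd2
  · rintro rfl
    have hN' : N = 1 ∨ N = 2 := by (clear * - hN1 hle; omega)
    rcases hN' with rfl | rfl <;> norm_num at hdvd2

end Cfsg.Agent.H347.TC.GFive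
end

-- part: H347/TC/FiveNum
section
/-!
# `G₂(5)`: the numbers of the `31`-block (helper347, S2464)
-/

set_option autoImplicit false

namespace Cfsg.Agent.H347.TC.FiveNum

/-- the divisors of `5859000000 = |G₂(5)|` -/
def dv : List ℕ := (List.range 7).flatMap fun a => (List.range 4).flatMap fun b => (List.range 7).flatMap fun c =>
  (List.range 2).flatMap fun e => (List.range 2).map fun f => 2 ^ a * (3 ^ b * (5 ^ c * (7 ^ e * 31 ^ f)))

theorem mem_dv {d : ℕ} (h : d ∣ 5859000000) : d ∈ dv := by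
  have e : 5859000000 = 2 ^ 6 * (3 ^ 3 * (5 ^ 6 * (7 ^ 1 * 31 ^ 1))) := by norm_num
  rw [e] at h
  obtain ⟨a, r1, ha, h1, rfl⟩ := Nat.dvd_mul.1 h
  obtain ⟨b, r2, hb, h2, rfl⟩ := Nat.dvd_mul.1 h1
  obtain ⟨c, r3, hc, h3, rfl⟩ := Nat.dvd_mul.1 h2
  obtain ⟨x, y, hx, hy, rfl⟩ := Nat.dvd_mul.1 h3
  obtain ⟨a, ha6, rfl⟩ := (Nat.dvd_prime_pow Nat.prime_two).1 ha
  obtain ⟨b, hb6, rfl⟩ := (Nat.dvd_prime_pow Nat.prime_three).1 hb
  obtain ⟨c, hc6, rfl⟩ := (Nat.dvd_prime_pow Nat.prime_five).1 hc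
  obtain ⟨x, hx6, rfl⟩ := (Nat.dvd_prime_pow (show Nat.Prime 7 by norm_num)).1 hx
  obtain ⟨y, hy6, rfl⟩ := (Nat.dvd_prime_pow (show Nat.Prime 31 by norm_num)).1 hy
  simp only [dv, List.mem_flatMap, List.mem_map, List.mem_range]
  exact ⟨a, by omega, b, by omega, c, by omega, x, by omega, y, by omega, rfl⟩

theorem chkO : ∀ d ∈ dv, (d % 31 = 1 ∨ d % 31 = 30) → d % 5 ≠ 0 → d = 1 ∨ d = 32 ∨ d = 63 ∨ d = 216 ∨ d = 2016 := by
  decide +kernel

theorem chkE : ∀ d ∈ dv, (d % 31 = 6 ∨ d % 31 = 25) → d % 5 ≠ 0 → d = 6 ∨ d = 56 ∨ d = 192 ∨ d = 378 ∨ d = 12096 := by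
  decide +kernel

theorem chkP : ∀ d ∈ dv, d % 31 = 1 → d % 5 = 0 → 8065 + d ∉ dv := by
  decide +kernel

theorem chkM : ∀ d ∈ dv, d % 31 = 30 → d % 5 = 0 → (d < 8065 → 8065 - d ∉ dv) ∧ (8065 < d → d - 8065 ∉ dv) := by
  decide +kernel

theorem main {ι : Type*} [DecidableEq ι] (S : Finset ι) (hS : S.card = 5) (ε v : ι → ℤ) (deg : ι → ℕ) (d w : ℤ) (D : ℕ)
    (hε : ∀ i ∈ S, ε i = 1 ∨ ε i = -1) (hd : d = 1 ∨ d = -1) (hdeg : ∀ i ∈ S, deg i ∣ 5859000000)
    (hres : ∀ i ∈ S, ∃ m : ℤ, (deg i : ℤ) = ε i + 31 * m) (hv : ∀ i ∈ S, (5 : ℤ) ∣ v i - deg i)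
    (hno : ∀ i ∈ S, deg i ≠ 1 ∧ deg i ≠ 32 ∧ deg i ≠ 63 ∧ deg i ≠ 216)
    (hD : D ∣ 5859000000) (hDr : ∃ m : ℤ, (D : ℤ) = d * 6 + 31 * m) (hw : (5 : ℤ) ∣ w - D)
    (hDno : D ≠ 6 ∧ D ≠ 56 ∧ D ≠ 192) (h1 : ∑ i ∈ S, ε i * v i = d * w - 1)
    (h2 : ∑ i ∈ S, v i ^ 2 + 5 * w ^ 2 ≤ 24) (h3 : ∑ i ∈ S, ε i * (deg i : ℤ) = d * D - 1) : ∀ i ∈ S, v i = 0 := by
  have hw0 : 0 ≤ 5 * w ^ 2 := by (clear * -; positivity)
  have hS0 : 0 ≤ ∑ i ∈ S, v i ^ 2 := Finset.sum_nonneg fun _ _ => by positivity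
  -- the values
  have key : ∀ i ∈ S, (v i = 0 ∧ deg i % 5 = 0) ∨ (deg i = 2016 ∧ ε i = 1 ∧ (v i = 1 ∨ v i = -4)) := by
    intro i hi
    have h4 : v i ^ 2 ≤ 24 := by
      have := Finset.single_le_sum (f := fun i => v i ^ 2) (fun _ _ => by positivity) hi
      linarith
    have h5 : -5 < v i ∧ v i < 5 := by constructor <;> nlinarith only [h4]
    obtain ⟨m, hm⟩ := hres i hi
    obtain ⟨k, hk⟩ := hv i hi
    have hr : deg i % 31 = 1 ∨ deg i % 31 = 30 := by
      rcases hε i hi with h | h <;> rw [h] at hm <;> omega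
    by_cases h6 : deg i % 5 = 0
    · left
      refine ⟨by (clear * - h5 hk h6; omega), h6⟩
    · right
      have hno' := hno i hi
      have h7 := chkO _ (mem_dv (hdeg i hi)) hr h6
      have h8 : deg i = 2016 := by (clear * - hno' h7; omega)
      rw [h8] at hm hk
      refine ⟨h8, ?_, by omega⟩
      rcases hε i hi with h | h
      · exact h
      · rw [h] at hm
        omega
  -- the sums
  set T := (S.filter fun i => v i = 1).card with hT
  set T' := (S.filter fun i => v i = -4).card with hT'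
  have e1 : ∑ i ∈ S, ε i * v i = (T : ℤ) - 4 * T' := by
    have : ∀ i ∈ S, ε i * v i = (if v i = 1 then 1 else 0) + (if v i = -4 then -4 else 0) := by
      intro i hi
      rcases key i hi with ⟨h, -⟩ | ⟨-, h, h' | h'⟩
      · rw [h]; norm_num
      · rw [h, h']; norm_num
      · rw [h, h']; norm_num
    rw [Finset.sum_congr rfl this, Finset.sum_add_distrib, ← Finset.sum_filter, ← Finset.sum_filter, Finset.sum_const,
      Finset.sum_const, ← hT, ← hT']
    simp only [nsmul_eq_mul]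
    ring
  have e2 : ∑ i ∈ S, v i ^ 2 = (T : ℤ) + 16 * T' := by
    have : ∀ i ∈ S, v i ^ 2 = (if v i = 1 then 1 else 0) + (if v i = -4 then 16 else 0) := by
      intro i hi
      rcases key i hi with ⟨h, -⟩ | ⟨-, h, h' | h'⟩
      · rw [h]; norm_num
      · rw [h']; norm_num
      · rw [h']; norm_num
    rw [Finset.sum_congr rfl this, Finset.sum_add_distrib, ← Finset.sum_filter, ← Finset.sum_filter, Finset.sum_const,
      Finset.sum_const, ← hT, ← hT']
    simp only [nsmul_eq_mul]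
    ring
  rw [e1] at h1
  rw [e2] at h2
  have h5w : -3 < w ∧ w < 3 := by
    have hT0 : (0 : ℤ) ≤ T := by (clear * -; positivity)
    have hT0' : (0 : ℤ) ≤ T' := by (clear * -; positivity)
    constructor <;> nlinarith only [h2]
  obtain ⟨m, hm⟩ := hDr
  obtain ⟨k, hk⟩ := hw
  have hDr' : D % 31 = 6 ∨ D % 31 = 25 := by
    rcases hd with h | h <;> rw [h] at hm <;> omega
  by_cases h6 : D % 5 = 0
  · -- `w = 0`
    have hw1 : w = 0 := by (clear * - h5w hk h6; omega)
    subst hw1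
    exfalso
    have hTT : T' = 1 ∧ T = 3 := by
      have h7 : d * 0 - 1 = -1 := by ring
      rw [h7] at h1
      have h8 : (5 : ℤ) * 0 ^ 2 = 0 := by norm_num
      rw [h8] at h2
      (clear * - hS0 h2 h1; omega)
    -- the degrees
    have e3 : ∑ i ∈ S, ε i * (deg i : ℤ) = 2016 * (T : ℤ) + 2016 * T' +
        ∑ i ∈ S.filter (fun i => v i = 0), ε i * (deg i : ℤ) := by
      have : ∀ i ∈ S, ε i * (deg i : ℤ) = (if v i = 1 then 2016 else 0) + (if v i = -4 then 2016 else 0) +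
          (if v i = 0 then ε i * (deg i : ℤ) else 0) := by
        intro i hi
        rcases key i hi with ⟨h, -⟩ | ⟨h0, h, h' | h'⟩
        · rw [h]; norm_num
        · rw [h, h', h0]; norm_num
        · rw [h, h', h0]; norm_num
      rw [Finset.sum_congr rfl this, Finset.sum_add_distrib, Finset.sum_add_distrib, ← Finset.sum_filter,
        ← Finset.sum_filter, ← Finset.sum_filter, Finset.sum_const, Finset.sum_const, ← hT, ← hT']
      simp only [nsmul_eq_mul]
      ring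
    have e4 : (S.filter fun i => v i = 0).card = 1 := by
      have : S.card = T + T' + (S.filter fun i => v i = 0).card := by
        have h9 : ∀ i ∈ S, (1 : ℕ) = (if v i = 1 then 1 else 0) + (if v i = -4 then 1 else 0) +
            (if v i = 0 then 1 else 0) := by
          intro i hi
          rcases key i hi with ⟨h, -⟩ | ⟨-, -, h' | h'⟩
          · rw [h]; norm_num
          · rw [h']; norm_num
          · rw [h']; norm_num
        rw [Finset.card_eq_sum_ones, Finset.sum_congr rfl h9, Finset.sum_add_distrib, Finset.sum_add_distrib,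
          ← Finset.sum_filter, ← Finset.sum_filter, ← Finset.sum_filter, ← Finset.card_eq_sum_ones,
          ← Finset.card_eq_sum_ones, ← Finset.card_eq_sum_ones]
      (clear * - hS h1 this; omega)
    obtain ⟨j, hj⟩ := Finset.card_eq_one.1 e4
    rw [hj, Finset.sum_singleton, hTT.1, hTT.2, h3] at e3
    have hjm : j ∈ S.filter fun i => v i = 0 := by rw [hj]; exact Finset.mem_singleton_self j
    obtain ⟨hjS, hj0⟩ := Finset.mem_filter.1 hjm
    have hj5 : deg j % 5 = 0 := by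
      rcases key j hjS with ⟨-, h⟩ | ⟨-, -, h | h⟩
      · exact h
      · rw [hj0] at h; exact absurd h (by norm_num)
      · rw [hj0] at h; exact absurd h (by norm_num)
    obtain ⟨m', hm'⟩ := hres j hjS
    have hjd := mem_dv (hdeg j hjS)
    have hDd := mem_dv hD
    rcases hε j hjS with h | h
    · rw [h] at e3 hm'
      have h7 := chkP _ hjd (by (clear * - hm'; omega)) hj5
      rcases hd with h' | h'
      · rw [h'] at e3
        apply h7
        have : 8065 + deg j = D := by push_cast at e3; (clear * - e3; omega)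
        rw [this]; exact hDd
      · rw [h'] at e3
        push_cast at e3
        (clear * - e3; omega)
    · rw [h] at e3 hm'
      have h7 := chkM _ hjd (by (clear * - hm'; omega)) hj5
      rcases hd with h' | h'
      · rw [h'] at e3
        have hD0 : 0 < D := Nat.pos_of_dvd_of_pos hD (by norm_num)
        refine h7.1 (by push_cast at e3; (clear * - hm' e3; omega)) ?_
        have : 8065 - deg j = D := by push_cast at e3; (clear * - e3; omega)
        rw [this]; exact hDd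
      · rw [h'] at e3
        have hD0 : 0 < D := Nat.pos_of_dvd_of_pos hD (by norm_num)
        refine h7.2 (by push_cast at e3; (clear * - hm' e3; omega)) ?_
        have : deg j - 8065 = D := by push_cast at e3; (clear * - e3; omega)
        rw [this]; exact hDd
  · have h7 := chkE _ (mem_dv hD) hDr' h6
    have h8 : D = 378 ∨ D = 12096 := by (clear * - hDno h7; omega)
    have hd1 : d = 1 := by
      rcases hd with h | h
      · exact h
      · rw [h] at hm
        rcases h8 with h8 | h8 <;> rw [h8] at hm <;> omega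
    have hTT : T = 0 ∧ T' = 0 := by
      rw [hd1] at h1
      rcases h8 with h8 | h8
      · rw [h8] at hk
        have hw2 : w = -2 := by (clear * - h5w hk; omega)
        rw [hw2] at h1 h2
        norm_num at h1 h2
        omega
      · rw [h8] at hk
        have hw2 : w = 1 := by (clear * - h5w hk; omega)
        rw [hw2] at h1 h2
        norm_num only [] at h1 h2
        (clear * - h1 h2; omega)
    intro i hi
    rcases key i hi with ⟨h, -⟩ | ⟨-, -, h | h⟩
    · exact h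
    · exfalso
      have := Finset.card_eq_zero.1 hTT.1
      exact Finset.notMem_empty i (this ▸ Finset.mem_filter.2 ⟨hi, h⟩)
    · exfalso
      have := Finset.card_eq_zero.1 hTT.2
      exact Finset.notMem_empty i (this ▸ Finset.mem_filter.2 ⟨hi, h⟩)

end Cfsg.Agent.H347.TC.FiveNum
end

-- part: H347/TC/GFive
section
/-!
# S2464, the row `G₂(5)` (helper347)

`x` of order `31`, `y` regular unipotent: every `g ≠ 1` is a product of a conjugate of `x` and a conjugate of `y`.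
(The argument of helper332: `GP.lean`.)
-/

set_option autoImplicit false

open Cfsg Subgroup

namespace Cfsg.Agent.H347.TC.GFive

open Cfsg.Lie Cfsg.Agent.Characters Cfsg.Agent.H65.Ore Cfsg.Agent.H332.TC.GP

universe u

section abs

variable {G : Type u} [Group G] [Finite G]

/-- a self-centralizing cyclic torus of prime order is a Sylow subgroup -/
theorem sylow_of_tor {r w : ℕ} (hr : r.Prime) {A T : Subgroup G} (h : H641.TC6.TorD G r r w A T)
    (h1 : ¬ r ^ 2 ∣ Nat.card G) : ∃ P : Sylow r G, Nat.card (P : Subgroup G) = r ∧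
      (∀ x ∈ (P : Subgroup G), x ≠ 1 → centralizer ({x} : Set G) = P) ∧
      centralizer ((P : Subgroup G) : Set G) = (P : Subgroup G) ∧
      (centralizer ((P : Subgroup G) : Set G)).relIndex (normalizer ((P : Subgroup G) : Set G)) = w := by
  have := Fact.mk hr
  have hAT : A = T := Subgroup.eq_of_le_of_card_ge h.le (by rw [h.cardA, h.cardT])
  have hrd : r ^ 1 ∣ Nat.card G := by
    rw [pow_one, ← h.cardA]
    exact Subgroup.card_subgroup_dvd_card A
  have hf : (Nat.card G).factorization r = 1 := by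
    have h2 := (hr.pow_dvd_iff_le_factorization (Nat.card_pos (α := G)).ne').1 hrd
    by_contra h3
    exact h1 ((hr.pow_dvd_iff_le_factorization (Nat.card_pos (α := G)).ne').2 (by omega))
  have hA : Nat.card A = r ^ (Nat.card G).factorization r := by rw [h.cardA, hf, pow_one]
  have hcent : ∀ x ∈ A, x ≠ 1 → centralizer ({x} : Set G) = A := fun x hx hx1 => by rw [h.cent x hx hx1, hAT]
  have hC : centralizer (A : Set G) = A := by
    apply le_antisymm
    · obtain ⟨a, ha, ha1⟩ : ∃ a ∈ A, a ≠ 1 := by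
        by_contra hcon
        push Not at hcon
        have h2 : A = ⊥ := (Subgroup.eq_bot_iff_forall A).2 hcon
        have h3 := h.cardA
        rw [h2, Subgroup.card_bot] at h3
        exact hr.one_lt.ne h3
      exact (centralizer_le (Set.singleton_subset_iff.2 ha)).trans (hcent a ha ha1).le
    · intro x hx
      rw [mem_centralizer_iff]
      intro y hy
      exact H641.TC6.comm_of_cyc h.cycT (h.le hy) (h.le hx)
  refine ⟨Sylow.ofCard A hA, h.cardA, hcent, hC, ?_⟩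
  show (centralizer (A : Set G)).relIndex (normalizer (A : Set G)) = w
  rw [hC]
  have h2 := Subgroup.card_mul_index (A.subgroupOf (normalizer (A : Set G)))
  rw [Nat.card_congr (Subgroup.subgroupOfEquivOfLe (le_normalizer (H := A))).toEquiv, h.cardN, h.cardA] at h2
  refine Nat.eq_of_mul_eq_mul_left hr.pos ?_
  rw [mul_comm r w]
  exact h2

/-- elements of order `r` -/
theorem conj_mem_sylow {r : ℕ} [Fact r.Prime] (P : Sylow r G) (z : G) (hz : orderOf z = r) :
    ∃ c : G, c * z * c⁻¹ ∈ (P : Subgroup G) := by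
  have h1 : IsPGroup r (zpowers z) := IsPGroup.of_card (n := 1) (by rw [Nat.card_zpowers, hz, pow_one])
  obtain ⟨Q, hQ⟩ := h1.exists_le_sylow
  obtain ⟨c, hc⟩ := MulAction.exists_smul_eq G Q P
  refine ⟨c, ?_⟩
  have h2 : z ∈ (Q : Subgroup G) := hQ (mem_zpowers z)
  rw [← hc]
  exact ⟨z, h2, rfl⟩

end abs

variable {F : Type u} [Field F] [Finite F]

/-- **S2464, row `G₂(5)`.** -/
theorem six_g2_five (hF : Nat.card F = 5) : ∃ x y : ↥(chevG2.group F), Nat.Coprime (orderOf x) 6 ∧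
    Nat.Coprime (orderOf y) 6 ∧ ∀ g : ↥(chevG2.group F), g ≠ 1 → ∃ u v : ↥(chevG2.group F),
      g = (u * x * u⁻¹) * (v * y * v⁻¹) := by
  classical
  have := Fintype.ofFinite F
  have hfin : Finite ↥(chevG2.group F) := inferInstance
  have hFt : Fintype.card F = 5 := by rw [← hF, Nat.card_eq_fintype_card]
  have hp5 : Nat.Prime 5 := by norm_num
  have hp31 : Nat.Prime 31 := by norm_num
  have : Fact (Nat.Prime 5) := ⟨hp5⟩
  have : Fact (Nat.Prime 31) := ⟨hp31⟩
  have h5 : ((5 : ℕ) : F) = 0 := by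
    rw [← hFt]
    exact FiniteField.cast_card_eq_zero F
  have : CharP F 5 := (CharP.charP_iff_prime_eq_zero hp5).2 h5
  have hne : ∀ n : ℕ, 0 < n → n < 5 → (n : F) ≠ 0 := by
    intro n hn hn5 h
    have := (CharP.cast_eq_zero_iff F 5 n).1 h
    exact absurd (Nat.le_of_dvd hn this) (by omega)
  have h2 : (2 : F) ≠ 0 := by exact_mod_cast hne 2 (by norm_num) (by norm_num)
  have h3 : (3 : F) ≠ 0 := by exact_mod_cast hne 3 (by norm_num) (by norm_num)
  have hsimple : IsSimpleGroup ↥(chevG2.group F) := by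
    refine (S1055.result (F := F) ⟨2, h2, fun h => ?_⟩).1
    have : (1 : F) = 0 := by linear_combination h
    exact one_ne_zero this
  have hcard : Nat.card ↥(chevG2.group F) = 5859000000 := by
    rw [S1059.result hFt]
    norm_num
  -- the torus
  obtain ⟨A, T, hT⟩ := H641.TC6.tor3_G2 (F := F) (q := 5) hFt (by norm_num)
  have eN : H946.Num.N3 5 = 31 := by decide
  have ec : H983.KG2.c3 5 = 31 := by decide
  rw [eN, ec] at hT
  obtain ⟨P, hP, hPc, hPC, hPi⟩ := sylow_of_tor hp31 hT (by rw [hcard]; norm_num)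
  have : Finite (IrrCharacter ↥(chevG2.group F)) := Core.finite_irr
  have := Fintype.ofFinite (IrrCharacter ↥(chevG2.group F))
  obtain ⟨B⟩ := exists_blk (r := 31) (by norm_num) hP hPC hPi (t := 5) (by norm_num)
  -- the regular unipotent element
  obtain ⟨y, ⟨n, hyo⟩, hy1, hyc, hyr⟩ := RegU.exists_reg F h2 h3 5
  rw [hF] at hyc
  have hEne : B.E.Nonempty := Finset.card_pos.1 (by rw [B.cE]; norm_num)
  obtain ⟨v, w, D, hv, hvD, hED, hwD, hDm, hDG, hs1, hs2, hs3⟩ :=
    B.vals hp31 hEne hp5 (by norm_num) hyo hyr hyc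
  have hne1 : ∀ χ : IrrCharacter ↥(chevG2.group F), χ ≠ one1 _ → 100 ≤ charDegree (χ : ↥(chevG2.group F) → ℂ) ∧
      charDegree (χ : ↥(chevG2.group F) → ℂ) ≠ 192 ∧ charDegree (χ : ↥(chevG2.group F) → ℂ) ≠ 216 :=
    fun χ hχ => deg_ne hF χ (coe_ne_one hχ)
  have hE1 : ∀ Θ ∈ B.E, Θ ≠ one1 _ := fun Θ hΘ h => Finset.disjoint_left.1 B.dis B.one (h ▸ hΘ)
  obtain ⟨Θ₀, hΘ₀⟩ := hEne
  have hD0 := hne1 Θ₀ (hE1 Θ₀ hΘ₀)
  rw [hED Θ₀ hΘ₀] at hD0
  have hmain := FiveNum.main (B.F.erase (one1 _)) (by rw [Finset.card_erase_of_mem B.one, B.cF]) B.ε v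
    (fun χ : IrrCharacter ↥(chevG2.group F) => charDegree (χ : ↥(chevG2.group F) → ℂ)) B.d w D
    (fun χ hχ => B.sg χ (Finset.mem_erase.1 hχ).2) B.hd
    (fun χ _ => by rw [← hcard]; exact Blocks.Knorr.charDegree_dvd χ.2)
    (fun χ hχ => by
      obtain ⟨m, hm⟩ := B.resF χ (Finset.mem_erase.1 hχ).2
      exact ⟨m, by exact_mod_cast hm⟩)
    (fun χ _ => by exact_mod_cast hvD χ)
    (fun χ hχ => by
      have := hne1 χ (Finset.mem_erase.1 hχ).1
      refine ⟨by omega, by omega, by omega, this.2.2⟩)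
    (by rw [← hcard]; exact hDG)
    (by obtain ⟨m, hm⟩ := hDm; exact ⟨m, by exact_mod_cast hm⟩)
    (by exact_mod_cast hwD) (by refine ⟨by omega, by omega, hD0.2.1⟩)
    hs1 (by push_cast at hs2 ⊢; linarith only [hfin, hs2]) hs3
  -- the element of order 31
  obtain ⟨x, hx, hx1⟩ : ∃ x ∈ (P : Subgroup ↥(chevG2.group F)), x ≠ 1 := by
    by_contra hcon
    push Not at hcon
    have h4 : (P : Subgroup ↥(chevG2.group F)) = ⊥ := (Subgroup.eq_bot_iff_forall _).2 hcon
    rw [h4, Subgroup.card_bot] at hP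
    exact absurd hP (by norm_num)
  have hxo : orderOf x = 31 := by
    have h4 : orderOf x ∣ 31 := by
      rw [← hP]
      have := _root_.orderOf_dvd_natCard (⟨x, hx⟩ : (P : Subgroup ↥(chevG2.group F)))
      rwa [Subgroup.orderOf_mk] at this
    rcases (Nat.dvd_prime hp31).1 h4 with h | h
    · exact absurd (orderOf_eq_one_iff.1 h) hx1
    · exact h
  refine ⟨x, y, by rw [hxo]; norm_num, by rw [hyo]; exact Nat.Coprime.pow_left n (by norm_num), fun g hg => ?_⟩
  obtain ⟨u, v', h⟩ := B.prd hp31 hP hPc (fun z hz => conj_mem_sylow P z hz) hx hx1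
    (by rw [hyo]; exact fun h => absurd ((Nat.prime_dvd_prime_iff_eq hp31 hp5).1 (hp31.dvd_of_dvd_pow h)) (by norm_num))
    ⟨Θ₀, hΘ₀⟩ (fun Θ hΘ => by have := (hne1 Θ (hE1 Θ hΘ)).1; omega)
    (Or.inl fun χ hχ hχ1 => by
      rw [hv χ, hmain χ (Finset.mem_erase.2 ⟨hχ1, hχ⟩)]
      norm_num) hg
  exact ⟨u, v', h⟩

end Cfsg.Agent.H347.TC.GFive
end

private theorem dce_f086c0e0d07c : _root_.True := by
  try have : _root_.True := by simp only [_root_.Cfsg.Agent.H347.TC.RegU.tt.eq_4]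
  try have : _root_.True := by simp only [_root_.Cfsg.Agent.H347.TC.GFive.w6.eq_1]
  try have : _root_.True := by simp only [_root_.Cfsg.Agent.H347.TC.RegU.tt.eq_2]
  try have : _root_.True := by simp only [_root_.Cfsg.Agent.H347.TC.RegU.tt.eq_3]
  try have : _root_.True := by simp only [_root_.Cfsg.Agent.H347.TC.RegU.tt.eq_6]
  try have : _root_.True := by simp only [_root_.Cfsg.Agent.H347.TC.RegU.tt.eq_5]
  try have : _root_.True := by simp only [_root_.Cfsg.Agent.H347.TC.RegU.U.eq_1]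
  try have : _root_.True := by simp only [_root_.Cfsg.Agent.H347.TC.RegU.tt.eq_7]
  try have : _root_.True := by simp only [_root_.Cfsg.Agent.H97.TC.H5.P.eq_1]
  try have : _root_.True := by simp only [_root_.Cfsg.Agent.H347.TC.GFive.wr.eq_1]
  try have : _root_.True := by simp only [_root_.Cfsg.Agent.H347.TC.FiveNum.dv.eq_1]
  try have : _root_.True := by simp only [_root_.Cfsg.Agent.H347.TC.RegU.tt.eq_1]
  try have : _root_.True := by simp only [_root_.Cfsg.Agent.H347.TC.GFive.wl.eq_1]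
  try have : _root_.True := by simp only [_root_.Cfsg.Agent.H347.TC.GFive.w3.eq_1]
  exact _root_.True.intro
end
end
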